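import Cfsg.Agent.Lib.OddTrans.Fam

/-!
Automorphisms of odd prime order of a rank one pairing fixing a member, or a whole block.
-/

set_option autoImplicit false
set_option linter.unusedSectionVars false
set_option linter.style.haveILetI false

namespace CfsgLib.OddTrans

open Cfsg MulAction Relation CfsgLib.RankOnePoint
open CfsgLib.RootInv (mul_self inv_eq ne_one)
open scoped Pointwise

universe u

variable {X : Type u} [Group X] [Finite X] {D : Set X} {m p e : ℕ}

theorem aut_mem (θ : MulAut X) {x : X} {S : Sylow 2 X} (hx : x ∈ (S : Subgroup X)) :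
    θ x ∈ ((θ • S : Sylow 2 X) : Subgroup X) := by
  have := Subgroup.smul_mem_pointwise_smul x θ (S : Subgroup X) hx
  rwa [MulAut.smul_def] at this

theorem exists_ne_one_mem (h : Facts X m p e) (S : Sylow 2 X) : ∃ x ∈ (S : Subgroup X), x ≠ 1 := by
  by_contra hn
  push Not at hn
  have h1 : (S : Subgroup X) = ⊥ := (Subgroup.eq_bot_iff_forall _).mpr hn
  have h2 := h.card_sylow S
  rw [h1, Subgroup.card_bot] at h2
  haveI := h.simple
  have := h.q_le_p
  have := h.q_four
  omega

namespace IsRankOnePairing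

variable (R : IsRankOnePairing X D m p e)
include R

theorem aut_smul (θ : MulAut X) (g : X) (S : Sylow 2 X) : θ • (g • S) = θ g • θ • S := by
  haveI := R.pair.simple
  obtain ⟨x, hx, hx1⟩ := exists_ne_one_mem R.facts S
  refine R.facts.eq_of_mem (x := θ g * θ x * (θ g)⁻¹) (fun e1 => hx1 ?_) ?_ (conj_mem_point (aut_mem θ hx))
  · exact θ.injective (by rw [map_one]; exact conj_eq_one_iff.mp e1)
  · rw [← map_inv, ← map_mul, ← map_mul]
    exact aut_mem θ (conj_mem_point hx)

/-- A fixed member gives a fixed point and a second one. -/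
theorem exists_fixed_point {θ : MulAut X} {l : ℕ} (hl : l.Prime) (hl2 : l ≠ 2) (hθl : θ ^ l = 1) {x : X}
    (hx : x ∈ D) (hfx : θ x = x) {K : Sylow 2 X} (hK : x ∈ (K : Subgroup X)) :
    θ • K = K ∧ ∃ L : Sylow 2 X, L ≠ K ∧ θ • L = L := by
  classical
  haveI := R.pair.simple
  haveI := Fact.mk hl
  haveI : Fact (Nat.Prime 2) := ⟨Nat.prime_two⟩
  have hθK : θ • K = K := R.facts.eq_of_mem (ne_one R.pair.odd.1 hx) (hfx ▸ aut_mem θ hK) hK
  refine ⟨hθK, ?_⟩
  let σ : Equiv.Perm {S : Sylow 2 X // S ≠ K} :=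
    (MulAction.toPerm θ).subtypePerm fun S => by
      show θ • S ≠ K ↔ S ≠ K
      exact ⟨fun h e1 => h (e1 ▸ hθK), fun h e1 => h (smul_left_cancel θ (e1.trans hθK.symm))⟩
  haveI := Fintype.ofFinite (Sylow 2 X)
  have hcard : ¬ l ∣ Fintype.card {S : Sylow 2 X // S ≠ K} := by
    rw [Fintype.card_subtype_compl, Fintype.card_subtype_eq, ← Nat.card_eq_fintype_card, R.facts.card_points,
      Nat.add_sub_cancel, ← R.facts.card_sylow K]
    obtain ⟨j, hj⟩ := IsPGroup.iff_card.mp K.isPGroup'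
    rw [hj]
    exact fun hd => hl2 ((Nat.prime_dvd_prime_iff_eq hl Nat.prime_two).mp (hl.dvd_of_dvd_pow hd))
  obtain ⟨⟨L, hL⟩, hfix⟩ := Equiv.Perm.exists_fixed_point_of_prime (p := l) (n := 1) hcard (σ := σ) (by
    rw [pow_one, Equiv.Perm.subtypePerm_pow]
    refine Equiv.ext fun S => Subtype.ext ?_
    show ((MulAction.toPermHom (MulAut X) (Sylow 2 X) θ) ^ l) S.1 = S.1
    rw [← map_pow, hθl, map_one]; rfl)
  exact ⟨L, hL, congrArg Subtype.val hfix⟩

/-- A fixed member gives a fixed opposite. -/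
theorem exists_fixed_opposite {θ : MulAut X} {l : ℕ} (hl : l.Prime) (hl2 : l ≠ 2) (hθl : θ ^ l = 1) {x : X}
    (hx : x ∈ D) (hfx : θ x = x) : ∃ r ∈ D, θ r = r ∧ ¬ Commute r x := by
  haveI := R.pair.simple
  obtain ⟨K, hK⟩ := exists_sylow_mem (mul_self R.pair.odd.1 hx)
  obtain ⟨hθK, L, hLK, hθL⟩ := R.exists_fixed_point hl hl2 hθl hx hfx hK
  have hx1 := ne_one R.pair.odd.1 hx
  set L' := x • L with hL'
  have hθL' : θ • L' = L' := by rw [hL', R.aut_smul, hfx, hθL]
  have hL'L : L' ≠ L := fun e1 => hx1 (R.facts.eq_one_of_fix hLK hK e1)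
  have hL'K : L' ≠ K := fun e1 => hLK (smul_left_cancel x (e1.trans (smul_eq_self hK).symm))
  obtain ⟨r, hr, hrK⟩ := R.facts.move hLK.symm hL'L
  have hfr : θ r = r := by
    refine R.facts.move_inj hLK.symm (hθL ▸ aut_mem θ hr) hr ?_
    rw [hrK]
    calc θ r • K = θ r • θ • K := by rw [hθK]
      _ = θ • (r • K) := (R.aut_smul θ r K).symm
      _ = L' := by rw [hrK, hθL']
  have hr1 : r ≠ 1 := fun e1 => hL'K (by rw [← hrK, e1, one_smul])
  obtain ⟨r', hr', hfr', hr'D⟩ : ∃ r' ∈ (L : Subgroup X), θ r' = r' ∧ r' ∈ D := by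
    by_cases h2 : r * r = 1
    · exact ⟨r, hr, hfr, (R.mem r).mpr ⟨hr1, h2⟩⟩
    · exact ⟨r * r, mul_mem hr hr, by rw [map_mul, hfr], (R.mem _).mpr ⟨h2, R.facts.sq_sq hr⟩⟩
  refine ⟨r', hr'D, hfr', fun hc => hLK ?_⟩
  exact R.facts.eq_of_mem hx1 ((R.commute_iff hr'D hx hr').mp hc) hK

/-- Fixing a block forces the identity when the order divides `q - 1`. -/
theorem eq_one_of_fix_block {θ : MulAut X} {l : ℕ} (hl : l.Prime) (hl2 : l ≠ 2) (hθl : θ ^ l = 1) {x : X}
    (hx : x ∈ D) (hlq : l ∣ 2 ^ m - 1) (hfix : ∀ z ∈ sameCommutingClass D x, θ z = z) : θ = 1 := by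
  classical
  haveI := R.pair.simple
  haveI := Fact.mk hl
  haveI : Fact (Nat.Prime 2) := ⟨Nat.prime_two⟩
  have hD := R.pair.odd
  obtain ⟨K, hK⟩ := exists_sylow_mem (mul_self hD.1 hx)
  obtain ⟨hθK, L, hLK, hθL⟩ := R.exists_fixed_point hl hl2 hθl hx (hfix x (self_mem_twins hx)) hK
  have hinv : ∀ z ∈ (K : Subgroup X), z * z = 1 → θ z = z := fun z hz hz2 => by
    rcases eq_or_ne z 1 with rfl | hz1
    · exact map_one θ
    · exact hfix z (by rw [R.twins_eq_point hx hK]; exact ⟨(R.mem z).mpr ⟨hz1, hz2⟩, hz⟩)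
  have hθmem : ∀ s ∈ (K : Subgroup X), θ s ∈ (K : Subgroup X) := fun s hs => hθK ▸ aut_mem θ hs
  have hθpow : ∀ s : X, (θ ^ l) s = s := fun s => by rw [hθl]; rfl
  have key : ∀ s ∈ (K : Subgroup X), θ s = s := by
    intro s hs
    obtain ⟨μ, hμ⟩ : ∃ μ, μ = s⁻¹ * θ s := ⟨_, rfl⟩
    have hμK : μ ∈ (K : Subgroup X) := hμ ▸ mul_mem (inv_mem hs) (hθmem s hs)
    have hθs : θ s = s * μ := by rw [hμ, mul_inv_cancel_left]
    have hfμ : θ μ = μ := by
      by_cases hμ2 : μ * μ = 1
      · exact hinv μ hμK hμ2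
      -- the fibres of squaring
      let N := {z : X | z ∈ (K : Subgroup X) ∧ z * z = 1 ∧ z ≠ 1}
      let A : X → Set X := fun z => {v | v ∈ (K : Subgroup X) ∧ v * v = z}
      have hzN : μ * μ ∈ N := ⟨mul_mem hμK hμK, R.facts.sq_sq hμK, hμ2⟩
      have hle : ∀ z₁ ∈ N, ∀ z₂ ∈ N, (A z₁).ncard ≤ (A z₂).ncard := by
        intro z₁ h₁ z₂ h₂
        obtain ⟨d, hd, hdz⟩ := R.facts.torus_trans hLK h₁.1 h₁.2.2 h₁.2.1 h₂.1 h₂.2.2 h₂.2.1
        refine Set.ncard_le_ncard_of_injOn (fun v => d * v * d⁻¹) (fun v hv => ?_)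
          (fun v _ w _ h => mul_left_cancel (mul_right_cancel h)) (Set.toFinite _)
        refine ⟨conj_mem_of_fix (mem_torus.mp hd).1 hv.1, ?_⟩
        rw [← hdz, ← hv.2]; group
      have hnotdvd : ¬ l ∣ (A (μ * μ)).ncard := by
        haveI := Fintype.ofFinite X
        let Big := {v : X | v ∈ (K : Subgroup X) ∧ v * v ≠ 1}
        let Small := {v : X | v ∈ (K : Subgroup X) ∧ v * v = 1}
        have hBS : Big.ncard + Small.ncard = p := by
          rw [← R.facts.card_sylow K, ← Set.ncard_union_eq (Set.disjoint_left.mpr fun v hv hv' => hv.2 hv'.2)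
            (Set.toFinite _) (Set.toFinite _)]
          rw [show Big ∪ Small = ((K : Subgroup X) : Set X) by
            ext v; simp only [Big, Small, Set.mem_union, Set.mem_ofPred_eq, SetLike.mem_coe]; tauto]
          exact (Nat.card_coe_set_eq _).symm
        have hSmall : Small.ncard = 2 ^ m := (Nat.card_coe_set_eq _).symm.trans (R.facts.card_sq_one K)
        have hN : N.ncard = 2 ^ m - 1 := by
          rw [← hSmall, show N = Small \ {1} by
            ext v; simp only [N, Small, Set.mem_sdiff, Set.mem_singleton_iff, Set.mem_ofPred_eq]; tauto]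
          exact Set.ncard_sdiff_singleton_of_mem ⟨one_mem _, mul_one 1⟩
        have hBig : Big.ncard = (A (μ * μ)).ncard * N.ncard := by
          rw [Set.ncard_eq_toFinset_card' Big, Finset.card_eq_sum_card_fiberwise (f := fun v => v * v) (t := N.toFinset)
            (fun v hv => by
              simp only [Big, Finset.mem_coe, Set.mem_toFinset, Set.mem_ofPred_eq] at hv
              exact Set.mem_toFinset.mpr ⟨mul_mem hv.1 hv.1, R.facts.sq_sq hv.1, hv.2⟩)]
          rw [Finset.sum_congr rfl fun z hz => (show _ = (A (μ * μ)).ncard by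
            rw [le_antisymm (hle _ hzN z (Set.mem_toFinset.mp hz)) (hle z (Set.mem_toFinset.mp hz) _ hzN),
              Set.ncard_eq_toFinset_card']
            congr 1
            ext v
            simp only [Big, A, Finset.mem_filter, Set.mem_toFinset, Set.mem_ofPred_eq]
            exact ⟨fun h => ⟨h.1.1, h.2⟩, fun h => ⟨⟨h.1, h.2.symm ▸ (Set.mem_toFinset.mp hz).2.2⟩, h.2⟩⟩),
            Finset.sum_const, smul_eq_mul, ← Set.ncard_eq_toFinset_card', mul_comm]
        rw [hN] at hBig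
        have h4 := R.facts.q_four
        obtain ⟨Q, hQ⟩ : ∃ Q, 2 ^ m = Q + 1 := ⟨2 ^ m - 1, by omega⟩
        rw [hQ, Nat.add_sub_cancel] at hBig hlq
        rw [hQ] at hSmall h4
        rw [hSmall] at hBS
        set n := (A (μ * μ)).ncard
        have h2 : ¬ l ∣ 2 := fun hd => hl2 ((Nat.prime_dvd_prime_iff_eq hl Nat.prime_two).mp hd)
        have hq1 : ¬ l ∣ Q + 1 := fun hd => hl.not_dvd_one ((Nat.dvd_add_right hlq).mp hd)
        have hq2 : ¬ l ∣ Q + 2 := fun hd => h2 ((Nat.dvd_add_right hlq).mp hd)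
        intro hd
        rcases R.facts.kind with ⟨hp, -⟩ | ⟨hp, -, -⟩ | ⟨hp, -⟩ <;> rw [hQ] at hp
        · have hn : n = 0 := by
            rcases Nat.eq_zero_or_pos n with h | h
            · exact h
            · have := Nat.mul_pos h (show 0 < Q by omega)
              omega
          have : (A (μ * μ)).Nonempty := ⟨μ, hμK, rfl⟩
          exact absurd this.ncard_pos (by omega)
        · have hn : n = Q + 1 := Nat.eq_of_mul_eq_mul_right (show 0 < Q by omega) (by nlinarith)
          exact hq1 (hn ▸ hd)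
        · have hn : n = (Q + 1) * (Q + 2) := Nat.eq_of_mul_eq_mul_right (show 0 < Q by omega) (by nlinarith)
          exact (hl.dvd_mul.mp (hn ▸ hd)).elim hq1 hq2
      -- a fixed point in the fibre
      haveI := Fintype.ofFinite X
      let f : A (μ * μ) → A (μ * μ) := fun v => ⟨θ v.1, hθmem _ v.2.1, by
        rw [← map_mul, v.2.2]; exact hinv _ hzN.1 hzN.2.1⟩
      let σ : Equiv.Perm (A (μ * μ)) := Equiv.ofBijective f
        (Finite.injective_iff_bijective.mp fun v w h => Subtype.ext (θ.injective (congrArg Subtype.val h)))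
      have hσp : ∀ (j : ℕ) v, ((σ ^ j) v : X) = (θ ^ j) v.1 := fun j => by
        induction j with
        | zero => intro v; rfl
        | succ j ih =>
          intro v
          rw [pow_succ', Equiv.Perm.mul_apply, pow_succ', MulAut.mul_apply, ← ih]
          rfl
      obtain ⟨⟨c, hc, hc2⟩, hfc'⟩ := Equiv.Perm.exists_fixed_point_of_prime (p := l) (n := 1)
        (α := A (μ * μ)) (by rw [← Nat.card_eq_fintype_card, Nat.card_coe_set_eq]; exact hnotdvd) (σ := σ)
        (Equiv.ext fun v => Subtype.ext (by rw [pow_one, hσp, hθpow]; rfl))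
      have hfc : θ c = c := congrArg Subtype.val hfc'
      -- `c` commutes with `μ`
      have e1 : s * μ * (s * μ) = s * s := by
        rw [← hθs, ← map_mul]; exact hinv _ (mul_mem hs hs) (R.facts.sq_sq hs)
      have e2 : c * (s * μ) * (c * (s * μ)) = c * s * (c * s) := by
        have h := hinv _ (mul_mem (mul_mem hc hs) (mul_mem hc hs)) (R.facts.sq_sq (mul_mem hc hs))
        rwa [map_mul, map_mul, hfc, hθs] at h
      have hsm : s * μ = μ⁻¹ * s := by
        calc s * μ = μ⁻¹ * s⁻¹ * (s * μ * (s * μ)) := by group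
          _ = μ⁻¹ * s := by rw [e1]; group
      have hcomm : μ * c = c * μ := by
        have h1 : μ * c * (s * μ) = c * s := by
          calc μ * c * (s * μ) = (c * s)⁻¹ * (c * (s * μ) * (c * (s * μ))) := by group
            _ = c * s := by rw [e2]; group
        rw [hsm] at h1
        calc μ * c = μ * c * (μ⁻¹ * s) * (s⁻¹ * μ) := by group
          _ = c * μ := by rw [h1]; group
      have hcμ : c * μ⁻¹ * (c * μ⁻¹) = 1 := by
        rw [← pow_two, (show Commute c μ⁻¹ from (show Commute c μ from hcomm.symm).inv_right).mul_pow, pow_two, pow_two,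
          hc2, ← mul_inv_rev, mul_inv_cancel]
      have h := hinv _ (mul_mem hc (inv_mem hμK)) hcμ
      rw [map_mul, hfc, map_inv] at h
      exact inv_injective (mul_left_cancel h)
    have hpow : ∀ j : ℕ, (θ ^ j) s = s * μ ^ j := fun j => by
      induction j with
      | zero => simp
      | succ j ih => rw [pow_succ', MulAut.mul_apply, ih, map_mul, map_pow, hfμ, hθs, pow_succ', mul_assoc]
    have hμl : μ ^ l = 1 := mul_left_cancel (a := s) (by rw [← hpow, hθpow, mul_one])
    obtain ⟨j, hj⟩ := IsPGroup.iff_orderOf.mp K.isPGroup' ⟨μ, hμK⟩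
    rw [Subgroup.orderOf_mk] at hj
    have hd : orderOf μ ∣ l := orderOf_dvd_of_pow_eq_one hμl
    have hμ1 : μ = 1 := orderOf_eq_one_iff.mp (Nat.Coprime.eq_one_of_dvd
      (hj ▸ (((Nat.coprime_primes Nat.prime_two hl).mpr hl2.symm).pow_left j)) hd)
    rw [hθs, hμ1, mul_one]
  -- every point is fixed
  have hpts : ∀ V : Sylow 2 X, θ • V = V := by
    intro V
    rcases eq_or_ne V K with rfl | hV
    · exact hθK
    · obtain ⟨s, hs, rfl⟩ := R.facts.move hLK hV
      rw [R.aut_smul, key s hs, hθL]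
  refine MulEquiv.ext fun r => ?_
  show θ r = r
  have hker : (MulAction.toPermHom X (Sylow 2 X)).ker = ⊥ :=
    (IsSimpleGroup.eq_bot_or_eq_top_of_normal _ inferInstance).resolve_right fun h => by
      obtain ⟨s, hs, hs1⟩ := exists_ne_one_mem R.facts K
      have : s ∈ (MulAction.toPermHom X (Sylow 2 X)).ker := h ▸ Subgroup.mem_top s
      exact hs1 (R.facts.eq_one_of_fix hLK hs (congrArg (fun π : Equiv.Perm (Sylow 2 X) => π L) this))
  have hmem : r⁻¹ * θ r ∈ (MulAction.toPermHom X (Sylow 2 X)).ker := Equiv.ext fun V => by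
    show (r⁻¹ * θ r) • V = V
    rw [mul_smul, inv_smul_eq_iff]
    conv_lhs => rw [← hpts V, ← R.aut_smul, hpts]
  rw [hker, Subgroup.mem_bot, inv_mul_eq_one] at hmem
  exact hmem.symm

end IsRankOnePairing

end CfsgLib.OddTrans
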