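import Mathlib
import Cfsg.Agent.Lib.RootSub.RootClass
import Cfsg.Agent.Lib.RootSub.DisconnectedComm
import Cfsg.Agent.Lib.ThreeTrans.OddTrans

/-!
Odd transpositions: blocks (members with the same commuting members), swappers, the inverter lemma and the fact that
in a simple group only the identity fixes every block.

Blueprint: `blueprint/S5050_helper6.md`.
-/

set_option autoImplicit false
set_option linter.unusedSectionVars false
set_option linter.style.haveILetI false

namespace CfsgLib.OddTrans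

open Cfsg Relation
open CfsgLib.RootInv (mul_self inv_eq ne_one odd_symm odd_conj reach_symm reach_conj)

universe u

variable {G : Type u} [Group G] {D : Set G}

section Basic

variable (hD : IsOddTranspositionSet D)
include hD

theorem commute_or_odd {a b : G} (ha : a ∈ D) (hb : b ∈ D) : Commute a b ∨ OddAdj D a b := by
  by_cases h : Commute a b
  · exact Or.inl h
  · rcases hD.1.pair a ha b hb with e | e | ⟨e, -⟩
    · exact absurd e h
    · exact Or.inr ⟨ha, hb, fun e0 => h (e0 ▸ Commute.refl a), e⟩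
    · exact absurd e (hD.2 a ha b hb)

theorem not_commute_of_odd {a b : G} (h : OddAdj D a b) : ¬ Commute a b := fun hc => h.2.2.1 <| by
  have h1 : (a * b) ^ 2 = 1 := by
    rw [hc.mul_pow, pow_two, pow_two, mul_self hD.1 h.1, mul_self hD.1 h.2.1, one_mul]
  have h2 : a * b = 1 :=
    orderOf_eq_one_iff.mp ((Nat.coprime_two_right.mpr h.2.2.2).eq_one_of_dvd (orderOf_dvd_of_pow_eq_one h1))
  rw [mul_eq_one_iff_eq_inv.mp h2, inv_eq hD.1 h.2.1]

theorem odd_iff {a b : G} (ha : a ∈ D) (hb : b ∈ D) : OddAdj D a b ↔ ¬ Commute a b :=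
  ⟨not_commute_of_odd hD, (commute_or_odd hD ha hb).resolve_left⟩

/-- A product of two commuting members centralises no member opposite to one of them. -/
theorem k_trick {z z' o : G} (hz : z ∈ D) (hz' : z' ∈ D) (hne : z ≠ z') (hc : Commute z z') (ho : OddAdj D z o) :
    ¬ Commute (z * z') o := fun h => by
  refine CfsgLib.RootInv.no_translate hD.1 ho (fun e => hne ?_) ?_ h ?_
  · rw [mul_eq_one_iff_eq_inv.mp e, inv_eq hD.1 hz']
  · exact (Commute.refl z).mul_left hc.symm
  · rw [hc.eq, mul_assoc, mul_self hD.1 hz, mul_one]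
    exact hz'

theorem eq_of_k_trick {z z' o : G} (hz : z ∈ D) (hz' : z' ∈ D) (hc : Commute z z') (ho : OddAdj D z o)
    (h : Commute (z * z') o) : z = z' := by_contra fun hne => k_trick hD hz hz' hne hc ho h

theorem commute_of_sq_commute {a v : G} (ha : a ∈ D) (hv : v ∈ D) {b : G} (hb : b ∈ D)
    (h : a * v * a * v = b) : False := by
  have e : (a * v) ^ 2 = b := by rw [pow_two, ← h]; group
  rcases commute_or_odd hD ha hv with hc | ho
  · refine ne_one hD.1 hb (e ▸ ?_)
    rw [hc.mul_pow, pow_two, pow_two, mul_self hD.1 ha, mul_self hD.1 hv, one_mul]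
  · have hodd : Odd (orderOf ((a * v) ^ 2)) := ho.2.2.2.of_dvd_nat (orderOf_pow_dvd 2)
    rw [e, hD.1.orderOf_eq b hb] at hodd
    exact (Nat.not_odd_iff_even.mpr even_two) hodd

theorem commutingMembers_conj (a g : G) :
    commutingMembers D (g * a * g⁻¹) = (fun x => g * x * g⁻¹) '' commutingMembers D a := by
  ext x
  constructor
  · rintro ⟨hx, hc⟩
    refine ⟨g⁻¹ * x * g, ⟨by simpa using hD.1.conj_mem x hx g⁻¹, ?_⟩, by group⟩
    calc g⁻¹ * x * g * a = g⁻¹ * (x * (g * a * g⁻¹)) * g := by group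
      _ = g⁻¹ * (g * a * g⁻¹ * x) * g := by rw [hc]
      _ = a * (g⁻¹ * x * g) := by group
  · rintro ⟨y, ⟨hy, hc⟩, rfl⟩
    refine ⟨hD.1.conj_mem y hy g, ?_⟩
    calc g * y * g⁻¹ * (g * a * g⁻¹) = g * (y * a) * g⁻¹ := by group
      _ = g * (a * y) * g⁻¹ := by rw [hc]
      _ = _ := by group

theorem self_mem_cm {a : G} (ha : a ∈ D) : a ∈ commutingMembers D a := ⟨ha, rfl⟩

theorem commute_of_twin {a b : G} (hb : b ∈ D) (h : commutingMembers D a = commutingMembers D b) : Commute b a :=
  ((h ▸ self_mem_cm hD hb : b ∈ commutingMembers D a)).2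

theorem commute_twin {a b x : G} (h : commutingMembers D a = commutingMembers D b) (hx : x ∈ D)
    (hc : Commute x a) : Commute x b :=
  ((h ▸ (⟨hx, hc⟩ : x ∈ commutingMembers D a) : x ∈ commutingMembers D b)).2

variable [Finite G]

/-- Members of a line commute with the same members. -/
theorem line_twins {a b : G} (ha : a ∈ D) (hb : b ∈ D) (hab : Commute a b) (hmem : a * b ∈ D) :
    commutingMembers D a = commutingMembers D b := by
  suffices key : ∀ {a b : G}, a ∈ D → b ∈ D → Commute a b → a * b ∈ D →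
      commutingMembers D b ⊆ commutingMembers D a from
    Set.Subset.antisymm (key hb ha hab.symm (hab.eq ▸ hmem)) (key ha hb hab hmem)
  rintro a b ha hb hab hmem x ⟨hx, hc⟩
  refine ⟨hx, ?_⟩
  by_contra hn
  obtain ⟨v, hv, -, e⟩ := CfsgLib.RootInv.flip hD.1 hb hab.eq hmem
    (odd_symm ((odd_iff hD hx ha).mpr hn)) (fun h => not_commute_of_odd hD h (Commute.symm hc))
  exact commute_of_sq_commute hD ha hv hb e

/-- An element centralised by a member and inverted by another makes them commute. -/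
theorem commute_inverter {h u r : G} (hu : u ∈ D) (hr : r ∈ D) (hodd : Odd (orderOf h)) (h1 : h ≠ 1)
    (hinv : u * h * u⁻¹ = h⁻¹) (hc : Commute r h) : Commute r u := by
  by_contra hn
  obtain ⟨g, hg, e⟩ := CfsgLib.RootComm.exists_conj_mem (CfsgLib.RootComm.odd2_of_root hD.1) hr hu
    ((odd_iff hD hr hu).mpr hn).2.2.2
  have hmem : g * h * g⁻¹ ∈ Subgroup.zpowers h ∧ g⁻¹ * h * g ∈ Subgroup.zpowers h := by
    clear e
    induction hg using Subgroup.closure_induction'' with
    | mem y hy =>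
      have : y * h * y⁻¹ ∈ Subgroup.zpowers h ∧ y⁻¹ = y := by
        rcases hy with rfl | rfl
        · exact ⟨by rw [hc.eq, mul_inv_cancel_right]; exact Subgroup.mem_zpowers h, inv_eq hD.1 hr⟩
        · exact ⟨hinv ▸ inv_mem (Subgroup.mem_zpowers h), inv_eq hD.1 hu⟩
      exact ⟨this.1, by nth_rewrite 2 [← this.2]; rw [this.2]; simpa [this.2] using this.1⟩
    | inv_mem y hy =>
      have : y * h * y⁻¹ ∈ Subgroup.zpowers h ∧ y⁻¹ = y := by
        rcases hy with rfl | rfl
        · exact ⟨by rw [hc.eq, mul_inv_cancel_right]; exact Subgroup.mem_zpowers h, inv_eq hD.1 hr⟩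
        · exact ⟨hinv ▸ inv_mem (Subgroup.mem_zpowers h), inv_eq hD.1 hu⟩
      simpa [this.2] using this.1
    | one => simp
    | mul y z _ _ hy hz =>
      refine ⟨?_, ?_⟩
      · obtain ⟨i, hi⟩ := Subgroup.mem_zpowers_iff.mp hz.1
        rw [show y * z * h * (y * z)⁻¹ = y * (z * h * z⁻¹) * y⁻¹ by group, ← hi, ← conj_zpow]
        exact zpow_mem hy.1 i
      · obtain ⟨i, hi⟩ := Subgroup.mem_zpowers_iff.mp hy.2
        rw [show (y * z)⁻¹ * h * (y * z) = z⁻¹ * (y⁻¹ * h * y) * z⁻¹⁻¹ by group, ← hi, ← conj_zpow, inv_inv]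
        exact zpow_mem hz.2 i
  obtain ⟨i, hi⟩ := Subgroup.mem_zpowers_iff.mp hmem.2
  have hcomm : Commute r (g⁻¹ * h * g) := hi ▸ hc.zpow_right i
  have h2 : Commute u h := by
    rw [← e]
    calc g * r * g⁻¹ * h = g * (r * (g⁻¹ * h * g)) * g⁻¹ := by group
      _ = g * (g⁻¹ * h * g * r) * g⁻¹ := by rw [hcomm.eq]
      _ = h * (g * r * g⁻¹) := by group
  rw [h2.eq, mul_inv_cancel_right] at hinv
  have h3 : h ^ 2 = 1 := by rw [pow_two]; exact eq_inv_iff_mul_eq_one.mp hinv
  exact h1 (orderOf_eq_one_iff.mp ((Nat.coprime_two_right.mpr hodd).eq_one_of_dvd (orderOf_dvd_of_pow_eq_one h3)))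

end Basic

/-! ### Swappers -/

/-- The member exchanging the two ends of an odd pair. -/
noncomputable def swap (a w : G) : G := (a * w) ^ (orderOf (a * w) / 2) * a

section Swap

variable (hD : IsOddTranspositionSet D)
include hD

theorem swap_mem_closure (a w : G) : swap a w ∈ Subgroup.closure ({a, w} : Set G) :=
  mul_mem (pow_mem (mul_mem (Subgroup.subset_closure (Set.mem_insert a {w})) (Subgroup.subset_closure (Set.mem_insert_of_mem a rfl))) _)
    (Subgroup.subset_closure (Set.mem_insert a {w}))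

theorem swap_spec {a w : G} (h : OddAdj D a w) : swap a w ∈ D ∧ swap a w * a * swap a w = w := by
  obtain ⟨k, hk⟩ := h.2.2.2
  have ha := mul_self hD.1 h.1
  have hw := mul_self hD.1 h.2.1
  set t := a * w with ht
  have hd : orderOf t / 2 = k := by omega
  have hta : ∀ i : ℕ, a * t ^ i * a = (t ^ i)⁻¹ := fun i => CfsgThreeTrans.inv_conj_pow ha hw i
  have hat : ∀ i : ℕ, a * t ^ i = (t ^ i)⁻¹ * a := fun i => by rw [← hta, mul_assoc, ha, mul_one]
  have h2 : t ^ (k + k) = t⁻¹ := by
    rw [eq_inv_iff_mul_eq_one, ← pow_succ, show k + k + 1 = orderOf t by omega, pow_orderOf_eq_one]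
  have hwt : w = t⁻¹ * a := by rw [ht, mul_inv_rev, inv_eq hD.1 h.2.1, inv_eq hD.1 h.1, mul_assoc, ha, mul_one]
  have hsw : swap a w = t ^ k * a := by rw [swap, ← ht, hd]
  refine ⟨?_, ?_⟩
  · -- a conjugate of `a` by a power of `t`
    have hk2 : ∀ i : ℕ, t ^ i * a * (t ^ i)⁻¹ = t ^ (i + i) * a := fun i => by
      rw [show (t ^ i)⁻¹ = a * t ^ i * a from (hta i).symm, pow_add]
      calc t ^ i * a * (a * t ^ i * a) = t ^ i * (a * a) * t ^ i * a := by group
        _ = _ := by rw [ha, mul_one]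
    have hmem := hD.1.conj_mem a h.1 (t ^ (k * (k + 1)))
    rw [hk2] at hmem
    have e : t ^ (k * (k + 1) + k * (k + 1)) = t ^ k := by
      rw [show k * (k + 1) + k * (k + 1) = orderOf t * k + k by rw [hk]; ring, pow_add, pow_mul, pow_orderOf_eq_one,
        one_pow, one_mul]
    rwa [e, ← hsw] at hmem
  · rw [hsw, hwt, ← h2, pow_add]
    calc t ^ k * a * a * (t ^ k * a) = t ^ k * (a * a) * t ^ k * a := by group
      _ = _ := by rw [ha, mul_one]

theorem swap_eq_conj {a w : G} (h : OddAdj D a w) :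
    ∃ g ∈ Subgroup.closure ({a, w} : Set G), swap a w = g * a * g⁻¹ := by
  obtain ⟨k, hk⟩ := h.2.2.2
  have ha := mul_self hD.1 h.1
  set t := a * w with ht
  have hd : orderOf t / 2 = k := by omega
  have hta : ∀ i : ℕ, a * t ^ i * a = (t ^ i)⁻¹ := fun i =>
    CfsgThreeTrans.inv_conj_pow ha (mul_self hD.1 h.2.1) i
  refine ⟨t ^ (k * (k + 1)), pow_mem (mul_mem (Subgroup.subset_closure (Set.mem_insert a {w}))
    (Subgroup.subset_closure (Set.mem_insert_of_mem a rfl))) _, ?_⟩
  calc swap a w = t ^ (k * (k + 1) + k * (k + 1)) * a := by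
        rw [swap, ← ht, hd, show k * (k + 1) + k * (k + 1) = orderOf t * k + k by rw [hk]; ring, pow_add, pow_mul,
          pow_orderOf_eq_one, one_pow, one_mul]
    _ = t ^ (k * (k + 1)) * (a * a) * t ^ (k * (k + 1)) * a := by rw [ha, mul_one, pow_add]
    _ = t ^ (k * (k + 1)) * a * (a * t ^ (k * (k + 1)) * a) := by group
    _ = _ := by rw [hta]

theorem swap_back {a w : G} (h : OddAdj D a w) : swap a w * w * swap a w = a := by
  obtain ⟨hu, e⟩ := swap_spec hD h
  nth_rewrite 2 [← e]
  have hu2 := mul_self hD.1 hu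
  calc swap a w * (swap a w * a * swap a w) * swap a w
      = (swap a w * swap a w) * a * (swap a w * swap a w) := by group
    _ = a := by rw [hu2, one_mul, mul_one]

theorem swap_odd {a w : G} (h : OddAdj D a w) : OddAdj D (swap a w) a := by
  obtain ⟨hu, e⟩ := swap_spec hD h
  refine (odd_iff hD hu h.1).mpr fun hc => h.2.2.1 ?_
  rw [← e, hc.eq, mul_assoc, mul_self hD.1 hu, mul_one]

theorem closure_cases {a w : G} (ha : a * a = 1) (hw : w * w = 1) {g : G}
    (hg : g ∈ Subgroup.closure ({a, w} : Set G)) : ∃ i : ℤ, g = (a * w) ^ i ∨ g = (a * w) ^ i * a := by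
  set t := a * w with ht
  have hta : ∀ i : ℤ, a * t ^ i = t ^ (-i) * a := fun i => by
    have h1 : a * t * a⁻¹ = t⁻¹ := by
      rw [inv_eq_of_mul_eq_one_right ha, ht, mul_inv_rev, inv_eq_of_mul_eq_one_right ha,
        inv_eq_of_mul_eq_one_right hw, ← mul_assoc, ha, one_mul]
    rw [zpow_neg, ← inv_zpow, ← h1, conj_zpow, inv_mul_cancel_right]
  have hw' : w = t ^ (-1 : ℤ) * a := by
    rw [zpow_neg, zpow_one, ht, mul_inv_rev, inv_eq_of_mul_eq_one_right hw, inv_eq_of_mul_eq_one_right ha, mul_assoc,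
      ha, mul_one]
  induction hg using Subgroup.closure_induction with
  | mem y hy =>
    rcases hy with rfl | rfl
    · exact ⟨0, Or.inr (by simp)⟩
    · exact ⟨-1, Or.inr hw'⟩
  | one => exact ⟨0, Or.inl (by simp)⟩
  | mul y z _ _ hy hz =>
    obtain ⟨i, rfl | rfl⟩ := hy <;> obtain ⟨j, rfl | rfl⟩ := hz
    · exact ⟨i + j, Or.inl (zpow_add t i j).symm⟩
    · exact ⟨i + j, Or.inr (by rw [← mul_assoc, ← zpow_add])⟩
    · exact ⟨i - j, Or.inr (by rw [mul_assoc, hta, ← mul_assoc, ← zpow_add, sub_eq_add_neg])⟩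
    · refine ⟨i - j, Or.inl ?_⟩
      calc t ^ i * a * (t ^ j * a) = t ^ i * (a * t ^ j) * a := by group
        _ = t ^ i * (t ^ (-j) * a) * a := by rw [hta]
        _ = t ^ i * t ^ (-j) * (a * a) := by group
        _ = t ^ (i - j) := by rw [ha, mul_one, ← zpow_add, sub_eq_add_neg]
  | inv y _ hy =>
    obtain ⟨i, rfl | rfl⟩ := hy
    · exact ⟨-i, Or.inl (zpow_neg t i).symm⟩
    · refine ⟨i, Or.inr ?_⟩
      rw [mul_inv_rev, inv_eq_of_mul_eq_one_right ha, ← zpow_neg, hta, neg_neg]

/-- The swapper is the only member of the dihedral group exchanging the ends. -/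
theorem swap_unique {a w v : G} (h : OddAdj D a w) (hv : v ∈ D) (hc : v ∈ Subgroup.closure ({a, w} : Set G))
    (e : v * a * v = w) : v = swap a w := by
  obtain ⟨hu, e'⟩ := swap_spec hD h
  have ha := mul_self hD.1 h.1
  have hu2 := mul_self hD.1 hu
  have hv2 := mul_self hD.1 hv
  set u := swap a w with hudef
  have hga : Commute (u * v) a := by
    show u * v * a = a * (u * v)
    calc u * v * a = u * (v * a * v) * v := by
          rw [show u * (v * a * v) * v = u * v * a * (v * v) by group, hv2, mul_one]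
      _ = u * (u * a * u) * v := by rw [e, e']
      _ = a * (u * v) := by rw [show u * (u * a * u) * v = u * u * a * (u * v) by group, hu2, one_mul]
  obtain ⟨i, hi | hi⟩ := closure_cases hD ha (mul_self hD.1 h.2.1) (mul_mem (swap_mem_closure hD a w) hc)
  all_goals
    have hti : (a * w) ^ i = 1 := by
      have hw2 := mul_self hD.1 h.2.1
      have h1 : a * (a * w) * a⁻¹ = (a * w)⁻¹ := by
        rw [inv_eq hD.1 h.1, mul_inv_rev, inv_eq hD.1 h.1, inv_eq hD.1 h.2.1, ← mul_assoc, ha, one_mul]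
      have h2 : a * (a * w) ^ i * a⁻¹ = ((a * w) ^ i)⁻¹ := by rw [← conj_zpow, h1, inv_zpow]
      have h3 : Commute ((a * w) ^ i) a := by
        first
          | exact hi ▸ hga
          | (have := hga.mul_left (Commute.refl a); rwa [hi, mul_assoc, ha, mul_one] at this)
      rw [← h3.eq, mul_inv_cancel_right] at h2
      have h4 : ((a * w) ^ i) ^ 2 = 1 := by rw [pow_two]; exact eq_inv_iff_mul_eq_one.mp h2
      refine orderOf_eq_one_iff.mp ((Nat.coprime_two_right.mpr ?_).eq_one_of_dvd (orderOf_dvd_of_pow_eq_one h4))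
      exact h.2.2.2.of_dvd_nat (orderOf_dvd_of_mem_zpowers (Subgroup.zpow_mem_zpowers _ i))
    rw [hti] at hi
  · show v = u
    rw [show u = v⁻¹ from mul_eq_one_iff_eq_inv.mp hi, inv_eq hD.1 hv]
  · exfalso
    rw [one_mul] at hi
    apply not_commute_of_odd hD (swap_odd hD h)
    show u * a = a * u
    calc u * a = u * (u * v) := by rw [hi]
      _ = v := by rw [← mul_assoc, hu2, one_mul]
      _ = v⁻¹ * u⁻¹ * u := by rw [inv_eq hD.1 hv, inv_mul_cancel_right]
      _ = (u * v)⁻¹ * u := by rw [mul_inv_rev]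
      _ = a * u := by rw [hi, inv_eq hD.1 h.1]

end Swap

/-! ### Simple pairs -/

/-- A simple group generated by a class of odd transpositions containing a line. -/
structure IsClassPair (G : Type u) [Group G] (D : Set G) : Prop where
  odd : IsOddTranspositionSet D
  cl : IsRootInvolutionClass D
  line : ∃ a ∈ D, ∃ b ∈ D, Commute a b ∧ a * b ∈ D
  simple : IsSimpleGroup G

/-- Members of a class that has two opposite members are joined by opposite pairs. -/
theorem oddConnected_of_class (hD : IsOddTranspositionSet D) (hcl : IsRootInvolutionClass D) {a b : G}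
    (hab : OddAdj D a b) : IsConnectedSet (OddAdj D) D := by
  have hall : ∀ g : G, ReflTransGen (OddAdj D) a (g * a * g⁻¹) := fun g => by
    have hg : g ∈ Subgroup.closure D := hD.1.generates ▸ Subgroup.mem_top g
    have step : ∀ d ∈ D, ∀ x, ReflTransGen (OddAdj D) a x → x ∈ D → ReflTransGen (OddAdj D) a (d * x * d⁻¹) := by
      intro d hd x hx hxD
      rcases commute_or_odd hD hd hxD with hc | ho
      · rwa [hc.eq, mul_inv_cancel_right]
      · refine (hx.trans (ReflTransGen.single (odd_symm ho))).trans ?_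
        have h' := odd_conj hD.1 d ho
        rw [mul_inv_cancel_right] at h'
        exact ReflTransGen.single h'
    suffices ∀ x, ReflTransGen (OddAdj D) a x → x ∈ D → ReflTransGen (OddAdj D) a (g * x * g⁻¹) from
      this a ReflTransGen.refl hab.1
    induction hg using Subgroup.closure_induction'' with
    | mem y hy => exact step y hy
    | inv_mem y hy => rw [inv_eq hD.1 hy]; exact step y hy
    | one => intro x hx _; simpa using hx
    | mul y z _ _ hy hz =>
      intro x hx hxD
      rw [show y * z * x * (y * z)⁻¹ = y * (z * x * z⁻¹) * y⁻¹ by group]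
      exact hy _ (hz x hx hxD) (hD.1.conj_mem x hxD z)
  intro x hx y hy
  obtain ⟨g, rfl⟩ := hcl.2.2 a hab.1 x hx
  obtain ⟨g', rfl⟩ := hcl.2.2 a hab.1 y hy
  exact (reach_symm (hall g)).trans (hall g')

namespace IsClassPair

variable (P : IsClassPair G D)
include P

theorem exists_line {a : G} (ha : a ∈ D) : ∃ b ∈ D, Commute a b ∧ a * b ∈ D := by
  obtain ⟨a₀, ha₀, b₀, hb₀, hc, hab⟩ := P.line
  obtain ⟨g, rfl⟩ := P.cl.2.2 a₀ ha₀ a ha
  refine ⟨g * b₀ * g⁻¹, P.odd.1.conj_mem b₀ hb₀ g, hc.map (MulAut.conj g).toMonoidHom, ?_⟩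
  rw [show g * a₀ * g⁻¹ * (g * b₀ * g⁻¹) = g * (a₀ * b₀) * g⁻¹ by group]
  exact P.odd.1.conj_mem _ hab g

variable [Finite G]

theorem not_comm : ¬ ∀ x y : G, x * y = y * x := by
  intro hc
  haveI := P.simple
  letI : CommGroup G := { ‹Group G› with mul_comm := hc }
  have hp : (Nat.card G).Prime := IsSimpleGroup.prime_card
  obtain ⟨a, ha, b, hb, -, hab⟩ := P.line
  haveI : Fact (Nat.Prime 2) := ⟨Nat.prime_two⟩
  have h2 : 2 ∣ Nat.card G := P.odd.1.orderOf_eq a ha ▸ orderOf_dvd_natCard a
  have hG : Nat.card G = 2 := ((Nat.prime_dvd_prime_iff_eq Nat.prime_two hp).mp h2).symm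
  obtain ⟨x, y, hxy, hu⟩ := Nat.card_eq_two_iff.mp hG
  have key : ∀ z : G, z ≠ 1 → ∀ z' : G, z' ≠ 1 → z = z' := by
    intro z hz z' hz'
    have hz1 : z ∈ ({x, y} : Set G) := hu ▸ Set.mem_univ z
    have hz2 : z' ∈ ({x, y} : Set G) := hu ▸ Set.mem_univ z'
    have h1 : (1 : G) ∈ ({x, y} : Set G) := hu ▸ Set.mem_univ (1 : G)
    simp only [Set.mem_insert_iff, Set.mem_singleton_iff] at hz1 hz2 h1
    grind
  refine ne_one P.odd.1 hab ?_
  rw [key a (ne_one P.odd.1 ha) b (ne_one P.odd.1 hb), mul_self P.odd.1 hb]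

theorem exists_odd : ∃ a b : G, OddAdj D a b := by
  by_contra h
  push Not at h
  apply P.not_comm
  have hc : ∀ a ∈ D, ∀ b ∈ D, Commute a b := fun a ha b hb =>
    (commute_or_odd P.odd ha hb).resolve_right (h a b)
  have : Subgroup.closure D ≤ Subgroup.centralizer D :=
    (Subgroup.closure_le _).mpr fun a ha => Subgroup.mem_centralizer_iff.mpr fun b hb => (hc b hb a ha).eq
  rw [P.odd.1.generates] at this
  intro x y
  have hy : y ∈ Subgroup.centralizer ((Subgroup.closure D : Subgroup G) : Set G) := by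
    rw [Subgroup.centralizer_closure]
    exact this (Subgroup.mem_top y)
  exact Subgroup.mem_centralizer_iff.mp hy x (P.odd.1.generates ▸ Subgroup.mem_top x)

theorem odd_connected : IsConnectedSet (OddAdj D) D := by
  obtain ⟨a, b, hab⟩ := P.exists_odd
  exact oddConnected_of_class P.odd P.cl hab

theorem exists_opposite {a : G} (ha : a ∈ D) : ∃ w, OddAdj D a w := by
  obtain ⟨x, y, hxy⟩ := P.exists_odd
  obtain ⟨g, rfl⟩ := P.cl.2.2 x hxy.1 a ha
  exact ⟨g * y * g⁻¹, odd_conj P.odd.1 g hxy⟩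

theorem center_eq_bot : Subgroup.center G = ⊥ := by
  haveI := P.simple
  refine (IsSimpleGroup.eq_bot_or_eq_top_of_normal _ inferInstance).resolve_right fun e => P.not_comm fun x y => ?_
  exact (Subgroup.mem_center_iff.mp (e ▸ Subgroup.mem_top y) x)

theorem closure_lt {S : Set G} {a : G} (ha : a ∈ D) (hS : ∀ s ∈ S, Commute s a) :
    Nat.card (Subgroup.closure S) < Nat.card G := by
  refine lt_of_le_of_ne (Subgroup.card_le_card_group _) fun e => ne_one P.odd.1 ha ?_
  have htop := Subgroup.eq_top_of_card_eq _ e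
  have hle : Subgroup.closure S ≤ Subgroup.centralizer {a} :=
    (Subgroup.closure_le _).mpr fun s hs => Subgroup.mem_centralizer_singleton_iff.mpr (hS s hs).eq
  rw [htop] at hle
  have hc : a ∈ Subgroup.center G :=
    Subgroup.mem_center_iff.mpr fun g => Subgroup.mem_centralizer_singleton_iff.mp (hle (Subgroup.mem_top g))
  rwa [P.center_eq_bot, Subgroup.mem_bot] at hc

/-- Only the identity fixes every block. -/
theorem eq_one_of_fix_blocks {k : G} (hk : ∀ s ∈ D, commutingMembers D (k * s * k⁻¹) = commutingMembers D s) :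
    k = 1 := by
  let K : Subgroup G :=
    { carrier := {k | ∀ s ∈ D, commutingMembers D (k * s * k⁻¹) = commutingMembers D s}
      one_mem' := fun s _ => by simp
      mul_mem' := fun {x y} hx hy s hs => by
        rw [show x * y * s * (x * y)⁻¹ = x * (y * s * y⁻¹) * x⁻¹ by group, hx _ (P.odd.1.conj_mem s hs y), hy s hs]
      inv_mem' := fun {x} hx s hs => by
        have := hx _ (P.odd.1.conj_mem s hs x⁻¹)
        rw [show x * (x⁻¹ * s * x⁻¹⁻¹) * x⁻¹ = s by group] at this
        exact this.symm }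
  have hKn : K.Normal := ⟨fun x hx g s hs => by
    have h1 := hx _ (P.odd.1.conj_mem s hs g⁻¹)
    rw [show g * x * g⁻¹ * s * (g * x * g⁻¹)⁻¹ = g * (x * (g⁻¹ * s * g⁻¹⁻¹) * x⁻¹) * g⁻¹ by group,
      commutingMembers_conj P.odd, h1, ← commutingMembers_conj P.odd]
    congr 1
    group⟩
  haveI := P.simple
  rcases IsSimpleGroup.eq_bot_or_eq_top_of_normal K hKn with e | e
  · exact Subgroup.mem_bot.mp (e ▸ (show k ∈ K from hk))
  · exfalso
    obtain ⟨a, w, haw⟩ := P.exists_odd
    have h1 : commutingMembers D (a * w * a⁻¹) = commutingMembers D w :=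
      (e ▸ Subgroup.mem_top a : a ∈ K) w haw.2.1
    have h2 := commute_of_twin P.odd haw.2.1 h1
    rw [inv_eq P.odd.1 haw.1] at h2
    have h4 : (a * w) ^ 4 = 1 := by
      calc (a * w) ^ 4 = ((a * w * a) * w) ^ 2 := by simp only [pow_succ, pow_zero, one_mul]; group
        _ = 1 := by
          rw [(show Commute (a * w * a) w from h2.symm).mul_pow, pow_two, pow_two, mul_self P.odd.1 haw.2.1, mul_one]
          calc a * w * a * (a * w * a) = a * w * (a * a) * w * a := by group
            _ = a * (w * w) * a := by rw [mul_self P.odd.1 haw.1, mul_one]; group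
            _ = 1 := by rw [mul_self P.odd.1 haw.2.1, mul_one, mul_self P.odd.1 haw.1]
    have h5 : a * w = 1 := orderOf_eq_one_iff.mp
      (((Nat.coprime_two_right.mpr haw.2.2.2).pow_right 2).eq_one_of_dvd
        ((orderOf_dvd_of_pow_eq_one h4).trans (by norm_num)))
    exact haw.2.2.1 (by rw [mul_eq_one_iff_eq_inv.mp h5, inv_eq P.odd.1 haw.2.1])

end IsClassPair

end CfsgLib.OddTrans
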