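import Mathlib

/-!
An anisotropic quadratic map on a space of `2 ^ k` points to an elementary abelian group of order `2 ^ m` has
`k ≤ 2 m`: each character sum of it has square divisible by `2 ^ k`.
-/

set_option autoImplicit false
set_option linter.unusedSectionVars false
set_option linter.style.haveILetI false

namespace CfsgLib.OddTrans

open Finset

theorem pow_succ_dvd_of_dvd_sq : ∀ {m n : ℕ}, 2 ^ (2 * m + 1) ∣ n * n → 2 ^ (m + 1) ∣ n := by
  intro m
  induction m with
  | zero =>
    intro n h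
    rcases (Nat.Prime.dvd_mul Nat.prime_two).mp (show 2 ∣ n * n by simpa using h) with h' | h' <;> simpa using h'
  | succ m ih =>
    intro n h
    obtain ⟨j, rfl⟩ : 2 ∣ n := by
      rcases (Nat.Prime.dvd_mul Nat.prime_two).mp (dvd_trans (dvd_pow_self 2 (by omega)) h) with h' | h' <;> exact h'
    rw [show 2 * j * (2 * j) = 4 * (j * j) by ring, show 2 ^ (2 * (m + 1) + 1) = 4 * 2 ^ (2 * m + 1) by ring] at h
    rw [pow_succ']
    exact Nat.mul_dvd_mul_left 2 (ih (Nat.dvd_of_mul_dvd_mul_left (by norm_num) h))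

variable {T E Φ : Type*} [CommGroup T] [CommGroup E] [Finite E] [Finite Φ] [MulAction T Φ]

/-- A quadratic map vanishing at one point only has a target of at least square root size. -/
theorem card_le_sq (z : Φ) (htr : ∀ x : Φ, ∃ t : T, t • z = x) (hE : ∀ a : E, a * a = 1) (e : Φ → E)
    (h1 : e z = 1) (hz : ∀ x, e x = 1 → x = z)
    (hB : ∀ t s r : T, e (t • z) * e ((s * r) • z) * e ((t * (s * r)) • z) =
      e (t • z) * e (s • z) * e ((t * s) • z) * (e (t • z) * e (r • z) * e ((t * r) • z)))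
    {k : ℕ} (hk : Nat.card Φ = 2 ^ k) : Nat.card Φ ≤ Nat.card E ^ 2 := by
  classical
  haveI := Fintype.ofFinite Φ
  choose τ hτ using htr
  let B : Φ → Φ → E := fun x y => e x * e y * e (τ x • y)
  have hadd : ∀ x y w, B (τ x • y) w = B x w * B y w := by
    intro x y w
    have h := hB (τ w) (τ x) (τ y)
    have p : (τ x * τ y) • z = τ x • y := by rw [mul_smul, hτ]
    have q : ∀ v, (τ w * τ v) • z = τ v • w := fun v => by rw [mul_comm, mul_smul, hτ]
    have r : (τ w * (τ x * τ y)) • z = τ (τ x • y) • w := by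
      rw [mul_smul, p]
      nth_rewrite 1 [← hτ (τ x • y)]
      rw [← mul_smul, mul_comm, mul_smul, hτ]
    rw [p, q, q, r, hτ, hτ, hτ] at h
    calc B (τ x • y) w = e w * e (τ x • y) * e (τ (τ x • y) • w) := by simp only [B]; ac_rfl
      _ = _ := by rw [h]; simp only [B]; ac_rfl
  have hsum : ∀ χ : E →* ℤ, ((2 : ℤ) ^ k) ∣ (∑ x, χ (e x)) * ∑ x, χ (e x) := by
    intro χ
    have hχ : ∀ a, χ a * χ a = 1 := fun a => by rw [← map_mul, hE, map_one]
    have hperm : ∀ x : Φ, ∑ y, χ (e y) = ∑ y, χ (e (τ x • y)) := fun x =>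
      (Fintype.sum_equiv (MulAction.toPerm (τ x)) _ _ fun y => rfl).symm
    rw [Finset.sum_mul]
    conv =>
      arg 2; arg 2; ext x
      rw [hperm x, Finset.mul_sum]
    rw [Finset.sum_comm]
    refine Finset.dvd_sum fun w _ => ?_
    have hexp : ∀ x, χ (e x) * χ (e (τ x • w)) = χ (e w) * χ (B x w) := fun x => by
      simp only [B, map_mul]
      calc χ (e x) * χ (e (τ x • w)) = (χ (e w) * χ (e w)) * (χ (e x) * χ (e (τ x • w))) := by rw [hχ, one_mul]
        _ = _ := by ring
    rw [Finset.sum_congr rfl fun x _ => hexp x, ← Finset.mul_sum]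
    refine Dvd.dvd.mul_left ?_ _
    by_cases h : ∀ x, χ (B x w) = 1
    · rw [Finset.sum_congr rfl fun x _ => h x, Finset.sum_const, Finset.card_univ, ← Nat.card_eq_fintype_card, hk]
      simp
    · push Not at h
      obtain ⟨x₀, hx₀⟩ := h
      have hm : χ (B x₀ w) = -1 :=
        (mul_self_eq_one_iff.mp (hχ (B x₀ w))).resolve_left hx₀
      have h2 : ∑ x, χ (B x w) = -∑ x, χ (B x w) := by
        conv_lhs => rw [← Fintype.sum_equiv (MulAction.toPerm (τ x₀)) (fun x => χ (B (τ x₀ • x) w)) _ fun x => rfl]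
        rw [← Finset.sum_neg_distrib]
        exact Finset.sum_congr rfl fun x _ => by rw [hadd, map_mul, hm, neg_one_mul]
      rw [show ∑ x, χ (B x w) = 0 by omega]
      exact dvd_zero _
  -- coordinates on the target
  letI : Module (ZMod 2) (Additive E) := AddCommGroup.zmodModule fun a => by
    rw [two_nsmul]; exact congrArg Additive.ofMul (hE a.toMul)
  set m := Module.finrank (ZMod 2) (Additive E) with hm
  have hcardE : Nat.card E = 2 ^ m := by
    rw [← Nat.card_congr (Additive.ofMul : E ≃ Additive E).symm, Module.natCard_eq_pow_finrank (K := ZMod 2), Nat.card_zmod]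
  let b := Module.finBasis (ZMod 2) (Additive E)
  have hz2 : ∀ a c : ZMod 2, (if a + c = 0 then (1 : ℤ) else -1) =
      (if a = 0 then 1 else -1) * (if c = 0 then 1 else -1) := by decide
  let σ : Fin m → E →* ℤ := fun i =>
    { toFun := fun a => if b.repr (Additive.ofMul a) i = 0 then 1 else -1
      map_one' := by simp
      map_mul' := fun a c => by simp only [ofMul_mul, map_add, Finsupp.add_apply]; exact hz2 _ _ }
  have hind : ∀ a : E, ∏ i, (1 + σ i a) = if a = 1 then (2 : ℤ) ^ m else 0 := by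
    intro a
    split
    · next h => subst h; simp [Finset.prod_const, show (1 : ℤ) + 1 = 2 by norm_num]
    · next h =>
      obtain ⟨i, hi⟩ : ∃ i, b.repr (Additive.ofMul a) i ≠ 0 := by
        by_contra hc
        push Not at hc
        apply h
        have : b.repr (Additive.ofMul a) = 0 := Finsupp.ext hc
        simpa using this
      refine Finset.prod_eq_zero (Finset.mem_univ i) ?_
      show 1 + (if b.repr (Additive.ofMul a) i = 0 then (1 : ℤ) else -1) = 0
      rw [if_neg hi]; norm_num
  have htotal : ∑ A ∈ (Finset.univ : Finset (Fin m)).powerset, ∑ x, (∏ i ∈ A, σ i) (e x) = 2 ^ m := by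
    rw [Finset.sum_comm]
    calc ∑ x, ∑ A ∈ (Finset.univ : Finset (Fin m)).powerset, (∏ i ∈ A, σ i) (e x)
        = ∑ x, ∏ i, (1 + σ i (e x)) := Finset.sum_congr rfl fun x _ => by
          rw [Finset.prod_one_add]
          exact Finset.sum_congr rfl fun A _ => MonoidHom.finsetProd_apply σ A (e x)
      _ = ∑ x, if x = z then (2 : ℤ) ^ m else 0 := Finset.sum_congr rfl fun x _ => by
          rw [hind]
          exact if_congr ⟨hz x, fun h => h ▸ h1⟩ rfl rfl
      _ = 2 ^ m := by simp
  rw [hk, hcardE, ← pow_mul]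
  refine Nat.pow_le_pow_right two_pos (not_lt.mp fun hlt => ?_)
  have hall : ∀ χ : E →* ℤ, (2 : ℤ) ^ (m + 1) ∣ ∑ x, χ (e x) := by
    intro χ
    have h := dvd_trans (pow_dvd_pow (2 : ℤ) (show 2 * m + 1 ≤ k by omega)) (hsum χ)
    rw [← Int.natAbs_dvd_natAbs, Int.natAbs_mul, Int.natAbs_pow] at h
    have := pow_succ_dvd_of_dvd_sq h
    rw [← Int.natCast_dvd] at this
    exact_mod_cast this
  have : (2 : ℤ) ^ (m + 1) ∣ 2 ^ m := htotal ▸ Finset.dvd_sum fun A _ => hall (∏ i ∈ A, σ i)
  have hle : (2 : ℤ) ^ (m + 1) ≤ 2 ^ m := Int.le_of_dvd (by positivity) this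
  rw [pow_succ] at hle
  have : (0 : ℤ) < 2 ^ m := by positivity
  omega

end CfsgLib.OddTrans
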