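import Mathlib
import Cfsg.Agent.Lib.GoodTransfer
import Cfsg.Agent.Lib.SL2Char.Tori
import Cfsg.Agent.Lib.SmallSylow.Apply
import Cfsg.Agent.Lib.Suzuki.Partition
import Cfsg.Agent.Lib.Suzuki.Lie
import Cfsg.Agent.Lib.BinaryCoset.Families

/-!
A group generated by involutions is not a proper odd central extension of a group with cyclic Sylow subgroups of
odd order; these are cyclic in `L₂(2ⁿ)` and in the Suzuki groups.
-/

set_option autoImplicit false
set_option linter.unusedSectionVars false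
set_option linter.style.haveILetI false

namespace CfsgLib.OddTrans

open Cfsg

universe u v

/-- Every odd Sylow subgroup is cyclic. -/
def OddSylowCyclic (X : Type u) [Group X] : Prop :=
  ∀ p : ℕ, p.Prime → p ≠ 2 → ∀ P : Subgroup X, IsPGroup p P → IsCyclic P

/-- A kernel made of central elements is a two-group. -/
theorem not_dvd_ker {Y : Type u} [Group Y] [Finite Y] {X : Type v} [Group X] [Finite X] (f : Y →* X)
    (hker : ∀ z : Y, f z = 1 → ∀ g : Y, g * z = z * g) {S : Set Y} (hS : Subgroup.closure S = ⊤)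
    (hinv : ∀ s ∈ S, s * s = 1) (hX : OddSylowCyclic X) {p : ℕ} (hp : p.Prime) (hp2 : p ≠ 2) :
    ¬ p ∣ Nat.card f.ker := by
  intro hdvd
  haveI := Fact.mk hp
  obtain ⟨⟨z, hz⟩, hzo⟩ := exists_prime_orderOf_dvd_card' (G := f.ker) p hdvd
  rw [Subgroup.orderOf_mk] at hzo
  obtain ⟨P, hP⟩ := (show IsPGroup p (Subgroup.zpowers z) from
    IsPGroup.of_card (n := 1) (by rw [Nat.card_zpowers, hzo, pow_one])).exists_le_sylow
  have hzP : z ∈ (P : Subgroup Y) := hP (Subgroup.mem_zpowers z)
  haveI : IsCyclic (Subgroup.map f (P : Subgroup Y)) := hX p hp hp2 _ (P.isPGroup'.map f)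
  have hcomm : ∀ x y : (P : Subgroup Y), x * y = y * x := by
    let g : (P : Subgroup Y) →* Subgroup.map f (P : Subgroup Y) := f.subgroupMap (P : Subgroup Y)
    have hcentral : g.ker ≤ Subgroup.center (P : Subgroup Y) := fun n hn => by
      have h1 : f n = 1 := congrArg Subtype.val hn
      exact Subgroup.mem_center_iff.mpr fun t => Subtype.ext (hker n h1 t)
    exact (g.isMulCommutative_of_isCyclic_of_ker_le_center hcentral).is_comm.comm
  letI : CommGroup (P : Subgroup Y) := { (inferInstance : Group (P : Subgroup Y)) with mul_comm := hcomm }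
  set V : Y →* (P : Subgroup Y) := MonoidHom.transfer (MonoidHom.id (P : Subgroup Y)) with hV
  have hV1 : V = 1 := by
    refine MonoidHom.eq_of_eqOn_dense hS fun s hs => ?_
    have h2 : V s ^ 2 = 1 := by rw [pow_two, ← map_mul, hinv s hs, map_one]
    obtain ⟨k, hk⟩ := P.isPGroup' (V s)
    exact orderOf_eq_one_iff.mp
      ((((Nat.coprime_primes hp Nat.prime_two).mpr hp2).pow_left k).coprime_dvd_left
        (orderOf_dvd_of_pow_eq_one hk) |>.eq_one_of_dvd (orderOf_dvd_of_pow_eq_one h2))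
  have hzV : V z = (⟨z, hzP⟩ : (P : Subgroup Y)) ^ (P : Subgroup Y).index := by
    rw [hV, CfsgLib.GoodTransfer.transfer_central (MonoidHom.id _) hzP (hker z hz)]
    rfl
  rw [hV1, MonoidHom.one_apply] at hzV
  have h3 : orderOf (⟨z, hzP⟩ : (P : Subgroup Y)) ∣ (P : Subgroup Y).index := orderOf_dvd_of_pow_eq_one hzV.symm
  rw [Subgroup.orderOf_mk, hzo] at h3
  exact P.not_dvd_index h3

theorem oddSylowCyclic_congr {X : Type u} {Y : Type v} [Group X] [Group Y] (e : X ≃* Y) (h : OddSylowCyclic Y) :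
    OddSylowCyclic X := by
  intro p hp hp2 P hP
  haveI := h p hp hp2 _ (hP.map e.toMonoidHom)
  exact isCyclic_of_surjective (P.equivMapOfInjective e.toMonoidHom e.injective).symm
    (P.equivMapOfInjective e.toMonoidHom e.injective).symm.surjective

/-- The odd Sylow subgroups of `SL₂(2ⁿ)` are cyclic. -/
theorem oddSylowCyclic_sl {F : Type} [Field F] [Fintype F] {n : ℕ} (hF : Fintype.card F = 2 ^ n) :
    OddSylowCyclic (Matrix.SpecialLinearGroup (Fin 2) F) := by
  intro p hp hp2 P hP
  haveI := Fact.mk hp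
  haveI : CharP F 2 := CfsgLib.BinaryCoset.charP_two hF
  rcases eq_or_ne P ⊥ with rfl | hne
  · infer_instance
  haveI : Nontrivial P := (Subgroup.nontrivial_iff_ne_bot P).mpr hne
  haveI := hP.center_nontrivial
  obtain ⟨⟨z, hzc⟩, hz1⟩ := exists_ne (1 : Subgroup.center P)
  have hz1' : (z : Matrix.SpecialLinearGroup (Fin 2) F) ≠ 1 := fun e => hz1 (Subtype.ext (Subtype.ext e))
  have htr : (z : Matrix.SpecialLinearGroup (Fin 2) F).1.trace ^ 2 ≠ 4 := by
    intro h
    have h4 : (4 : F) = 0 := by rw [show (4 : F) = 2 * 2 by norm_num, CharTwo.two_eq_zero, zero_mul]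
    rw [h4, sq_eq_zero_iff, Matrix.trace_fin_two] at h
    have hdet : (z : Matrix.SpecialLinearGroup (Fin 2) F).1 0 0 * (z : Matrix.SpecialLinearGroup (Fin 2) F).1 1 1 -
        (z : Matrix.SpecialLinearGroup (Fin 2) F).1 0 1 * (z : Matrix.SpecialLinearGroup (Fin 2) F).1 1 0 = 1 := by
      rw [← Matrix.det_fin_two]; exact (z : Matrix.SpecialLinearGroup (Fin 2) F).2
    have h2 : (z : Matrix.SpecialLinearGroup (Fin 2) F) ^ 2 = 1 := by
      refine Subtype.ext ?_
      have e11 : (z : Matrix.SpecialLinearGroup (Fin 2) F).1 1 1 = (z : Matrix.SpecialLinearGroup (Fin 2) F).1 0 0 := by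
        rw [eq_neg_of_add_eq_zero_right h, CharTwo.neg_eq]
      rw [e11] at hdet
      rw [sub_eq_add_neg, CharTwo.neg_eq] at hdet
      show ((z : Matrix.SpecialLinearGroup (Fin 2) F) ^ 2).1 = (1 : Matrix (Fin 2) (Fin 2) F)
      rw [pow_two, Matrix.SpecialLinearGroup.coe_mul]
      ext i j
      fin_cases i <;> fin_cases j <;> simp [Matrix.mul_apply, Fin.sum_univ_two, e11]
      · linear_combination hdet
      · linear_combination (z : Matrix.SpecialLinearGroup (Fin 2) F).1 0 1 *
          (z : Matrix.SpecialLinearGroup (Fin 2) F).1 0 0 * (CharTwo.two_eq_zero (R := F))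
      · linear_combination (z : Matrix.SpecialLinearGroup (Fin 2) F).1 1 0 *
          (z : Matrix.SpecialLinearGroup (Fin 2) F).1 0 0 * (CharTwo.two_eq_zero (R := F))
      · linear_combination hdet
    obtain ⟨k, hk⟩ := hP z
    have hord : orderOf (z : Matrix.SpecialLinearGroup (Fin 2) F) = 1 := by
      have h5 : orderOf (z : Matrix.SpecialLinearGroup (Fin 2) F) ∣ p ^ k :=
        orderOf_dvd_of_pow_eq_one (by rw [← Subgroup.coe_pow, hk]; rfl)
      exact ((((Nat.coprime_primes hp Nat.prime_two).mpr hp2).pow_left k).coprime_dvd_left h5).eq_one_of_dvd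
        (orderOf_dvd_of_pow_eq_one h2)
    exact hz1' (orderOf_eq_one_iff.mp hord)
  haveI := (CfsgLib.SL2Tori.isCyclic_centralizer htr).1
  have hle : P ≤ Subgroup.centralizer {(z : Matrix.SpecialLinearGroup (Fin 2) F)} := fun x hx =>
    Subgroup.mem_centralizer_singleton_iff.mpr (congrArg Subtype.val (Subgroup.mem_center_iff.mp hzc ⟨x, hx⟩))
  exact isCyclic_of_injective (Subgroup.inclusion hle) (Subgroup.inclusion_injective hle)

theorem oddSylowCyclic_psl {F : Type} [Field F] [Fintype F] {n : ℕ} (hF : Fintype.card F = 2 ^ n) :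
    OddSylowCyclic (Matrix.ProjectiveSpecialLinearGroup (Fin 2) F) := by
  obtain ⟨e⟩ := CfsgLib.SmallSylow.sl_mulEquiv_psl hF
  exact oddSylowCyclic_congr e.symm (oddSylowCyclic_sl hF)

theorem oddSylowCyclic_sz {F : Type} [Field F] [Fintype F] {m : ℕ} (hm : 1 ≤ m)
    (hF : Fintype.card F = 2 ^ (2 * m + 1)) : OddSylowCyclic ↥(Cfsg.Sz F m) := by
  intro p hp hp2 P hP
  haveI := Fact.mk hp
  obtain ⟨Q, hQ⟩ := hP.exists_le_sylow
  haveI := CfsgLib.Suzuki.isCyclic_sylow_odd hF hm hp2 Q
  exact isCyclic_of_injective (Subgroup.inclusion hQ) (Subgroup.inclusion_injective hQ)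

end CfsgLib.OddTrans
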