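import Cfsg.Agent.Lib.OddTrans.Basic
import Cfsg.Agent.S5048

/-!
The simple pair carried by a set of members forming one odd component.

The kernel consists of the elements fixing every block of the set, so it needs no separate functoriality.
-/

set_option autoImplicit false
set_option linter.unusedSectionVars false
set_option linter.style.haveILetI false

namespace CfsgLib.OddTrans

open Cfsg Relation
open CfsgLib.RootInv (mul_self inv_eq ne_one odd_symm odd_conj)

universe u

variable {G : Type u} [Group G] {D S : Set G}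

/-- A set of members closed under its own conjugation, one odd component, containing a line. -/
structure IsSub (D S : Set G) : Prop where
  sub : S ⊆ D
  conj : ∀ s ∈ S, ∀ t ∈ S, s * t * s⁻¹ ∈ S
  line : ∃ a ∈ S, ∃ b ∈ S, Commute a b ∧ a * b ∈ S
  conn : IsConnectedSet (OddAdj S) S

/-- The group of the simple pair of `S`. -/
abbrev Res (S : Set G) : Type u := (↥(Subgroup.closure S)) ⧸ twoZCore (↥(Subgroup.closure S))

open Classical in
/-- The image of an element in the simple pair of `S` (trivial outside the group of `S`). -/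
noncomputable def res (S : Set G) (g : G) : Res S :=
  if h : g ∈ Subgroup.closure S then QuotientGroup.mk' _ ⟨g, h⟩ else 1

/-- The members of the simple pair of `S`. -/
noncomputable def img (S : Set G) : Set (Res S) := res S '' S

theorem res_mk {g : G} (h : g ∈ Subgroup.closure S) : res S g = QuotientGroup.mk' _ ⟨g, h⟩ := by
  rw [res, dif_pos h]

theorem res_mul {g k : G} (hg : g ∈ Subgroup.closure S) (hk : k ∈ Subgroup.closure S) :
    res S (g * k) = res S g * res S k := by
  rw [res_mk hg, res_mk hk, res_mk (mul_mem hg hk), ← map_mul]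
  rfl

theorem res_one : res S (1 : G) = 1 := by
  rw [res_mk (one_mem _)]
  exact map_one _

theorem res_inv {g : G} (hg : g ∈ Subgroup.closure S) : res S g⁻¹ = (res S g)⁻¹ := by
  rw [res_mk hg, res_mk (inv_mem hg), ← map_inv]
  rfl

theorem res_conj {g k : G} (hg : g ∈ Subgroup.closure S) (hk : k ∈ Subgroup.closure S) :
    res S (g * k * g⁻¹) = res S g * res S k * (res S g)⁻¹ := by
  rw [res_mul (mul_mem hg hk) (inv_mem hg), res_mul hg hk, res_inv hg]

theorem res_surjective (r : Res S) : ∃ g ∈ Subgroup.closure S, res S g = r := by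
  obtain ⟨⟨g, hg⟩, rfl⟩ := QuotientGroup.mk'_surjective _ r
  exact ⟨g, hg, res_mk hg⟩

/-- The elements permuting `S` and fixing each of its blocks. -/
def fixBlocks (S : Set G) : Subgroup G where
  carrier := {k | (∀ s ∈ S, k * s * k⁻¹ ∈ S) ∧ (∀ s ∈ S, k⁻¹ * s * k ∈ S) ∧
    ∀ s ∈ S, ∀ o ∈ S, (Commute (k * s * k⁻¹) o ↔ Commute s o)}
  one_mem' := ⟨fun s hs => by simpa using hs, fun s hs => by simpa using hs, fun s _ o _ => by simp⟩
  mul_mem' := by
    rintro x y ⟨hx1, hx2, hx3⟩ ⟨hy1, hy2, hy3⟩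
    refine ⟨fun s hs => ?_, fun s hs => ?_, fun s hs o ho => ?_⟩
    · rw [show x * y * s * (x * y)⁻¹ = x * (y * s * y⁻¹) * x⁻¹ by group]
      exact hx1 _ (hy1 s hs)
    · rw [show (x * y)⁻¹ * s * (x * y) = y⁻¹ * (x⁻¹ * s * x) * y by group]
      exact hy2 _ (hx2 s hs)
    · rw [show x * y * s * (x * y)⁻¹ = x * (y * s * y⁻¹) * x⁻¹ by group, hx3 _ (hy1 s hs) o ho, hy3 s hs o ho]
  inv_mem' := by
    rintro x ⟨hx1, hx2, hx3⟩
    refine ⟨fun s hs => by simpa using hx2 s hs, fun s hs => by simpa using hx1 s hs, fun s hs o ho => ?_⟩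
    have := hx3 _ (hx2 s hs) o ho
    rw [show x * (x⁻¹ * s * x) * x⁻¹ = s by group] at this
    simpa using this.symm

theorem mem_fixBlocks {k : G} : k ∈ fixBlocks S ↔ (∀ s ∈ S, k * s * k⁻¹ ∈ S) ∧ (∀ s ∈ S, k⁻¹ * s * k ∈ S) ∧
    ∀ s ∈ S, ∀ o ∈ S, (Commute (k * s * k⁻¹) o ↔ Commute s o) := Iff.rfl

/-- An element centralising `S` fixes every block of it. -/
theorem mem_fixBlocks_of_commute {k : G} (h : ∀ s ∈ S, Commute k s) : k ∈ fixBlocks S := by
  refine ⟨fun s hs => ?_, fun s hs => ?_, fun s hs o _ => ?_⟩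
  · rwa [(h s hs).eq, mul_inv_cancel_right]
  · rwa [mul_assoc, ← (h s hs).eq, inv_mul_cancel_left]
  · rw [(h s hs).eq, mul_inv_cancel_right]

/-- An element permuting `S` conjugates the elements fixing its blocks to themselves. -/
theorem fixBlocks_conj {g k : G} (hg : ∀ s ∈ S, g * s * g⁻¹ ∈ S) (hg' : ∀ s ∈ S, g⁻¹ * s * g ∈ S)
    (hk : k ∈ fixBlocks S) : g * k * g⁻¹ ∈ fixBlocks S := by
  obtain ⟨h1, h2, h3⟩ := hk
  refine ⟨fun s hs => ?_, fun s hs => ?_, fun s hs o ho => ?_⟩
  · rw [show g * k * g⁻¹ * s * (g * k * g⁻¹)⁻¹ = g * (k * (g⁻¹ * s * g) * k⁻¹) * g⁻¹ by group]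
    exact hg _ (h1 _ (hg' s hs))
  · rw [show (g * k * g⁻¹)⁻¹ * s * (g * k * g⁻¹) = g * (k⁻¹ * (g⁻¹ * s * g) * k) * g⁻¹ by group]
    exact hg _ (h2 _ (hg' s hs))
  · have := h3 _ (hg' s hs) _ (hg' o ho)
    constructor
    · intro h
      have h' : Commute (k * (g⁻¹ * s * g) * k⁻¹) (g⁻¹ * o * g) := by
        have := h.map (MulAut.conj g⁻¹).toMonoidHom
        simpa [MulAut.conj_apply, mul_assoc] using this
      have h4 := (this.mp h').map (MulAut.conj g).toMonoidHom
      simpa [MulAut.conj_apply, mul_assoc] using h4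
    · intro h
      have h' : Commute (g⁻¹ * s * g) (g⁻¹ * o * g) := by
        have := h.map (MulAut.conj g⁻¹).toMonoidHom
        simpa [MulAut.conj_apply, mul_assoc] using this
      have h4 := (this.mpr h').map (MulAut.conj g).toMonoidHom
      simpa [MulAut.conj_apply, mul_assoc] using h4

variable [Finite G] (hD : IsOddTranspositionSet D) (hS : IsSub D S)
include hD hS

theorem conj_closure {g : G} (hg : g ∈ Subgroup.closure S) : ∀ s ∈ S, g * s * g⁻¹ ∈ S := by
  induction hg using Subgroup.closure_induction'' with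
  | mem y hy => exact fun s hs => hS.conj y hy s hs
  | inv_mem y hy => rw [inv_eq hD.1 (hS.sub hy)]; exact fun s hs => hS.conj y hy s hs
  | one => intro s hs; simpa using hs
  | mul y z _ _ hy hz =>
    intro s hs
    rw [show y * z * s * (y * z)⁻¹ = y * (z * s * z⁻¹) * y⁻¹ by group]
    exact hy _ (hz s hs)

theorem conj_closure' {g : G} (hg : g ∈ Subgroup.closure S) : ∀ s ∈ S, g⁻¹ * s * g ∈ S := fun s hs => by
  simpa using conj_closure hD hS (inv_mem hg) s hs

theorem odd_mono {a b : G} (h : OddAdj S a b) : OddAdj D a b := ⟨hS.sub h.1, hS.sub h.2.1, h.2.2.1, h.2.2.2⟩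

theorem pre_root : IsRootInvolutionSet (Subtype.val ⁻¹' S : Set (Subgroup.closure S)) := by
  refine ⟨fun d hd => by rw [← Subgroup.orderOf_coe]; exact hD.1.orderOf_eq _ (hS.sub hd),
    Subgroup.closure_closure_coe_preimage, fun d hd g => conj_closure hD hS g.2 _ hd, fun a ha b hb => ?_⟩
  rcases hD.1.pair _ (hS.sub ha) _ (hS.sub hb) with e | e | ⟨e, -⟩
  · exact Or.inl (Subtype.ext e)
  · exact Or.inr (Or.inl (by rw [← Subgroup.orderOf_coe]; exact e))
  · exact absurd e (hD.2 _ (hS.sub ha) _ (hS.sub hb))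

theorem pre_conn : IsConnectedSet (OddAdj (Subtype.val ⁻¹' S : Set (Subgroup.closure S))) (Subtype.val ⁻¹' S) := by
  rintro ⟨a, ha'⟩ ha ⟨b, hb'⟩ hb
  have h := hS.conn a ha b hb
  revert hb' hb
  induction h with
  | refl => exact fun _ _ => ReflTransGen.refl
  | @tail c d _ hcd ih =>
    intro hd' hd
    refine (ih (Subgroup.subset_closure hcd.1) hcd.1).tail
      ⟨hcd.1, hd, fun e => hcd.2.2.1 (congrArg Subtype.val e), ?_⟩
    rw [← Subgroup.orderOf_coe]
    exact hcd.2.2.2

theorem pre_main : solvableRadical (Subgroup.closure S) = twoZCore (Subgroup.closure S) ∧ IsSimpleGroup (Res S) := by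
  refine Cfsg.Agent.S5048.main (pre_root hD hS) (pre_conn hD hS) ?_
  obtain ⟨a, ha, b, hb, hc, hab⟩ := hS.line
  exact ⟨⟨a * b, Subgroup.subset_closure hab⟩, hab, ⟨a, Subgroup.subset_closure ha⟩, ha,
    ⟨b, Subgroup.subset_closure hb⟩, hb, Subtype.ext hc,
    fun e => ne_one hD.1 (hS.sub hab) (congrArg Subtype.val e), Subtype.ext rfl⟩

/-- An element of odd order inverted inside the group and trivial in the simple pair is trivial. -/
theorem eq_one_of_inverted {t x : G} (ht : t ∈ Subgroup.closure S) (hx : x ∈ Subgroup.closure S)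
    (hodd : Odd (orderOf t)) (hinv : x * t * x⁻¹ = t⁻¹) (h1 : res S t = 1) : t = 1 := by
  rw [res_mk ht] at h1
  have hz := (QuotientGroup.eq_one_iff _).mp h1
  rw [twoZCore, Subgroup.mem_comap] at hz
  set f := QuotientGroup.mk' (pCore 2 ↥(Subgroup.closure S)) with hf
  have e : f ⟨t, ht⟩ = (f ⟨t, ht⟩)⁻¹ := by
    calc f ⟨t, ht⟩ = f ⟨x, hx⟩ * f ⟨t, ht⟩ * (f ⟨x, hx⟩)⁻¹ := by
          rw [Subgroup.mem_center_iff.mp hz, mul_inv_cancel_right]
      _ = (f ⟨t, ht⟩)⁻¹ := by
          rw [← map_inv, ← map_mul, ← map_mul, ← map_inv]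
          exact congrArg f (Subtype.ext hinv)
  have h2 : f (⟨t, ht⟩ ^ 2) = 1 := by rw [map_pow, pow_two]; exact eq_inv_iff_mul_eq_one.mp e
  obtain ⟨j, hj⟩ := IsPGroup.iff_orderOf.mp (CfsgLib.isPGroup_pCore 2)
    (⟨_, (QuotientGroup.eq_one_iff _).mp h2⟩ : pCore 2 ↥(Subgroup.closure S))
  rw [Subgroup.orderOf_mk] at hj
  have h3 : t ^ (2 ^ (j + 1)) = 1 := by
    have := congrArg Subtype.val (hj ▸ pow_orderOf_eq_one ((⟨t, ht⟩ : Subgroup.closure S) ^ 2))
    rwa [← pow_mul, ← pow_succ'] at this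
  exact orderOf_eq_one_iff.mp (((Nat.coprime_two_right.mpr hodd).pow_right (j + 1)).eq_one_of_dvd
    (orderOf_dvd_of_pow_eq_one h3))

theorem res_ne_one {s : G} (hs : s ∈ S) : res S s ≠ 1 := by
  intro h
  have := (pre_main hD hS).2
  have hall : ∀ t ∈ S, res S t = 1 := by
    intro t ht
    have hr := hS.conn s hs t ht
    clear ht
    induction hr with
    | refl => exact h
    | @tail b c _ hbc ih =>
      have hb := Subgroup.subset_closure (k := S) hbc.1
      have hc := Subgroup.subset_closure (k := S) hbc.2.1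
      obtain ⟨g, hg, e⟩ := CfsgLib.RootComm.exists_conj_mem (CfsgLib.RootComm.odd2_of_root hD.1) (hS.sub hbc.1)
        (hS.sub hbc.2.1) hbc.2.2.2
      have hgS : g ∈ Subgroup.closure S := by
        refine (Subgroup.closure_le _).mpr ?_ hg
        rintro y (rfl | rfl)
        · exact hb
        · exact hc
      rw [← e, res_conj hgS hb, ih, mul_one, mul_inv_cancel]
  have htop : (⊤ : Subgroup (Subgroup.closure S)) ≤ twoZCore _ := by
    rw [← Subgroup.closure_closure_coe_preimage (k := S), Subgroup.closure_le]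
    intro t ht
    have := hall _ ht
    rw [res_mk t.2] at this
    exact (QuotientGroup.eq_one_iff _).mp this
  haveI := this.toNontrivial
  exact QuotientGroup.nontrivial_iff.mp inferInstance (top_le_iff.mp htop)

theorem res_sq {s : G} (hs : s ∈ S) : res S s * res S s = 1 := by
  rw [← res_mul (Subgroup.subset_closure hs) (Subgroup.subset_closure hs), mul_self hD.1 (hS.sub hs), res_one]

/-- Commuting in the simple pair is commuting. -/
theorem res_commute_iff {a b : G} (ha : a ∈ S) (hb : b ∈ S) : Commute (res S a) (res S b) ↔ Commute a b := by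
  have hA := Subgroup.subset_closure (k := S) ha
  have hB := Subgroup.subset_closure (k := S) hb
  refine ⟨fun h => by_contra fun hn => ?_, fun h => ?_⟩
  · have ho := (odd_iff hD (hS.sub ha) (hS.sub hb)).mpr hn
    have h2 : res S (a * b) ^ 2 = 1 := by
      rw [res_mul hA hB, h.mul_pow, pow_two, pow_two, res_sq hD hS ha, res_sq hD hS hb, one_mul]
    have h3 : res S (a * b) = 1 := by
      have hpow : res S (a * b) ^ orderOf (a * b) = 1 := by
        rw [res_mk (mul_mem hA hB), ← map_pow]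
        refine (congrArg _ (Subtype.ext ?_)).trans (map_one _)
        exact pow_orderOf_eq_one (a * b)
      exact orderOf_eq_one_iff.mp (Nat.Coprime.eq_one_of_dvd
        ((Nat.coprime_two_right.mpr (ho.2.2.2.of_dvd_nat (orderOf_dvd_of_pow_eq_one hpow))))
        (orderOf_dvd_of_pow_eq_one h2))
    have := eq_one_of_inverted hD hS (mul_mem hA hB) hA ho.2.2.2
      (by rw [mul_inv_rev, inv_eq hD.1 (hS.sub ha), inv_eq hD.1 (hS.sub hb), ← mul_assoc,
        mul_self hD.1 (hS.sub ha), one_mul]) h3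
    exact ho.2.2.1 (by rw [mul_eq_one_iff_eq_inv.mp this, inv_eq hD.1 (hS.sub hb)])
  · show res S a * res S b = res S b * res S a
    rw [← res_mul hA hB, ← res_mul hB hA, h.eq]

theorem res_classPair : IsClassPair (Res S) (img S) := by
  have hsimp := (pre_main hD hS).2
  have hord : ∀ d ∈ img S, orderOf d = 2 := by
    rintro _ ⟨s, hs, rfl⟩
    exact orderOf_eq_prime (by rw [pow_two]; exact res_sq hD hS hs) (res_ne_one hD hS hs)
  have hconj : ∀ d ∈ img S, ∀ r : Res S, r * d * r⁻¹ ∈ img S := by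
    rintro _ ⟨s, hs, rfl⟩ r
    obtain ⟨g, hg, rfl⟩ := res_surjective r
    exact ⟨g * s * g⁻¹, conj_closure hD hS hg s hs, res_conj hg (Subgroup.subset_closure hs)⟩
  have hgen : Subgroup.closure (img S) = ⊤ := by
    rw [eq_top_iff]
    rintro r -
    obtain ⟨g, hg, rfl⟩ := res_surjective r
    induction hg using Subgroup.closure_induction with
    | mem y hy => exact Subgroup.subset_closure ⟨y, hy, rfl⟩
    | one => rw [res_one]; exact one_mem _
    | mul y z hy hz h1 h2 => rw [res_mul hy hz]; exact mul_mem h1 h2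
    | inv y hy h1 => rw [res_inv hy]; exact inv_mem h1
  have hpair : ∀ a ∈ img S, ∀ b ∈ img S, Commute a b ∨ Odd (orderOf (a * b)) := by
    rintro _ ⟨a, ha, rfl⟩ _ ⟨b, hb, rfl⟩
    rcases commute_or_odd hD (hS.sub ha) (hS.sub hb) with h | h
    · exact Or.inl ((res_commute_iff hD hS ha hb).mpr h)
    · refine Or.inr (h.2.2.2.of_dvd_nat (orderOf_dvd_of_pow_eq_one ?_))
      rw [← res_mul (Subgroup.subset_closure ha) (Subgroup.subset_closure hb),
        res_mk (mul_mem (Subgroup.subset_closure ha) (Subgroup.subset_closure hb)), ← map_pow]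
      exact (congrArg _ (Subtype.ext (pow_orderOf_eq_one (a * b)))).trans (map_one _)
  have hroot : IsRootInvolutionSet (img S) := ⟨hord, hgen, hconj, fun a ha b hb => (hpair a ha b hb).imp id Or.inl⟩
  obtain ⟨a₀, ha₀, b₀, hb₀, hc₀, hab₀⟩ := hS.line
  refine ⟨⟨hroot, fun a ha b hb h4 => ?_⟩, ⟨hroot, ⟨_, a₀, ha₀, rfl⟩, ?_⟩,
    ⟨_, ⟨a₀, ha₀, rfl⟩, _, ⟨b₀, hb₀, rfl⟩, (res_commute_iff hD hS ha₀ hb₀).mpr hc₀,
      ⟨_, hab₀, res_mul (Subgroup.subset_closure ha₀) (Subgroup.subset_closure hb₀)⟩⟩, hsimp⟩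
  · rcases hpair a ha b hb with h | h
    · have : (a * b) ^ 2 = 1 := by
        rw [h.mul_pow, ← hord a ha, pow_orderOf_eq_one, one_mul, hord a ha, ← hord b hb, pow_orderOf_eq_one]
      have := Nat.le_of_dvd two_pos (orderOf_dvd_of_pow_eq_one this)
      omega
    · rw [h4] at h
      exact (Nat.not_odd_iff_even.mpr ⟨2, rfl⟩) h
  · rintro _ ⟨a, ha, rfl⟩ _ ⟨b, hb, rfl⟩
    obtain ⟨g, hg⟩ := CfsgLib.RootInv.conj_of_connected (pre_root hD hS) (pre_conn hD hS)
      (a := ⟨a, Subgroup.subset_closure ha⟩) (b := ⟨b, Subgroup.subset_closure hb⟩) ha hb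
    refine ⟨res S g, ?_⟩
    rw [← res_conj g.2 (Subgroup.subset_closure ha)]
    exact congrArg (res S) (congrArg Subtype.val hg)

/-- Equal commuting members in the simple pair. -/
theorem res_cm_eq_iff {a b : G} (ha : a ∈ S) (hb : b ∈ S) :
    commutingMembers (img S) (res S a) = commutingMembers (img S) (res S b) ↔
      ∀ o ∈ S, (Commute o a ↔ Commute o b) := by
  constructor
  · intro h o ho
    rw [← res_commute_iff hD hS ho ha, ← res_commute_iff hD hS ho hb]
    have h1 : res S o ∈ commutingMembers (img S) (res S a) ↔ res S o ∈ commutingMembers (img S) (res S b) := by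
      rw [h]
    exact ⟨fun h2 => (h1.mp ⟨⟨o, ho, rfl⟩, h2⟩).2, fun h2 => (h1.mpr ⟨⟨o, ho, rfl⟩, h2⟩).2⟩
  · intro h
    ext x
    constructor
    · rintro ⟨⟨o, ho, rfl⟩, hc⟩
      exact ⟨⟨o, ho, rfl⟩, (res_commute_iff hD hS ho hb).mpr ((h o ho).mp ((res_commute_iff hD hS ho ha).mp hc))⟩
    · rintro ⟨⟨o, ho, rfl⟩, hc⟩
      exact ⟨⟨o, ho, rfl⟩, (res_commute_iff hD hS ho ha).mpr ((h o ho).mpr ((res_commute_iff hD hS ho hb).mp hc))⟩

/-- The kernel consists of the elements fixing every block. -/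
theorem res_eq_one_iff {g : G} (hg : g ∈ Subgroup.closure S) : res S g = 1 ↔ g ∈ fixBlocks S := by
  constructor
  · intro h
    refine ⟨conj_closure hD hS hg, conj_closure' hD hS hg, fun s hs o ho => ?_⟩
    rw [← res_commute_iff hD hS (conj_closure hD hS hg s hs) ho, ← res_commute_iff hD hS hs ho,
      res_conj hg (Subgroup.subset_closure hs), h, one_mul, inv_one, mul_one]
  · rintro ⟨h1, -, h3⟩
    refine (res_classPair hD hS).eq_one_of_fix_blocks ?_
    rintro _ ⟨s, hs, rfl⟩
    rw [← res_conj hg (Subgroup.subset_closure hs), res_cm_eq_iff hD hS (h1 s hs) hs]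
    exact fun o ho => ⟨fun h => ((h3 s hs o ho).mp h.symm).symm, fun h => ((h3 s hs o ho).mpr h.symm).symm⟩

theorem res_eq_iff {z z' : G} (hz : z ∈ S) (hz' : z' ∈ S) : res S z = res S z' ↔ z * z' ∈ fixBlocks S := by
  rw [← res_eq_one_iff hD hS (mul_mem (Subgroup.subset_closure hz) (Subgroup.subset_closure hz')),
    res_mul (Subgroup.subset_closure hz) (Subgroup.subset_closure hz'), mul_eq_one_iff_eq_inv]
  rw [show (res S z')⁻¹ = res S z' from inv_eq_of_mul_eq_one_right (res_sq hD hS hz')]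

/-- Two elements with images in a cyclic group: a lift of the second centralises the first of prime order. -/
theorem exists_centralizing {g h : G} (hg : g ∈ Subgroup.closure S) (hh : h ∈ Subgroup.closure S) {p : ℕ}
    (hp : p.Prime) (hp2 : p ≠ 2) (ho : orderOf h = p) {c : Res S} (hgc : res S g ∈ Subgroup.zpowers c)
    (hhc : res S h ∈ Subgroup.zpowers c) :
    ∃ g' ∈ Subgroup.closure S, res S g' = res S g ∧ Commute g' h := by
  haveI := Fact.mk hp
  set H := ↥(Subgroup.closure S)
  let f := QuotientGroup.mk' (pCore 2 H)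
  let g₀ : H := ⟨g, hg⟩
  let h₀ : H := ⟨h, hh⟩
  -- the images modulo the 2-core commute
  have hcomm : f h₀ * f g₀ = f g₀ * f h₀ := by
    obtain ⟨c₀, hc₀⟩ := QuotientGroup.mk'_surjective _ c
    obtain ⟨i, hi⟩ := Subgroup.mem_zpowers_iff.mp hgc
    obtain ⟨j, hj⟩ := Subgroup.mem_zpowers_iff.mp hhc
    have key : ∀ {x : H} {n : ℤ}, c ^ n = QuotientGroup.mk' (twoZCore H) x →
        ∃ z ∈ Subgroup.center (H ⧸ pCore 2 H), f x = f c₀ ^ n * z := by
      intro x n hn
      refine ⟨f ((c₀ ^ n)⁻¹ * x), ?_, by rw [map_mul, map_inv, map_zpow, mul_inv_cancel_left]⟩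
      have : (c₀ ^ n)⁻¹ * x ∈ twoZCore H := by
        rw [← QuotientGroup.eq_one_iff, ← QuotientGroup.mk'_apply, map_mul, map_inv, map_zpow, hc₀, ← hn,
          inv_mul_cancel]
      exact Subgroup.mem_comap.mp this
    obtain ⟨z, hz, e1⟩ := key (x := g₀) (n := i) (by rw [hi, res_mk hg])
    obtain ⟨z', hz', e2⟩ := key (x := h₀) (n := j) (by rw [hj, res_mk hh])
    have hzc : ∀ y, Commute z y := fun y => (Subgroup.mem_center_iff.mp hz y).symm
    have hzc' : ∀ y, Commute z' y := fun y => (Subgroup.mem_center_iff.mp hz' y).symm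
    rw [e1, e2]
    exact ((((Commute.refl (f c₀)).zpow_zpow j i).mul_right (hzc _).symm).mul_left (hzc' _)).eq
  -- `h` permutes the coset of the 2-core at `g`
  let A : Type u := {x : H // f x = f g₀}
  have hconj : ∀ x : H, f x = f g₀ → ∀ k ∈ Subgroup.zpowers h₀, f (k * x * k⁻¹) = f g₀ := by
    intro x hx k hk
    obtain ⟨n, rfl⟩ := Subgroup.mem_zpowers_iff.mp hk
    rw [map_mul, map_mul, map_inv, map_zpow, hx, ((show Commute (f h₀) (f g₀) from hcomm).zpow_left n).eq,
      mul_inv_cancel_right]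
  letI : MulAction (Subgroup.zpowers h₀) A :=
    { smul := fun k x => ⟨k * x.1 * (k : H)⁻¹, hconj _ x.2 _ k.2⟩
      one_smul := fun x => Subtype.ext (show ((1 : Subgroup.zpowers h₀) : H) * x.1 * _ = x.1 by simp)
      mul_smul := fun k k' x => Subtype.ext (show ((k * k' : Subgroup.zpowers h₀) : H) * x.1 * _ = _ by
        show ((k : H) * k') * x.1 * ((k : H) * k')⁻¹ = k * (k' * x.1 * (k' : H)⁻¹) * (k : H)⁻¹
        simp only [mul_inv_rev, mul_assoc]) }
  have hP : IsPGroup p (Subgroup.zpowers h₀) := IsPGroup.of_card (n := 1) (by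
    rw [Nat.card_zpowers, ← Subgroup.orderOf_coe, pow_one]; exact ho)
  have hA : Nat.card A = Nat.card (pCore 2 H) :=
    Nat.card_congr
      { toFun := fun x => ⟨g₀⁻¹ * x.1, QuotientGroup.eq.mp x.2.symm⟩
        invFun := fun n => ⟨g₀ * n, by
          rw [map_mul, show f n = 1 from (QuotientGroup.eq_one_iff _).mpr n.2, mul_one]⟩
        left_inv := fun x => Subtype.ext (mul_inv_cancel_left _ _)
        right_inv := fun n => Subtype.ext (inv_mul_cancel_left _ _) }
  obtain ⟨x, hx⟩ := hP.nonempty_fixed_point_of_prime_not_dvd_card A (fun hdvd => by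
    rw [hA] at hdvd
    haveI : Fact (Nat.Prime 2) := ⟨Nat.prime_two⟩
    obtain ⟨n, hn⟩ := IsPGroup.iff_card.mp (CfsgLib.isPGroup_pCore (G := H) 2)
    rw [hn] at hdvd
    exact hp2 ((Nat.prime_dvd_prime_iff_eq hp Nat.prime_two).mp (hp.dvd_of_dvd_pow hdvd)))
  refine ⟨x.1.1, x.1.2, ?_, ?_⟩
  · rw [res_mk x.1.2, res_mk hg]
    refine QuotientGroup.eq.mpr (Subgroup.mem_comap.mpr ?_)
    rw [map_mul, map_inv, show f x.1 = f g₀ from x.2, inv_mul_cancel]
    exact one_mem _
  · have := congrArg (fun y : A => (y.1 : G)) (hx ⟨h₀, Subgroup.mem_zpowers h₀⟩)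
    show (x.1 : G) * h = h * x.1
    exact (mul_inv_eq_iff_eq_mul.mp this).symm

end CfsgLib.OddTrans
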