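import Cfsg.Agent.Lib.OddTrans.Root
import Cfsg.Agent.Lib.OddTrans.Sub
import Cfsg.Agent.Lib.RankOnePoint.Torus
import Cfsg.Agent.Lib.RankOnePoint.FactsModel
import Cfsg.Agent.Lib.Bender.Q.Main

/-!
Simple pairs with a disconnected commuting graph: the rank one groups, commuting members sharing their Sylow
subgroup.
-/

set_option autoImplicit false
set_option linter.unusedSectionVars false
set_option linter.style.haveILetI false

namespace CfsgLib.OddTrans

open Cfsg MulAction Relation CfsgLib.RankOnePoint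
open CfsgLib.RootInv (mul_self inv_eq ne_one odd_symm odd_conj)
open scoped Pointwise

universe u

variable {X : Type u} [Group X] [Finite X]

/-- A simple pair with a disconnected commuting graph, with the facts on its rank one group. -/
structure IsRankOnePairing (X : Type u) [Group X] [Finite X] (D : Set X) (m p e : ℕ) : Prop where
  pair : IsClassPair X D
  facts : Facts X m p e
  mem : ∀ x : X, x ∈ D ↔ x ≠ 1 ∧ x * x = 1

theorem fam_of_stronglyEmbedded [IsSimpleGroup X] {H : Subgroup X} (hH : IsStronglyEmbedded H) : Fam X := by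
  rcases CfsgLib.Bender.isBenderGroup_of_stronglyEmbedded (CfsgLib.Bender.Assembly.benderHyp CfsgLib.Bender.Assembly.goodAll)
      CfsgLib.Bender.Assembly.suzukiHyp hH with ⟨F, i1, i2, ⟨n, hn, hc⟩, hf⟩ | h | ⟨K, i1, i2, n, hn, hc, hf⟩
  · exact ⟨F, i1, i2, n, hc, hn, Or.inl hf⟩
  · obtain ⟨F, i1, i2, r, hr, hc, hf⟩ := h
    refine ⟨F, i1, i2, 2 * r + 1, hc, by omega, Or.inr (Or.inl ⟨⟨r, rfl⟩, ?_⟩)⟩
    rwa [show (2 * r + 1 + 1) / 2 = r + 1 by omega]
  · haveI : Fact (Nat.Prime 2) := ⟨Nat.prime_two⟩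
    letI := Fintype.ofFinite (GaloisField 2 n)
    refine ⟨GaloisField 2 n, inferInstance, inferInstance, n, ?_, hn, Or.inr (Or.inr ⟨K, i1, i2, hc, hf⟩)⟩
    rw [← Nat.card_eq_fintype_card, GaloisField.card 2 n (by omega)]

theorem exists_sylow_mem {x : X} (hx : x * x = 1) : ∃ S : Sylow 2 X, x ∈ (S : Subgroup X) := by
  haveI : Fact (Nat.Prime 2) := ⟨Nat.prime_two⟩
  obtain ⟨S, hS⟩ := (show IsPGroup 2 (Subgroup.zpowers x) from fun y => by
    obtain ⟨i, hi⟩ := Subgroup.mem_zpowers_iff.mp y.2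
    refine ⟨1, Subtype.ext ?_⟩
    show (y : X) ^ (2 ^ 1) = 1
    rw [← hi, ← zpow_natCast, ← zpow_mul, mul_comm, zpow_mul, zpow_natCast, pow_one, pow_two, hx, one_zpow]).exists_le_sylow
  exact ⟨S, hS (Subgroup.mem_zpowers x)⟩

theorem conj_mem_point {g x : X} {S : Sylow 2 X} (hx : x ∈ (S : Subgroup X)) :
    g * x * g⁻¹ ∈ ((g • S : Sylow 2 X) : Subgroup X) := CfsgLib.CyclicInt.conj_mem_smul_sylow hx

/-- A simple pair with a disconnected commuting graph is a rank one pairing. -/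
theorem exists_rankOne {D : Set X} (P : IsClassPair X D) (hnc : ¬ IsConnectedSet (CommAdj D) D) :
    ∃ m p e, IsRankOnePairing X D m p e := by
  haveI := P.simple
  obtain ⟨H, hH⟩ := CfsgLib.RootComm.stronglyEmbedded (CfsgLib.RootComm.odd2_of_root P.odd.1) P.odd.1.generates hnc
    CfsgLib.Bender.Q.theoremQ
  have hF := fam_of_stronglyEmbedded hH
  obtain ⟨m, p, e, hX⟩ := hF.toFacts
  refine ⟨m, p, e, P, hX, fun x => ⟨fun hx => ⟨ne_one P.odd.1 hx, mul_self P.odd.1 hx⟩, fun ⟨hx1, hx2⟩ => ?_⟩⟩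
  obtain ⟨d, hd⟩ := P.cl.2.1
  obtain ⟨S⟩ : Nonempty (Sylow 2 X) := inferInstance
  obtain ⟨t, c⟩ := CfsgLib.BinaryCoset.exists_ctx hX.nonab hX.ti S
  obtain ⟨g, hg⟩ := CfsgLib.RankOne.invol_conj c.setup (ne_one P.odd.1 hd) (mul_self P.odd.1 hd) hx1 hx2
  exact hg ▸ P.odd.1.conj_mem d hd g

variable {D : Set X} {m p e : ℕ} (R : IsRankOnePairing X D m p e)
include R

/-- An involution fixing a point lies in it. -/
theorem IsRankOnePairing.mem_of_fix {x : X} {S : Sylow 2 X} (hx : x * x = 1) (h : x • S = S) :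
    x ∈ (S : Subgroup X) := by
  haveI := R.pair.simple
  obtain ⟨t, c⟩ := CfsgLib.BinaryCoset.exists_ctx R.facts.nonab R.facts.ti S
  exact CfsgLib.RankOne.invol_mem_Q c.setup h hx

/-- Two members commute exactly when they share their point. -/
theorem IsRankOnePairing.commute_iff {a b : X} (ha : a ∈ D) (hb : b ∈ D) {S : Sylow 2 X}
    (haS : a ∈ (S : Subgroup X)) : Commute a b ↔ b ∈ (S : Subgroup X) := by
  haveI := R.pair.simple
  refine ⟨fun h => R.mem_of_fix ((R.mem b).mp hb).2 ?_, fun h => R.facts.central haS ((R.mem a).mp ha).2 h⟩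
  refine R.facts.eq_of_mem ((R.mem a).mp ha).1 ?_ haS
  have := conj_mem_point (g := b) haS
  rwa [← h.eq, mul_inv_cancel_right] at this

theorem IsRankOnePairing.cm_eq {a : X} (ha : a ∈ D) {S : Sylow 2 X} (haS : a ∈ (S : Subgroup X)) :
    commutingMembers D a = {x | x ∈ D ∧ x ∈ (S : Subgroup X)} := by
  ext x
  exact ⟨fun h => ⟨h.1, (R.commute_iff ha h.1 haS).mp (Commute.symm h.2)⟩,
    fun h => ⟨h.1, ((R.commute_iff ha h.1 haS).mpr h.2).symm⟩⟩

theorem IsRankOnePairing.cm_eq_of_commute {a b : X} (ha : a ∈ D) (hb : b ∈ D) (h : Commute a b) :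
    commutingMembers D a = commutingMembers D b := by
  obtain ⟨S, hS⟩ := exists_sylow_mem ((R.mem a).mp ha).2
  rw [R.cm_eq ha hS, R.cm_eq hb ((R.commute_iff ha hb hS).mp h)]

theorem IsRankOnePairing.twins_eq_point {a : X} (ha : a ∈ D) {S : Sylow 2 X} (haS : a ∈ (S : Subgroup X)) :
    sameCommutingClass D a = {x | x ∈ D ∧ x ∈ (S : Subgroup X)} := by
  ext x
  refine ⟨fun h => ⟨h.1, (R.commute_iff ha h.1 haS).mp (commute_of_twin R.pair.odd h.1 h.2).symm⟩, fun h => ?_⟩
  exact ⟨h.1, R.cm_eq_of_commute ha h.1 ((R.commute_iff ha h.1 haS).mpr h.2)⟩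

theorem IsRankOnePairing.ncard_twins {a : X} (ha : a ∈ D) :
    (sameCommutingClass D a).ncard = 2 ^ m - 1 := by
  obtain ⟨S, hS⟩ := exists_sylow_mem ((R.mem a).mp ha).2
  rw [R.twins_eq_point ha hS, ← R.facts.card_sq_one S, show Nat.card {x : X // x ∈ (S : Subgroup X) ∧ x * x = 1} =
    ({x : X | x ∈ (S : Subgroup X) ∧ x * x = 1} : Set X).ncard from Nat.card_coe_set_eq _]
  rw [show ({x : X | x ∈ D ∧ x ∈ (S : Subgroup X)} : Set X) =
    ({x : X | x ∈ (S : Subgroup X) ∧ x * x = 1} : Set X) \ {1} by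
      ext x
      simp only [Set.mem_ofPred_eq, Set.mem_sdiff, Set.mem_singleton_iff, R.mem]
      tauto]
  exact Set.ncard_sdiff_singleton_of_mem (show (1 : X) ∈ _ from ⟨one_mem _, mul_one 1⟩)

theorem IsRankOnePairing.hasRoot : HasRoot D := by
  intro a ha b hb c hc hne
  haveI := R.pair.simple
  obtain ⟨S, hS⟩ := exists_sylow_mem ((R.mem a).mp ha).2
  rw [R.twins_eq_point ha hS] at hb hc ⊢
  have hcomm : Commute b c := (R.commute_iff hb.1 hc.1 hb.2).mpr hc.2
  refine ⟨(R.mem _).mpr ⟨fun e => hne ?_, ?_⟩, mul_mem hb.2 hc.2⟩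
  · rw [mul_eq_one_iff_eq_inv.mp e, inv_eq R.pair.odd.1 hc.1]
  · rw [← pow_two, hcomm.mul_pow, pow_two, pow_two, mul_self R.pair.odd.1 hb.1, mul_self R.pair.odd.1 hc.1, one_mul]

/-- A swapper exchanges the points of its pair. -/
theorem IsRankOnePairing.swap_smul {b w : X} (h : OddAdj D b w) {A W : Sylow 2 X} (hb : b ∈ (A : Subgroup X))
    (hw : w ∈ (W : Subgroup X)) : swap b w • A = W ∧ swap b w • W = A := by
  haveI := R.pair.simple
  obtain ⟨hv, hvb⟩ := swap_spec R.pair.odd h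
  have hvw := swap_back R.pair.odd h
  have hvi := inv_eq R.pair.odd.1 hv
  constructor
  · refine R.facts.eq_of_mem ((R.mem w).mp h.2.1).1 ?_ hw
    have := conj_mem_point (g := swap b w) hb
    rwa [hvi, hvb] at this
  · refine R.facts.eq_of_mem ((R.mem b).mp h.1).1 ?_ hb
    have := conj_mem_point (g := swap b w) hw
    rwa [hvi, hvw] at this

/-- The torus is cyclic. -/
theorem IsRankOnePairing.torus_gen {A W : Sylow 2 X} (hne : W ≠ A) :
    ∃ d ∈ torus A W, torus A W = Subgroup.zpowers d := by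
  haveI := R.pair.simple
  obtain ⟨g, hg, hgen⟩ := R.facts.torus_cyclic A
  obtain ⟨s, hs, d, hd, rfl⟩ := R.facts.decomp hne hg
  refine ⟨d, hd, le_antisymm (fun x hx => ?_) (Subgroup.zpowers_le.mpr hd)⟩
  obtain ⟨k, hk⟩ := hgen x (mem_torus.mp hx).1
  have key : ∀ k : ℕ, ∃ t ∈ (A : Subgroup X), (s * d) ^ k = t * d ^ k := by
    intro k
    induction k with
    | zero => exact ⟨1, one_mem _, by simp⟩
    | succ k ih =>
      obtain ⟨t, ht, e⟩ := ih
      refine ⟨t * (d ^ k * s * (d ^ k)⁻¹), mul_mem ht (conj_mem_of_fix ?_ hs), ?_⟩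
      · exact mem_stabilizer_iff.mp (pow_mem (mem_stabilizer_iff.mpr (mem_torus.mp hd).1) k)
      · rw [pow_succ, e, pow_succ]
        group
  obtain ⟨t, ht, e⟩ := key k
  rw [e] at hk
  have hy : x⁻¹ * t * x ∈ (A : Subgroup X) := by
    have h1 : x⁻¹ • A = A := by rw [inv_smul_eq_iff, (mem_torus.mp hx).1]
    simpa using conj_mem_of_fix h1 ht
  have h2 : x⁻¹ * d ^ k ∈ (A : Subgroup X) := by
    have := mul_mem (inv_mem hy) hk
    rwa [show (x⁻¹ * t * x)⁻¹ * (x⁻¹ * (t * d ^ k)) = x⁻¹ * d ^ k by group] at this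
  have hxd : x⁻¹ * d ^ k ∈ torus A W := mul_mem (inv_mem hx) (pow_mem hd k)
  have h3 := R.facts.eq_one_of_fix hne h2 (mem_torus.mp hxd).2
  rw [inv_mul_eq_one] at h3
  exact h3 ▸ Subgroup.npow_mem_zpowers d k

theorem IsRankOnePairing.hasTorus : HasTorus D := by
  intro a w haw
  haveI := R.pair.simple
  haveI : Fact (Nat.Prime 2) := ⟨Nat.prime_two⟩
  have hD := R.pair.odd
  obtain ⟨A, hA⟩ := exists_sylow_mem (mul_self hD.1 haw.1)
  obtain ⟨W, hW⟩ := exists_sylow_mem (mul_self hD.1 haw.2.1)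
  have hne : W ≠ A := fun e =>
    not_commute_of_odd hD haw ((R.commute_iff haw.1 haw.2.1 hA).mpr (e ▸ hW))
  have hb' : ∀ b ∈ sameCommutingClass D a, OddAdj D b w ∧ b ∈ (A : Subgroup X) := fun b hb =>
    ⟨odd_twin hD haw hb, by rw [R.twins_eq_point haw.1 hA] at hb; exact hb.2⟩
  have hprod : ∀ b ∈ sameCommutingClass D a, ∀ b' ∈ sameCommutingClass D a,
      swap b w * swap b' w ∈ torus A W := by
    intro b hb b' hb''
    obtain ⟨h1, h2⟩ := R.swap_smul (hb' b hb).1 (hb' b hb).2 hW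
    obtain ⟨h3, h4⟩ := R.swap_smul (hb' b' hb'').1 (hb' b' hb'').2 hW
    exact mem_torus.mpr ⟨by rw [mul_smul, h3, h2], by rw [mul_smul, h4, h1]⟩
  refine ⟨fun b hb b' hb'' hbb => ?_, ?_⟩
  · have h1 := (swap_spec hD (hb' b hb).1).1
    have h2 := (swap_spec hD (hb' b' hb'').1).1
    refine (odd_iff hD h1 h2).mpr fun hc => hbb ?_
    have ht := hprod b hb b' hb''
    have hsq : swap b w * swap b' w * (swap b w * swap b' w) = 1 := by
      rw [← pow_two, hc.mul_pow, pow_two, pow_two, mul_self hD.1 h1, mul_self hD.1 h2, one_mul]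
    have hmA := R.mem_of_fix hsq (mem_torus.mp ht).1
    have h3 := R.facts.eq_one_of_fix hne hmA (mem_torus.mp ht).2
    have e : swap b w = swap b' w := by rw [mul_eq_one_iff_eq_inv.mp h3, inv_eq hD.1 h2]
    rw [← swap_back hD (hb' b hb).1, e, swap_back hD (hb' b' hb'').1]
  · obtain ⟨d, hd, hT⟩ := R.torus_gen hne
    have hq : 0 < 2 ^ m - 1 := by have := R.facts.q_four; omega
    have hod : orderOf d = (2 ^ m - 1) * e := by
      rw [← Nat.card_zpowers, ← hT, R.facts.card_torus hne]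
    refine ⟨d ^ e, ?_, fun b hb b' hb'' => ?_⟩
    · rw [R.ncard_twins haw.1, orderOf_pow_of_dvd R.facts.e_pos.ne' (hod ▸ dvd_mul_left e _), hod,
        Nat.mul_div_cancel _ R.facts.e_pos]
    · have ht := hprod b hb b' hb''
      set t := swap b w * swap b' w with htdef
      set t' := t ^ (2 ^ m - 1) with ht'
      have ht'T : t' ∈ torus A W := pow_mem ht _
      -- `t'` lies in the subgroup of order `e`
      let K : Set X := {x | x ∈ torus A W ∧ x ^ e = 1}
      haveI : IsCyclic (torus A W) := isCyclic_iff_exists_zpowers_eq_top.mpr ⟨⟨d, hd⟩, by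
        rw [eq_top_iff]
        rintro ⟨x, hx⟩ -
        obtain ⟨i, hi⟩ := Subgroup.mem_zpowers_iff.mp (hT ▸ hx)
        exact ⟨i, Subtype.ext hi⟩⟩
      have hKle : K.ncard ≤ e := by
        classical
        haveI := Fintype.ofFinite (torus A W)
        refine le_trans ?_ (IsCyclic.card_pow_eq_one_le (α := torus A W) R.facts.e_pos)
        rw [← Set.ncard_coe_finset, ← Set.ncard_image_of_injective _ Subtype.val_injective]
        refine Set.ncard_le_ncard ?_ (Set.toFinite _)
        rintro x ⟨hx, hxe⟩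
        exact ⟨⟨x, hx⟩, by simp [Subtype.ext_iff, hxe], rfl⟩
      have ht'K : t' ∈ K := ⟨ht'T, by
        rw [ht', ← pow_mul, ← hod]
        obtain ⟨i, hi⟩ := Subgroup.mem_zpowers_iff.mp (hT ▸ ht)
        rw [← hi, ← zpow_natCast, ← zpow_mul, mul_comm, zpow_mul, zpow_natCast, pow_orderOf_eq_one, one_zpow]⟩
      have hcent : ∀ {S U : Sylow 2 X}, torus S U = torus A W → U ≠ S → ∀ z ∈ (S : Subgroup X), z ∈ D →
          Commute t' z := by
        intro S U hST hUS z hz hzD
        have hcard := R.facts.card_cent hUS hz ((R.mem z).mp hzD).1 ((R.mem z).mp hzD).2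
        let L : Subgroup X := torus S U ⊓ Subgroup.centralizer {z}
        have hL : Nat.card L = e := by
          rw [← hcard]
          exact Nat.card_congr (Equiv.subtypeEquivRight fun x => by
            rw [Subgroup.mem_inf, Subgroup.mem_centralizer_singleton_iff])
        have hLK : (L : Set X) ⊆ K := fun x hx => ⟨hST ▸ hx.1, by
          have := pow_card_eq_one' (G := L) (x := ⟨x, hx⟩)
          rw [hL] at this
          exact congrArg Subtype.val this⟩
        have hLe : (L : Set X) = K := Set.eq_of_subset_of_ncard_le hLK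
          (by rw [← Nat.card_coe_set_eq (L : Set X)]; exact hKle.trans hL.ge) (Set.toFinite _)
        have : t' ∈ (L : Set X) := hLe ▸ ht'K
        exact Subgroup.mem_centralizer_singleton_iff.mp this.2
      have hcb : Commute t' b := hcent rfl hne b (hb' b hb).2 hb.1
      have hcw : Commute t' w := hcent (by rw [torus, torus, inf_comm]) hne.symm w hW haw.2.1
      have hcv : Commute t' (swap b w) := by
        have hle : Subgroup.closure ({b, w} : Set X) ≤ Subgroup.centralizer {t'} :=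
          (Subgroup.closure_le _).mpr (by
            rintro x (rfl | rfl)
            · exact Subgroup.mem_centralizer_singleton_iff.mpr hcb.symm.eq
            · exact Subgroup.mem_centralizer_singleton_iff.mpr hcw.symm.eq)
        exact (Subgroup.mem_centralizer_singleton_iff.mp (hle (swap_mem_closure hD b w))).symm
      have h1 := (swap_spec hD (hb' b hb).1).1
      have h2 := (swap_spec hD (hb' b' hb'').1).1
      have hinv : swap b w * t * (swap b w)⁻¹ = t⁻¹ := by
        rw [htdef, mul_inv_rev, inv_eq hD.1 h1, inv_eq hD.1 h2, ← mul_assoc (swap b w), mul_self hD.1 h1, one_mul]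
      have hinv' : swap b w * t' * (swap b w)⁻¹ = t'⁻¹ := by rw [ht', ← conj_pow, hinv, inv_pow]
      rw [← hcv.eq, mul_inv_cancel_right] at hinv'
      have ht1 : t' = 1 := orderOf_eq_one_iff.mp
        ((Nat.coprime_two_right.mpr (R.facts.torus_odd hne ht'T)).eq_one_of_dvd
          (orderOf_dvd_of_pow_eq_one (by rw [pow_two]; exact eq_inv_iff_mul_eq_one.mp hinv')))
      obtain ⟨i, hi⟩ := Subgroup.mem_zpowers_iff.mp (hT ▸ ht)
      have hdvd : (((2 ^ m - 1) * e : ℕ) : ℤ) ∣ i * ((2 ^ m - 1 : ℕ) : ℤ) := by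
        rw [← hod, orderOf_dvd_iff_zpow_eq_one, zpow_mul, hi, zpow_natCast]
        exact ht1
      obtain ⟨k, hk⟩ : (e : ℤ) ∣ i := by
        have h0 : ((2 ^ m - 1 : ℕ) : ℤ) ≠ 0 := by exact_mod_cast hq.ne'
        rw [Nat.cast_mul, mul_comm (((2 ^ m - 1 : ℕ) : ℤ))] at hdvd
        exact Int.dvd_of_mul_dvd_mul_right h0 hdvd
      refine Subgroup.mem_zpowers_iff.mpr ⟨k, ?_⟩
      rw [← hi, hk, zpow_mul, zpow_natCast]

end CfsgLib.OddTrans
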