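import Cfsg.Agent.Lib.OddTrans.Triangle

/-!
A block and an opposite member of a pair with triangles generate `L₂(q)`.

With `u` the swapper, `T` the swapper products and `E` the root group, `E T ∪ E T u E` is closed, so the group has at
most `q (q ^ 2 - 1)` elements; its class of members is a rank one pairing, which then has `p = q` and no kernel.
-/

set_option autoImplicit false
set_option linter.unusedSectionVars false
set_option linter.style.haveILetI false

namespace CfsgLib.OddTrans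

open Cfsg MulAction Relation CfsgLib.RankOnePoint
open CfsgLib.RootInv (mul_self inv_eq ne_one odd_symm odd_conj reach_symm)
open scoped Pointwise

universe u

variable {G : Type u} [Group G] {D : Set G}

theorem swap_conj (g a w : G) : swap (g * a * g⁻¹) (g * w * g⁻¹) = g * swap a w * g⁻¹ := by
  have h : g * a * g⁻¹ * (g * w * g⁻¹) = g * (a * w) * g⁻¹ := by group
  have ho : orderOf (g * (a * w) * g⁻¹) = orderOf (a * w) :=
    MulEquiv.orderOf_eq (MulAut.conj g) (a * w)
  rw [swap, swap, h, ho, conj_pow]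
  group

variable [Finite G]

/-- A member with a product of order three is carried to the other end by the middle one. -/
theorem swap_of_three (hD : IsOddTranspositionSet D) {b w : G} (hb : b ∈ D) (hw : w ∈ D)
    (h : orderOf (b * w) = 3) : swap b w = b * w * b ∧ w = b * swap b w * b := by
  have hb2 := mul_self hD.1 hb
  have hw2 := mul_self hD.1 hw
  have h3 : b * w * b * w * b * w = 1 := by
    have := pow_orderOf_eq_one (b * w)
    rw [h, pow_succ, pow_two] at this
    simpa [mul_assoc] using this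
  have hbr : b * w * b = w * b * w := by
    calc b * w * b = (b * w * b * w * b * w) * (w * b * w) := by
          calc b * w * b = b * w * b * (w * (b * (w * w) * b) * w) := by
                rw [hw2, mul_one, hb2, mul_one, hw2, mul_one]
            _ = _ := by group
      _ = w * b * w := by rw [h3, one_mul]
  have hodd : OddAdj D b w := ⟨hb, hw, fun e => by rw [e, hw2, orderOf_one] at h; omega, by rw [h]; decide⟩
  have hmem : b * w * b ∈ D := by
    have := hD.1.conj_mem w hw b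
    rwa [inv_eq hD.1 hb] at this
  have he : swap b w = b * w * b := by
    refine (swap_unique hD hodd hmem ?_ ?_).symm
    · have h1 : b ∈ Subgroup.closure ({b, w} : Set G) := Subgroup.subset_closure (Or.inl rfl)
      exact mul_mem (mul_mem h1 (Subgroup.subset_closure (Or.inr rfl))) h1
    · calc b * w * b * b * (b * w * b) = b * w * (b * b) * b * w * b := by group
        _ = b * (w * b * w) * b := by rw [hb2, mul_one]; group
        _ = (b * b) * w * (b * b) := by rw [← hbr]; group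
        _ = w := by rw [hb2, one_mul, mul_one]
  refine ⟨he, ?_⟩
  rw [he]
  calc w = (b * b) * w * (b * b) := by rw [hb2, one_mul, mul_one]
    _ = _ := by group

/-- The rank one family with `p = q` is `L₂(q)`. -/
theorem psl_of_fam {X : Type u} [Group X] [Finite X] (hX : Fam X) {m p e : ℕ} (hf : Facts X m p e)
    (hp : p = 2 ^ m) : ∃ (F : Type) (_ : Field F) (_ : Fintype F),
      Fintype.card F = 2 ^ m ∧ Nonempty (X ≃* Matrix.ProjectiveSpecialLinearGroup (Fin 2) F) := by
  haveI : Fact (Nat.Prime 2) := ⟨Nat.prime_two⟩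
  obtain ⟨hs, hna, hTI⟩ := hX.facts
  haveI := hs
  obtain ⟨S⟩ : Nonempty (Sylow 2 X) := inferInstance
  have key : ∀ {Y : Type} [Group Y] [Finite Y] (E : X ≃* Y) {T : Sylow 2 Y} {m' p' e' : ℕ},
      Pre T m' p' e' → p' = p ∧ 2 ^ m' = 2 ^ m := by
    intro Y _ _ E T m' p' e' P
    obtain ⟨φ, hφ⟩ := exists_equiv_sylow E S T
    refine ⟨?_, ?_⟩
    · rw [← hf.card_sylow S, ← P.card_T]
      exact (Nat.card_congr (φ.toEquiv.subtypeEquiv fun x => hφ x)).symm
    · rw [← hf.card_sq_one S, ← P.card_sq]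
      refine (Nat.card_congr (φ.toEquiv.subtypeEquiv fun x => ?_)).symm
      show _ ↔ φ x ∈ (T : Subgroup Y) ∧ φ x * φ x = 1
      rw [← hφ, ← map_mul, MulEquiv.map_eq_one_iff]
  have h4 : 4 ≤ 2 ^ m := le_trans (by norm_num) (Nat.pow_le_pow_right two_pos hf.two_le)
  obtain ⟨F, iF, iFF, n, hF, hn, h⟩ := hX
  rcases h with ⟨⟨E⟩⟩ | ⟨hodd, ⟨E⟩⟩ | ⟨K, iK, iKF, hK, ⟨E⟩⟩
  · obtain ⟨E'⟩ := CfsgLib.SmallSylow.sl_mulEquiv_psl hF
    obtain ⟨T, P⟩ := exists_pre_sl hn hF
    exact ⟨F, iF, iFF, hF.trans (key (E.trans E'.symm) P).2, ⟨E⟩⟩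
  · obtain ⟨r, rfl⟩ := hodd
    have hr : 1 ≤ r := by omega
    rw [show (2 * r + 1 + 1) / 2 = r + 1 by omega] at E
    obtain ⟨T, P⟩ := exists_pre_sz hr hF
    obtain ⟨h1, h2⟩ := key (E.trans (CfsgLib.Suzuki.lieEquiv hF hr).symm) P
    exfalso
    rw [h2, hp, sq] at h1
    nlinarith
  · obtain ⟨-, cj, iC, hq, ⟨E'⟩⟩ := CfsgLib.BinaryCoset.ti_psu hn hK E
    haveI := iC
    obtain ⟨ee, T, -, P⟩ := exists_pre_psu cj hq
    obtain ⟨h1, h2⟩ := key E' P
    exfalso
    rw [h2, hp] at h1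
    have : (2 ^ m) ^ 1 < (2 ^ m) ^ 3 := Nat.pow_lt_pow_right (by omega) (by norm_num)
    rw [pow_one, h1] at this
    exact lt_irrefl _ this

namespace IsClassPair

variable (P : IsClassPair G D)
include P

/-- A block and an opposite generate `L₂(q)`. -/
theorem block_psl (hroot : HasRoot D) (htor : HasTorus D) (htri : HasTriangle D) {d x : G} (hdx : OddAdj D d x) :
    ∃ (F : Type) (_ : Field F) (_ : Fintype F), Fintype.card F = (sameCommutingClass D d).ncard + 1 ∧
      Nonempty (↥(Subgroup.closure (sameCommutingClass D d ∪ {x})) ≃* Matrix.ProjectiveSpecialLinearGroup (Fin 2) F) := by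
  classical
  have hD := P.odd
  have hd := hdx.1
  set H := Subgroup.closure (sameCommutingClass D d ∪ {x}) with hH
  set E := rootGroup hD hroot hd with hE
  have hdd := self_mem_twins (D := D) hd
  obtain ⟨m, hm2, hqm⟩ := exists_block_card P hroot hd
  obtain ⟨-, c, hc, hcm⟩ := htor d x hdx
  obtain ⟨u, hu⟩ : ∃ u, u = swap d x := ⟨_, rfl⟩
  obtain ⟨huD, hudx⟩ : u ∈ D ∧ u * d * u = x := hu ▸ swap_spec hD hdx
  have hu2 := mul_self hD.1 huD
  have huxd : u * x * u = d := hu ▸ swap_back hD hdx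
  set T := Subgroup.closure ((fun b => u * swap b x) '' sameCommutingClass D d) with hT
  have hTc : T ≤ Subgroup.zpowers c := (Subgroup.closure_le _).mpr (by
    rintro _ ⟨b, hb, rfl⟩
    exact hu ▸ hcm d hdd b hb)
  have hTcard : Nat.card T ≤ 2 ^ m - 1 := by
    refine (Subgroup.card_le_of_le hTc).trans ?_
    rw [Nat.card_zpowers]
    exact Nat.le_of_dvd (by have := Nat.pow_le_pow_right two_pos hm2; omega) (by
      rw [show 2 ^ m - 1 = (sameCommutingClass D d).ncard by omega]; exact hc)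
  have hdH : ∀ b ∈ sameCommutingClass D d, b ∈ H := fun b hb => Subgroup.subset_closure (Or.inl hb)
  have hxH : x ∈ H := Subgroup.subset_closure (Or.inr rfl)
  have hvH : ∀ b ∈ sameCommutingClass D d, swap b x ∈ H := fun b hb => (Subgroup.closure_le _).mpr (by
    rintro y (rfl | rfl)
    · exact hdH y hb
    · exact hxH) (swap_mem_closure hD b x)
  have hv : ∀ b ∈ sameCommutingClass D d,
      swap b x ∈ D ∧ swap b x * b * swap b x = x ∧ swap b x * x * swap b x = b := fun b hb =>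
    ⟨(swap_spec hD (odd_twin hD hdx hb)).1, (swap_spec hD (odd_twin hD hdx hb)).2,
      swap_back hD (odd_twin hD hdx hb)⟩
  have huH : u ∈ H := hu ▸ hvH d hdd
  have hTH : T ≤ H := (Subgroup.closure_le _).mpr (by
    rintro _ ⟨b, hb, rfl⟩
    exact mul_mem huH (hvH b hb))
  -- the twins of `x`
  have hW : ∀ b ∈ sameCommutingClass D d, u * b * u = (u * swap b x) * x * (u * swap b x)⁻¹ := fun b hb => by
    rw [mul_inv_rev, inv_eq hD.1 (hv b hb).1, inv_eq hD.1 huD]
    calc u * b * u = u * (swap b x * x * swap b x) * u := by rw [(hv b hb).2.2]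
      _ = _ := by group
  -- the torus normalises the root group
  have hTtw : ∀ t ∈ T, ∀ b ∈ sameCommutingClass D d, t * b * t⁻¹ ∈ sameCommutingClass D d := by
    intro t ht
    have hgen : ∀ b₀ ∈ sameCommutingClass D d, ∀ b ∈ sameCommutingClass D d,
        (u * swap b₀ x) * b * (u * swap b₀ x)⁻¹ ∈ sameCommutingClass D d ∧
          (u * swap b₀ x)⁻¹ * b * (u * swap b₀ x) ∈ sameCommutingClass D d := by
      intro b₀ h₀ b hb
      have e1 : (u * swap b₀ x) * b₀ * (u * swap b₀ x)⁻¹ = d := by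
        rw [mul_inv_rev, inv_eq hD.1 (hv b₀ h₀).1, inv_eq hD.1 huD]
        calc u * swap b₀ x * b₀ * (swap b₀ x * u) = u * (swap b₀ x * b₀ * swap b₀ x) * u := by group
          _ = d := by rw [(hv b₀ h₀).2.1, huxd]
      refine ⟨⟨hD.1.conj_mem b hb.1 _, ?_⟩, ⟨by simpa using hD.1.conj_mem b hb.1 (u * swap b₀ x)⁻¹, ?_⟩⟩
      · calc commutingMembers D d = commutingMembers D ((u * swap b₀ x) * b₀ * (u * swap b₀ x)⁻¹) := by rw [e1]
          _ = _ := by rw [commutingMembers_conj hD, commutingMembers_conj hD, ← h₀.2, hb.2]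
      · have e2 : (u * swap b₀ x)⁻¹ * d * (u * swap b₀ x) = b₀ := by
          conv_lhs => arg 1; arg 2; rw [← e1]
          group
        calc commutingMembers D d = commutingMembers D b₀ := h₀.2
          _ = commutingMembers D ((u * swap b₀ x)⁻¹ * d * (u * swap b₀ x)⁻¹⁻¹) := by rw [inv_inv, e2]
          _ = commutingMembers D ((u * swap b₀ x)⁻¹ * b * (u * swap b₀ x)⁻¹⁻¹) := by
            rw [commutingMembers_conj hD, commutingMembers_conj hD, hb.2]
          _ = _ := by rw [inv_inv]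
    induction ht using Subgroup.closure_induction'' with
    | mem y hy => obtain ⟨b₀, h₀, rfl⟩ := hy; exact fun b hb => (hgen b₀ h₀ b hb).1
    | inv_mem y hy => obtain ⟨b₀, h₀, rfl⟩ := hy; exact fun b hb => by rw [inv_inv]; exact (hgen b₀ h₀ b hb).2
    | one => intro b hb; simpa using hb
    | mul y z _ _ hy hz =>
      intro b hb
      rw [show y * z * b * (y * z)⁻¹ = y * (z * b * z⁻¹) * y⁻¹ by group]
      exact hy _ (hz b hb)
  have hTE : ∀ t ∈ T, ∀ e ∈ E, t * e * t⁻¹ ∈ E := fun t ht e he => by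
    rcases mem_rootGroup.mp he with h | rfl
    · exact Or.inl (hTtw t ht e h)
    · simp
  have hTcomm : ∀ t ∈ T, ∀ t' ∈ T, Commute t t' := fun t ht t' ht' => by
    obtain ⟨i, rfl⟩ := Subgroup.mem_zpowers_iff.mp (hTc ht)
    obtain ⟨j, rfl⟩ := Subgroup.mem_zpowers_iff.mp (hTc ht')
    exact Commute.zpow_zpow_self c i j
  have huT : ∀ t ∈ T, u * t * u = t⁻¹ := by
    intro t ht
    induction ht using Subgroup.closure_induction with
    | mem y hy =>
      obtain ⟨b, hb, rfl⟩ := hy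
      rw [mul_inv_rev, inv_eq hD.1 huD, inv_eq hD.1 (hv b hb).1, ← mul_assoc u u, hu2, one_mul]
    | one => rw [mul_one, hu2, inv_one]
    | mul y z hy hz h1 h2 =>
      rw [show u * (y * z) * u = u * y * (u * u) * z * u by rw [hu2, mul_one]; group,
        show u * y * (u * u) * z * u = (u * y * u) * (u * z * u) by group, h1, h2, ← mul_inv_rev,
        (hTcomm y hy z hz).eq]
    | inv y _ h1 =>
      rw [inv_inv]
      calc u * y⁻¹ * u = u * (u * y * u) * u := by rw [h1]
        _ = (u * u) * y * (u * u) := by group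
        _ = y := by rw [hu2, one_mul, mul_one]
  -- the Bruhat form
  let S : Set G := {g | (∃ e ∈ E, ∃ t ∈ T, g = e * t) ∨ ∃ e ∈ E, ∃ t ∈ T, ∃ e' ∈ E, g = e * t * u * e'}
  have hSE : ∀ s ∈ S, ∀ e ∈ E, s * e ∈ S := by
    rintro s (⟨e₁, h₁, t, ht, rfl⟩ | ⟨e₁, h₁, t, ht, e₂, h₂, rfl⟩) e he
    · exact Or.inl ⟨e₁ * (t * e * t⁻¹), mul_mem h₁ (hTE t ht e he), t, ht, by group⟩
    · exact Or.inr ⟨e₁, h₁, t, ht, e₂ * e, mul_mem h₂ he, by group⟩
  have hSu : ∀ s ∈ S, s * u ∈ S := by
    rintro s (⟨e₁, h₁, t, ht, rfl⟩ | ⟨e₁, h₁, t, ht, e₂, h₂, rfl⟩)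
    · exact Or.inr ⟨e₁, h₁, t, ht, 1, one_mem _, (mul_one _).symm⟩
    · rcases mem_rootGroup.mp h₂ with h₂ | rfl
      · -- a member of the block between two swappers
        obtain ⟨w', hw'⟩ : ∃ w', w' = u * e₂ * u := ⟨_, rfl⟩
        have htT : u * swap e₂ x ∈ T := Subgroup.subset_closure ⟨e₂, h₂, rfl⟩
        obtain ⟨τ, hτ⟩ : ∃ τ, τ = u * swap e₂ x := ⟨_, rfl⟩
        rw [← hτ] at htT
        have hwt : w' = τ * x * τ⁻¹ := by rw [hw', hτ]; exact hW e₂ h₂
        have hdw : OddAdj D d w' := by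
          have h0 := odd_conj hD.1 τ (odd_twin hD hdx (hTtw τ⁻¹ (inv_mem htT) d hdd))
          rw [show τ * (τ⁻¹ * d * τ⁻¹⁻¹) * τ⁻¹ = d by group, ← hwt] at h0
          exact h0
        obtain ⟨b₁, hb₁, h3⟩ := htri d w' hdw
        obtain ⟨hs1, hs2⟩ := swap_of_three hD hb₁.1 hdw.2.1 h3
        obtain ⟨b₂, hb₂⟩ : ∃ b₂, b₂ = τ⁻¹ * b₁ * τ⁻¹⁻¹ := ⟨_, rfl⟩
        have hb₂t : b₂ ∈ sameCommutingClass D d := hb₂ ▸ hTtw τ⁻¹ (inv_mem htT) b₁ hb₁
        obtain ⟨σ, hσ⟩ : ∃ σ, σ = u * swap b₂ x := ⟨_, rfl⟩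
        have hσT : σ ∈ T := hσ ▸ Subgroup.subset_closure ⟨b₂, hb₂t, rfl⟩
        have hswap : swap b₁ w' = τ * σ⁻¹ * τ * u := by
          rw [show b₁ = τ * b₂ * τ⁻¹ by rw [hb₂]; group, hwt, swap_conj]
          have h1 : swap b₂ x = σ⁻¹ * u := by
            rw [← huT σ hσT, hσ]
            calc swap b₂ x = (u * u) * swap b₂ x * (u * u) := by rw [hu2, one_mul, mul_one]
              _ = _ := by group
          rw [h1, ← huT τ htT]
          calc τ * (σ⁻¹ * u) * (u * τ * u) = τ * σ⁻¹ * (u * u) * τ * u := by group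
            _ = _ := by rw [hu2, mul_one]
        have h2E : b₁ ∈ E := Or.inl hb₁
        refine Or.inr ⟨e₁ * (t * b₁ * t⁻¹), mul_mem h₁ (hTE t ht b₁ h2E), t * (τ * σ⁻¹ * τ),
          mul_mem ht (mul_mem (mul_mem htT (inv_mem hσT)) htT), b₁, h2E, ?_⟩
        calc e₁ * t * u * e₂ * u = e₁ * t * w' := by rw [hw']; group
          _ = e₁ * t * (b₁ * swap b₁ w' * b₁) := by rw [← hs2]
          _ = _ := by rw [hswap]; group
      · refine Or.inl ⟨e₁, h₁, t, ht, ?_⟩
        rw [mul_one, mul_assoc, hu2, mul_one]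
  have hsub : (H : Set G) ⊆ S := by
    intro g hg
    have hle : H ≤ Subgroup.closure ((E : Set G) ∪ {u}) := (Subgroup.closure_le _).mpr (by
      rintro y (hy | rfl)
      · exact Subgroup.subset_closure (Or.inl (Or.inl hy))
      · rw [← hudx]
        exact mul_mem (mul_mem (Subgroup.subset_closure (Or.inr rfl)) (Subgroup.subset_closure (Or.inl (Or.inl hdd))))
          (Subgroup.subset_closure (Or.inr rfl)))
    suffices ∀ s ∈ S, s * g ∈ S by simpa using this 1 (Or.inl ⟨1, one_mem _, 1, one_mem _, (one_mul 1).symm⟩)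
    replace hg := hle hg
    induction hg using Subgroup.closure_induction'' with
    | mem y hy =>
      rcases hy with hy | rfl
      · exact fun s hs => hSE s hs y hy
      · exact hSu
    | inv_mem y hy =>
      rcases hy with hy | rfl
      · exact fun s hs => hSE s hs _ (inv_mem hy)
      · rw [inv_eq hD.1 huD]; exact hSu
    | one => intro s hs; rwa [mul_one]
    | mul y z _ _ hy hz => intro s hs; rw [← mul_assoc]; exact hz _ (hy s hs)
  have hEcard : Nat.card E = 2 ^ m := (card_rootGroup hD hroot hd).trans hqm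
  have hHcard : Nat.card H ≤ 2 ^ m * (2 ^ m - 1) * (2 ^ m + 1) := by
    have h1 : S ⊆ (fun v : G × G => v.1 * v.2) '' ((E : Set G) ×ˢ (T : Set G)) ∪
        (fun v : (G × G) × G => v.1.1 * v.1.2 * u * v.2) '' (((E : Set G) ×ˢ (T : Set G)) ×ˢ (E : Set G)) := by
      rintro g (⟨e, he, t, ht, rfl⟩ | ⟨e, he, t, ht, e', he', rfl⟩)
      · exact Or.inl ⟨(e, t), ⟨he, ht⟩, rfl⟩
      · exact Or.inr ⟨((e, t), e'), ⟨⟨he, ht⟩, he'⟩, rfl⟩
    rw [show Nat.card H = (H : Set G).ncard from Nat.card_coe_set_eq _]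
    refine (Set.ncard_le_ncard (hsub.trans h1) (Set.toFinite _)).trans ((Set.ncard_union_le _ _).trans ?_)
    refine (Nat.add_le_add (Set.ncard_image_le (Set.toFinite _)) (Set.ncard_image_le (Set.toFinite _))).trans ?_
    rw [Set.ncard_prod, Set.ncard_prod, Set.ncard_prod, show (E : Set G).ncard = 2 ^ m from
      (Nat.card_coe_set_eq _).symm.trans hEcard, show (T : Set G).ncard = Nat.card T from
      (Nat.card_coe_set_eq _).symm]
    calc 2 ^ m * Nat.card T + 2 ^ m * Nat.card T * 2 ^ m = 2 ^ m * Nat.card T * (2 ^ m + 1) := by ring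
      _ ≤ _ := by gcongr
  -- the members conjugate to `x`
  let DH : Set G := {y | ∃ g ∈ H, y = g * x * g⁻¹}
  have hxD : x ∈ DH := ⟨1, one_mem _, by simp⟩
  have hdD : d ∈ DH := ⟨u, huH, by rw [inv_eq hD.1 huD, huxd]⟩
  have htwD : ∀ b ∈ sameCommutingClass D d, b ∈ DH := fun b hb =>
    ⟨swap b x, hvH b hb, by rw [inv_eq hD.1 (hv b hb).1, (hv b hb).2.2]⟩
  have hDH : ∀ y ∈ DH, y ∈ H := by rintro _ ⟨g, hg, rfl⟩; exact mul_mem (mul_mem hg hxH) (inv_mem hg)
  have hclos : Subgroup.closure DH = H := le_antisymm ((Subgroup.closure_le _).mpr hDH)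
    ((Subgroup.closure_le _).mpr (by
      rintro y (hy | rfl)
      · exact Subgroup.subset_closure (htwD y hy)
      · exact Subgroup.subset_closure hxD))
  have hDHc : ∀ {g}, g ∈ H → ∀ y ∈ DH, g * y * g⁻¹ ∈ DH := by
    rintro g hg _ ⟨g', hg', rfl⟩
    exact ⟨g * g', mul_mem hg hg', by group⟩
  have hDHsub : DH ⊆ D := by rintro _ ⟨g, -, rfl⟩; exact hD.1.conj_mem x hdx.2.1 g
  -- commuting with `d` inside it
  have hcd : ∀ y ∈ DH, Commute y d → y ∈ sameCommutingClass D d := by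
    rintro _ ⟨g, hg, rfl⟩ hc
    obtain ⟨g', hg', hgd⟩ : ∃ g' ∈ H, g * x * g⁻¹ = g' * d * g'⁻¹ :=
      ⟨g * u, mul_mem hg huH, by rw [← hudx, mul_inv_rev, inv_eq hD.1 huD]; group⟩
    rw [hgd] at hc ⊢
    have hEtw : ∀ e ∈ E, ∀ b ∈ sameCommutingClass D d, e * b * e⁻¹ = b := fun e he b hb => by
      rw [(rootGroup_comm hD hroot hd he (Or.inl hb)).eq, mul_inv_cancel_right]
    rcases hsub hg' with ⟨e, he, t, ht, rfl⟩ | ⟨e, he, t, ht, e', he', rfl⟩
    · rw [show e * t * d * (e * t)⁻¹ = e * (t * d * t⁻¹) * e⁻¹ by group, hEtw e he _ (hTtw t ht d hdd)]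
      exact hTtw t ht d hdd
    · exfalso
      have h1 : e * t * u * e' * d * (e * t * u * e')⁻¹ = e * (t * x * t⁻¹) * e⁻¹ := by
        rw [show e * t * u * e' * d * (e * t * u * e')⁻¹ = e * (t * (u * (e' * d * e'⁻¹) * u⁻¹) * t⁻¹) * e⁻¹ by group,
          hEtw e' he' d hdd, inv_eq hD.1 huD, hudx]
      have h2 : OddAdj D d (t * x * t⁻¹) := by
        have h0 := odd_conj hD.1 t (odd_twin hD hdx (hTtw t⁻¹ (inv_mem ht) d hdd))
        rwa [show t * (t⁻¹ * d * t⁻¹⁻¹) * t⁻¹ = d by group] at h0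
      have h3 := odd_conj hD.1 e h2
      rw [hEtw e he d hdd, ← h1] at h3
      exact not_commute_of_odd hD h3 hc.symm
  have hreach : ∀ g ∈ H, ∀ y, ReflTransGen (OddAdj DH) x y → y ∈ DH →
      ReflTransGen (OddAdj DH) x (g * y * g⁻¹) := by
    intro g hg
    have step : ∀ z ∈ DH, ∀ y, ReflTransGen (OddAdj DH) x y → y ∈ DH →
        ReflTransGen (OddAdj DH) x (z * y * z⁻¹) := by
      intro z hz y hy hyD
      rcases commute_or_odd hD (hDHsub hz) (hDHsub hyD) with hc' | ho
      · rwa [hc'.eq, mul_inv_cancel_right]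
      · have h' := odd_conj hD.1 z ho
        rw [mul_inv_cancel_right] at h'
        exact (hy.tail ⟨hyD, hz, (odd_symm ho).2.2.1, (odd_symm ho).2.2.2⟩).tail
          ⟨hz, hDHc (hDH z hz) y hyD, h'.2.2.1, h'.2.2.2⟩
    rw [← hclos] at hg
    induction hg using Subgroup.closure_induction'' with
    | mem z hz => exact step z hz
    | inv_mem z hz => rw [inv_eq hD.1 (hDHsub hz)]; exact step z hz
    | one => intro y hy _; simpa using hy
    | mul y z hy' hz' hy hz =>
      intro w hw hwD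
      rw [show y * z * w * (y * z)⁻¹ = y * (z * w * z⁻¹) * y⁻¹ by group]
      exact hy _ (hz w hw hwD) (hDHc (hclos ▸ hz') w hwD)
  obtain ⟨b₀, hb₀, hb₀d⟩ : ∃ b ∈ sameCommutingClass D d, b ≠ d :=
    Set.exists_ne_of_one_lt_ncard (by have := Nat.pow_le_pow_right two_pos hm2; omega) d
  have hS : IsSub D DH := by
    refine ⟨hDHsub, fun s hs t ht => hDHc (hDH s hs) t ht,
      ⟨d, hdD, b₀, htwD b₀ hb₀, twins_commute hD hdd hb₀, htwD _ (hroot d hd d hdd b₀ hb₀ hb₀d.symm)⟩,
      fun y hy z hz => ?_⟩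
    obtain ⟨g, hg, rfl⟩ := hy
    obtain ⟨g', hg', rfl⟩ := hz
    exact (reach_symm (hreach g hg x ReflTransGen.refl hxD)).trans (hreach g' hg' x ReflTransGen.refl hxD)
  have hnc : ¬ IsConnectedSet (CommAdj (img DH)) (img DH) := by
    intro h
    have hr := h (res DH d) ⟨d, hdD, rfl⟩ (res DH x) ⟨x, hxD, rfl⟩
    suffices ∀ r, ReflTransGen (CommAdj (img DH)) (res DH d) r → ∀ y ∈ DH, res DH y = r →
        y ∈ sameCommutingClass D d from
      not_commute_of_odd hD hdx (twins_commute hD hdd (this _ hr x hxD rfl))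
    intro r hr
    induction hr with
    | refl => exact fun y hy e => hcd y hy ((res_commute_iff hD hS hy hdD).mp (by rw [e]))
    | tail _ h ih =>
      intro y hy e
      obtain ⟨b, hb, hbr⟩ := h.1
      have hby : Commute b y := (res_commute_iff hD hS hb hy).mp (by rw [hbr, e]; exact h.2.2.2)
      exact hcd y hy (commute_twin hD (ih b hb hbr).2.symm (hDHsub hy) hby.symm)
  have PR := res_classPair hD hS
  haveI := PR.simple
  obtain ⟨L, hL⟩ := CfsgLib.RootComm.stronglyEmbedded (CfsgLib.RootComm.odd2_of_root PR.odd.1) PR.odd.1.generates hnc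
    CfsgLib.Bender.Q.theoremQ
  have hfam := fam_of_stronglyEmbedded hL
  obtain ⟨m', p, e, R⟩ := exists_rankOne PR hnc
  have hdI : res DH d ∈ img DH := ⟨d, hdD, rfl⟩
  have htwins : sameCommutingClass (img DH) (res DH d) = res DH '' sameCommutingClass D d := by
    ext r
    constructor
    · rintro ⟨⟨y, hy, rfl⟩, he⟩
      exact ⟨y, hcd y hy ((res_commute_iff hD hS hy hdD).mp (commute_of_twin PR.odd ⟨y, hy, rfl⟩ he)), rfl⟩
    · rintro ⟨b, hb, rfl⟩
      exact ⟨⟨b, htwD b hb, rfl⟩, R.cm_eq_of_commute hdI ⟨b, htwD b hb, rfl⟩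
        ((res_commute_iff hD hS hdD (htwD b hb)).mpr (twins_commute hD hdd hb))⟩
  have hinj : Set.InjOn (res DH) (sameCommutingClass D d) := by
    intro b hb b' hb' he
    by_contra hne
    have hmem := htwD _ (hroot d hd b hb b' hb' hne)
    refine res_ne_one hD hS hmem ?_
    rw [res_mul (Subgroup.subset_closure (htwD b hb)) (Subgroup.subset_closure (htwD b' hb')), he,
      res_sq hD hS (htwD b' hb')]
  have hmm : 2 ^ m' = 2 ^ m := by
    have h1 := R.ncard_twins hdI
    rw [htwins, hinj.ncard_image] at h1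
    have := R.facts.q_four
    omega
  -- comparing the orders
  have hX : Nat.card (Res DH) = p * ((2 ^ m - 1) * e) * (p + 1) := by
    haveI : Fact (Nat.Prime 2) := ⟨Nat.prime_two⟩
    obtain ⟨S₀⟩ : Nonempty (Sylow 2 (Res DH)) := inferInstance
    rw [← Subgroup.card_mul_index (stabilizer (Res DH) S₀), R.facts.card_stab, index_stabilizer_of_transitive,
      R.facts.card_points, hmm]
  have hDHH : Nat.card (Subgroup.closure DH) = Nat.card H := by rw [hclos]
  have hle : Nat.card (Res DH) ≤ Nat.card (Subgroup.closure DH) :=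
    Nat.card_le_card_of_surjective _ (QuotientGroup.mk'_surjective _)
  have hq4 : 4 ≤ 2 ^ m := le_trans (by norm_num) (Nat.pow_le_pow_right two_pos hm2)
  have he1 : 1 ≤ e := R.facts.e_pos
  have hpq : 2 ^ m ≤ p := hmm ▸ R.facts.q_le_p
  have hp : p = 2 ^ m := by
    by_contra hne
    have h1 : 2 ^ m * (2 ^ m - 1) * (2 ^ m + 1) < p * ((2 ^ m - 1) * e) * (p + 1) := by
      have ha : 2 ^ m * (2 ^ m - 1) < p * (2 ^ m - 1) := Nat.mul_lt_mul_of_pos_right (by omega) (by omega)
      calc 2 ^ m * (2 ^ m - 1) * (2 ^ m + 1) < p * (2 ^ m - 1) * (2 ^ m + 1) :=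
            Nat.mul_lt_mul_of_pos_right ha (by omega)
        _ ≤ p * ((2 ^ m - 1) * e) * (p + 1) :=
            Nat.mul_le_mul (Nat.mul_le_mul_left _ (Nat.le_mul_of_pos_right _ he1)) (by omega)
    omega
  have hcard : Nat.card (Res DH) = Nat.card (Subgroup.closure DH) := by
    refine le_antisymm hle ?_
    rw [hDHH, hX, hp]
    calc Nat.card H ≤ 2 ^ m * (2 ^ m - 1) * (2 ^ m + 1) := hHcard
      _ ≤ _ := Nat.mul_le_mul_right _ (Nat.mul_le_mul_left _ (Nat.le_mul_of_pos_right _ he1))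
  have hbij : Function.Bijective (QuotientGroup.mk' (twoZCore (Subgroup.closure DH))) :=
    (Nat.bijective_iff_surjective_and_card _).mpr ⟨QuotientGroup.mk'_surjective _, hcard.symm⟩
  obtain ⟨F, iF, iFF, hF, ⟨Φ⟩⟩ := psl_of_fam hfam R.facts (hp.trans hmm.symm)
  exact ⟨F, iF, iFF, by rw [hF, hmm, hqm],
    ⟨((MulEquiv.subgroupCongr hclos.symm).trans (MulEquiv.ofBijective _ hbij)).trans Φ⟩⟩

end IsClassPair

end CfsgLib.OddTrans
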