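import Cfsg.Agent.Lib.OddTrans.Pivot
import Cfsg.Agent.Lib.OddTrans.Base

/-!
Fullness, and lifting every member of the residual at `a` to a neighbour of an opposite `w`.
-/

set_option autoImplicit false
set_option linter.unusedSectionVars false
set_option linter.style.haveILetI false

namespace CfsgLib.OddTrans

open Cfsg Relation
open CfsgLib.RootInv (mul_self inv_eq ne_one odd_symm odd_conj)

universe u

variable {G : Type u} [Group G] [Finite G] {D : Set G}

namespace IsClassPair

variable (P : IsClassPair G D) (hcon : IsConnectedSet (CommAdj D) D)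
include P hcon

theorem core_nonempty {a y : G} (ha : a ∈ D) (hy : y ∈ out D a)
    (hc : IsConnectedSet (CommAdj (img (out D a))) (img (out D a))) : (core D a y).Nonempty := by
  have := (P.residual hcon ha).out_nonempty hc (a := res (out D a) y) ⟨y, hy, rfl⟩
  rw [P.out_res_eq hcon ha hy] at this
  exact Set.image_nonempty.mp this

theorem residual_connected {a y : G} (ha : a ∈ D) (hy : y ∈ out D a)
    (hc : IsConnectedSet (CommAdj (img (out D a))) (img (out D a))) :
    IsConnectedSet (CommAdj (img (out D y))) (img (out D y)) := by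
  obtain ⟨z, hz⟩ := P.core_nonempty hcon ha hy hc
  rw [core_comm] at hz
  have h : res (out D y) z ∈ out (img (out D y)) (res (out D y) a) := by
    rw [P.out_res_eq hcon hy.1 (out_symm ha hy)]; exact ⟨z, hz, rfl⟩
  exact (P.residual hcon hy.1).connected_of_nontwin ⟨a, out_symm ha hy, rfl⟩ h.1 h.2.1.symm h.2.2

variable (hres : GoodResiduals D)
include hres

/-- In a connected residual: a common neighbour of `a`, `y`, `w` identified at both residuals with a given one. -/
theorem exists_core_lift {a w y z : G} (haw : OddAdj D a w) (hya : y ∈ out D a) (hyw : y ∈ out D w)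
    (hc : IsConnectedSet (CommAdj (img (out D a))) (img (out D a))) (hz : z ∈ core D a y) :
    ∃ z' ∈ core D a y, Commute z' w ∧
      res (out (img (out D a)) (res (out D a) y)) (res (out D a) z') =
        res (out (img (out D a)) (res (out D a) y)) (res (out D a) z) := by
  have hD := P.odd
  have hay := out_symm haw.1 hya
  have hwy := out_symm haw.2.1 hyw
  have hS := P.out_isSub hcon hya.1
  have hcy := P.residual_connected hcon haw.1 hya hc
  have hrig := (hres y hya.1).2.2 hcy
  have ho := odd_res hD hS hay hwy haw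
  obtain ⟨η, hη1, hη2⟩ := hrig.good _ _ ho
  have heq := P.out_res_eq hcon hya.1 hay
  rw [core_comm] at hz
  obtain ⟨X, hX, hXz, hXw⟩ := hrig.lift _ _ η hη1 hη2 ho (res (out D y) z) (heq ▸ ⟨z, hz, rfl⟩)
  obtain ⟨z', hz', rfl⟩ := (heq ▸ hX : X ∈ res (out D y) '' core D y a)
  refine ⟨z', core_comm (D := D) a y ▸ hz', (res_commute_iff hD hS hz'.1 hwy).mp hXw, ?_⟩
  have h1 := (P.res_res_iff hcon hya.1 hay hz' hz hcy).mp hXz
  rw [core_comm] at hz hz' h1
  exact (P.res_res_iff hcon haw.1 hya hz' hz hc).mpr h1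

/-- An element off `y` centralised by the pivot. -/
theorem exists_witness {a w y h : G} {p : ℕ} (haw : OddAdj D a w) (hya : y ∈ out D a) (hyw : y ∈ out D w)
    (H : IsPivot D a w y h p) : ∃ r, Commute r a ∧ Commute r h ∧ OddAdj D r y := by
  have hD := P.odd
  have ha := haw.1
  have hS := P.out_isSub hcon ha
  by_cases hc : IsConnectedSet (CommAdj (img (out D a))) (img (out D a))
  · obtain ⟨z, hz⟩ := P.core_nonempty hcon ha hya hc
    obtain ⟨z', hz', hz'w, -⟩ := P.exists_core_lift hcon hres haw hya hyw hc hz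
    have haz' : a ∈ out D z' := out_symm ha hz'.1
    have hyz' : y ∈ out D z' := out_symm hya.1 hz'.2.1
    have hwz' : w ∈ out D z' := ⟨haw.2.1, hz'w.symm, fun e =>
      not_commute_of_odd hD haw (commute_twin hD e ha haz'.2.1)⟩
    have hS' := P.out_isSub hcon hz'.1.1
    have hR' := P.residual hcon hz'.1.1
    have hay : res (out D z') a ∈ img (out D z') := ⟨a, haz', rfl⟩
    have hyR : res (out D z') y ∈ img (out D z') := ⟨y, hyz', rfl⟩
    have hwR : res (out D z') w ∈ img (out D z') := ⟨w, hwz', rfl⟩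
    have c1 := (res_commute_iff hD hS' hyz' haz').mpr hya.2.1
    have c2 := (res_commute_iff hD hS' hyz' hwz').mpr hyw.2.1
    have ho := odd_res hD hS' haz' hwz' haw
    have hne1 : commutingMembers (img (out D z')) (res (out D z') a) ≠
        commutingMembers (img (out D z')) (res (out D z') y) := fun e =>
      not_commute_of_odd hR'.odd ho (commute_twin hR'.odd e.symm hwR c2.symm).symm
    have hne2 : commutingMembers (img (out D z')) (res (out D z') w) ≠
        commutingMembers (img (out D z')) (res (out D z') y) := fun e =>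
      not_commute_of_odd hR'.odd ho (commute_twin hR'.odd e.symm hay c1.symm)
    have hc' := hR'.connected_of_nontwin hay hyR c1.symm hne1
    have hrig := (hres z' hz'.1.1).2.2 hc'
    have hyA : res (out D z') y ∈ out (img (out D z')) (res (out D z') a) := ⟨hyR, c1, hne1⟩
    have hyW : res (out D z') y ∈ out (img (out D z')) (res (out D z') w) := ⟨hyR, c2, hne2⟩
    obtain ⟨o, hoo, hyo⟩ := hR'.exists_partner hay hyA
    obtain ⟨X, hX, hXo, hXw⟩ := hrig.lift _ _ _ hyA hyW ho o hoo
    obtain ⟨r, hr, rfl⟩ := hX.1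
    have hra := (res_commute_iff hD hS' hr haz').mp hX.2.1
    have hrw := (res_commute_iff hD hS' hr hwz').mp hXw
    refine ⟨r, hra, (H.cent r hr.1 hra hrw).symm, (odd_iff hD hr.1 hya.1).mpr fun hcm => ?_⟩
    have hS'' := hR'.out_isSub hc' hay
    have h1 := (res_commute_iff hR'.odd hS'' hX hyA).mpr ((res_commute_iff hD hS' hr hyz').mpr hcm)
    rw [hXo, res_commute_iff hR'.odd hS'' hoo hyA] at h1
    exact not_commute_of_odd hR'.odd hyo h1.symm
  · obtain ⟨m, p', e, R⟩ := exists_rankOne (P.residual hcon ha) hc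
    obtain ⟨hst, hst'⟩ := out_stable hD ha H.block
    obtain ⟨θ, hθ⟩ := exists_resAut hD hS (MulAut.conj h) hst
      (fun s hs => by simpa [MulAut.conj_symm_apply] using hst' s hs)
    have hθp : θ ^ p = 1 := by
      refine MulEquiv.ext fun X => ?_
      obtain ⟨g, hg, rfl⟩ := res_surjective X
      have hj : ∀ j : ℕ, h ^ j * g * (h ^ j)⁻¹ ∈ Subgroup.closure (out D a) ∧
          (θ ^ j) (res (out D a) g) = res (out D a) (h ^ j * g * (h ^ j)⁻¹) := fun j => by
        induction j with
        | zero => exact ⟨by simpa using hg, by simp⟩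
        | succ j ih =>
          have hstep : h * (h ^ j * g * (h ^ j)⁻¹) * h⁻¹ ∈ Subgroup.closure (out D a) := by
            have hle : Subgroup.closure (out D a) ≤ (Subgroup.closure (out D a)).comap (MulAut.conj h).toMonoidHom :=
              (Subgroup.closure_le _).mpr fun s hs => Subgroup.subset_closure (hst s hs)
            exact hle ih.1
          have e1 : h ^ (j + 1) * g * (h ^ (j + 1))⁻¹ = h * (h ^ j * g * (h ^ j)⁻¹) * h⁻¹ := by
            rw [pow_succ']; group
          rw [e1]
          exact ⟨hstep, by rw [pow_succ', MulAut.mul_apply, ih.2, hθ _ ih.1]; rfl⟩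
      rw [(hj p).2, ← H.order, pow_orderOf_eq_one]
      simp
    have hhy : Commute h y := commute_closure_out hD H.mem
    have hfx : θ (res (out D a) y) = res (out D a) y := by
      rw [hθ _ (Subgroup.subset_closure hya)]
      show res (out D a) (h * y * h⁻¹) = _
      rw [hhy.eq, mul_inv_cancel_right]
    obtain ⟨X, hX, hfX, hXy⟩ := R.exists_fixed_opposite H.prime H.ne_two hθp ⟨y, hya, rfl⟩ hfx
    obtain ⟨r₀, hr₀, rfl⟩ := hX
    rw [hθ _ (Subgroup.subset_closure hr₀)] at hfX
    obtain ⟨r, hr, hreq, hrh, -⟩ := P.fixed_lift hcon haw H hr₀ hfX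
    refine ⟨r, hr.2.1, hrh, (odd_iff hD hr.1 hya.1).mpr fun hcm => hXy ?_⟩
    rw [← hreq]
    exact (res_commute_iff hD hS hr hya).mpr hcm

/-- Fullness: the twins of the image of `a` in the residual at `y` come from twins of `a`. -/
theorem full {a y : G} (ha : a ∈ D) (hy : y ∈ out D a) :
    sameCommutingClass (img (out D y)) (res (out D y) a) = res (out D y) '' sameCommutingClass D a := by
  refine Set.Subset.antisymm ?_ (P.res_twins_subset hcon ha hy)
  obtain ⟨w, hw, haw⟩ := P.exists_partner hy.1 (out_symm ha hy)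
  have hyw := out_symm hy.1 hw
  obtain ⟨h, p, H⟩ := P.exists_pivot hcon hres haw hy hyw
  obtain ⟨r, hra, hrh, hry⟩ := P.exists_witness hcon hres haw hy hyw H
  exact P.full_of_witness hcon hres haw hy hyw H hra hrh hry

theorem ncard_res_twins {a y y₁ : G} (ha : a ∈ D) (hy : y ∈ out D a) (hy₁ : y₁ ∈ out D a) :
    (sameCommutingClass (img (out D a)) (res (out D a) y₁)).ncard =
      (sameCommutingClass (img (out D y)) (res (out D y) a)).ncard := by
  rw [P.full hcon hres hy₁.1 (out_symm ha hy₁), P.full hcon hres ha hy, P.block_image_card_indep hcon ha hy hy₁,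
    P.block_image_card_symm hcon ha hy₁]

/-- Every member of the residual at `a` lifts to a neighbour of `w`. -/
theorem lift {a w y : G} (hya : y ∈ out D a) (hyw : y ∈ out D w) (haw : OddAdj D a w) {z : G} (hz : z ∈ out D a) :
    ∃ z' ∈ out D a, res (out D a) z' = res (out D a) z ∧ Commute z' w := by
  have hD := P.odd
  have ha := haw.1
  have hS := P.out_isSub hcon ha
  have hR := P.residual hcon ha
  obtain ⟨h, p, H⟩ := P.exists_pivot hcon hres haw hya hyw
  obtain ⟨hst, hst'⟩ := out_stable hD ha H.block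
  obtain ⟨θ, hθ⟩ := exists_resAut hD hS (MulAut.conj h) hst
    (fun s hs => by simpa [MulAut.conj_symm_apply] using hst' s hs)
  have hθs : ∀ s ∈ out D a, θ (res (out D a) s) = res (out D a) (h * s * h⁻¹) := fun s hs =>
    hθ s (Subgroup.subset_closure hs)
  have hfixc : ∀ s ∈ out D a, Commute h s → θ (res (out D a) s) = res (out D a) s := fun s hs hc => by
    rw [hθs s hs, hc.eq, mul_inv_cancel_right]
  suffices hall : θ (res (out D a) z) = res (out D a) z by
    rw [hθs z hz] at hall
    obtain ⟨z', hz', he, -, hw⟩ := P.fixed_lift hcon haw H hz hall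
    exact ⟨z', hz', he, hw⟩
  have hθp : θ ^ p = 1 := by
    refine MulEquiv.ext fun X => ?_
    obtain ⟨g, hg, rfl⟩ := res_surjective X
    have hj : ∀ j : ℕ, h ^ j * g * (h ^ j)⁻¹ ∈ Subgroup.closure (out D a) ∧
        (θ ^ j) (res (out D a) g) = res (out D a) (h ^ j * g * (h ^ j)⁻¹) := fun j => by
      induction j with
      | zero => exact ⟨by simpa using hg, by simp⟩
      | succ j ih =>
        have hle : Subgroup.closure (out D a) ≤ (Subgroup.closure (out D a)).comap (MulAut.conj h).toMonoidHom :=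
          (Subgroup.closure_le _).mpr fun s hs => Subgroup.subset_closure (hst s hs)
        have e1 : h ^ (j + 1) * g * (h ^ (j + 1))⁻¹ = h * (h ^ j * g * (h ^ j)⁻¹) * h⁻¹ := by
          rw [pow_succ']; group
        rw [e1]
        exact ⟨hle ih.1, by rw [pow_succ', MulAut.mul_apply, ih.2, hθ _ ih.1]; rfl⟩
    rw [(hj p).2, ← H.order, pow_orderOf_eq_one]
    simp
  -- twins of a fixed neighbour are fixed
  have htw : ∀ y' ∈ out D a, Commute y' w → ∀ X ∈ sameCommutingClass (img (out D a)) (res (out D a) y'), θ X = X := by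
    intro y' hy' hy'w X hX
    rw [P.full hcon hres hy'.1 (out_symm ha hy')] at hX
    obtain ⟨b, hb, rfl⟩ := hX
    have hbo : b ∈ out D a := P.twin_mem_out hy'.1 (out_symm ha hy') hb
    exact hfixc b hbo (H.cent b hb.1 hbo.2.1 (commute_twin hD hb.2 haw.2.1 hy'w.symm).symm)
  have hpq : ∀ y' ∈ out D a, p ∣ (sameCommutingClass (img (out D a)) (res (out D a) y')).ncard := fun y' hy' => by
    rw [P.ncard_res_twins hcon hres ha hya hy']; exact H.dvd
  have hyw' : Commute y w := hyw.2.1
  by_cases hc : IsConnectedSet (CommAdj (img (out D a))) (img (out D a))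
  · have hθD : ∀ X ∈ img (out D a), θ X ∈ img (out D a) := by
      rintro _ ⟨s, hs, rfl⟩
      exact ⟨h * s * h⁻¹, hst s hs, (hθs s hs).symm⟩
    suffices hwalk : ∀ X, ReflTransGen (CommAdj (img (out D a))) (res (out D a) y) X → θ X = X from
      hwalk _ (hc _ ⟨y, hya, rfl⟩ _ ⟨z, hz, rfl⟩)
    intro X hX
    induction hX with
    | refl => exact hfixc y hya (H.cent y hya.1 hya.2.1 hyw')
    | @tail B C _ hBC ih =>
      obtain ⟨s, hs, rfl⟩ := hBC.1
      rw [hθs s hs] at ih
      obtain ⟨y', hy', hy'eq, -, hy'w⟩ := P.fixed_lift hcon haw H hs ih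
      rw [← hy'eq] at hBC
      by_cases e : commutingMembers (img (out D a)) (res (out D a) y') = commutingMembers (img (out D a)) C
      · exact htw y' hy' hy'w C ⟨hBC.2.1, e⟩
      have hC : C ∈ out (img (out D a)) (res (out D a) y') := ⟨hBC.2.1, hBC.2.2.2.symm, e⟩
      have hy'D := hy'.1
      have hwy' : y' ∈ out D w := ⟨hy'D, hy'w, fun e' =>
        not_commute_of_odd hD haw (commute_twin hD e'.symm ha hy'.2.1.symm)⟩
      have heq := P.out_res_eq hcon ha hy'
      obtain ⟨z₀, hz₀, rfl⟩ := (heq ▸ hC : C ∈ res (out D a) '' core D a y')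
      obtain ⟨z', hz', hz'w, he⟩ := P.exists_core_lift hcon hres haw hy' hwy' hc hz₀
      have hm : ∀ {v}, v ∈ core D a y' → res (out D a) v ∈ out (img (out D a)) (res (out D a) y') :=
        fun hv => heq ▸ ⟨_, hv, rfl⟩
      have hx : res (out D a) y' ∈ img (out D a) := ⟨y', hy', rfl⟩
      obtain ⟨o', ho', hCo⟩ := hR.exists_partner hx (hm hz₀)
      obtain ⟨o₀, ho₀, rfl⟩ := (heq ▸ ho' : o' ∈ res (out D a) '' core D a y')
      obtain ⟨o₁, ho₁, ho₁w, he₁⟩ := P.exists_core_lift hcon hres haw hy' hwy' hc ho₀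
      have hodd := hR.fibre_odd hc hx (hm hz₀) (hm ho₀) hCo (v := res (out D a) z') (w := res (out D a) o₁)
        ⟨hm hz', he⟩ ⟨hm ho₁, he₁⟩
      have hfix : ∀ {v}, v ∈ core D a y' → Commute v w → θ (res (out D a) v) = res (out D a) v := fun hv hvw =>
        hfixc _ hv.1 (H.cent _ hv.1.1 hv.1.2.1 hvw)
      exact hR.norm_fixed hc ((hres a ha).2.2 hc) hx (hm hz') (hm ho₁) hodd θ hθD H.prime H.ne_two hθp
        (hpq y' hy') (htw y' hy' hy'w) (hfix hz' hz'w) (hfix ho₁ ho₁w) _ ⟨hm hz₀, he.symm⟩
  · obtain ⟨m, p', e, R⟩ := exists_rankOne hR hc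
    have hx : res (out D a) y ∈ img (out D a) := ⟨y, hya, rfl⟩
    have := R.eq_one_of_fix_block H.prime H.ne_two hθp hx (R.ncard_twins hx ▸ hpq y hya) (htw y hya hyw')
    rw [this]
    rfl

end IsClassPair

end CfsgLib.OddTrans
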