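import Cfsg.Agent.Lib.OddTrans.Lift

/-!
A simple pair with a connected commuting graph is rigid: two opposites have a common neighbour, blocks embed in
every residual and with `1` are groups, and the swappers give a cyclic torus.
-/

set_option autoImplicit false
set_option linter.unusedSectionVars false
set_option linter.style.haveILetI false

namespace CfsgLib.OddTrans

open Cfsg Relation
open CfsgLib.RootInv (mul_self inv_eq ne_one odd_symm odd_conj)

universe u

variable {G : Type u} [Group G] [Finite G] {D : Set G}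

namespace IsClassPair

variable (P : IsClassPair G D) (hcon : IsConnectedSet (CommAdj D) D) (hres : GoodResiduals D)
include P hcon hres

theorem common_of_two_steps {a b : G} (ha : a ∈ D) (hb : b ∈ D) :
    Commute a b ∨ ∃ e ∈ D, Commute e a ∧ Commute e b := by
  have hD := P.odd
  have hr := hcon a ha b hb
  clear hb
  induction hr with
  | refl => exact Or.inl (Commute.refl a)
  | @tail c b _ hcb ih =>
    have hcb' : Commute c b := hcb.2.2.2
    by_cases hac : Commute a c
    · exact Or.inr ⟨c, hcb.1, hac.symm, hcb'⟩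
    obtain ⟨e, he, hea, hec⟩ := ih.resolve_left hac
    have haco : OddAdj D a c := (odd_iff hD ha hcb.1).mpr hac
    by_cases e' : commutingMembers D c = commutingMembers D b
    · exact Or.inr ⟨e, he, hea, commute_twin hD e' he hec⟩
    have hea' : e ∈ out D a := ⟨he, hea, fun h => hac (commute_twin hD h.symm hcb.1 hec.symm).symm⟩
    have hec' : e ∈ out D c := ⟨he, hec, fun h => hac (commute_twin hD h.symm ha hea.symm)⟩
    obtain ⟨b', hb', he', hb'a⟩ := P.lift hcon hres hec' hea' (odd_symm haco) (z := b) ⟨hcb.2.1, hcb'.symm, e'⟩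
    exact Or.inr ⟨b', hb'.1, hb'a,
      (res_commute_iff hD (P.out_isSub hcon hcb.1) hb' ⟨hcb.2.1, hcb'.symm, e'⟩).mp (by rw [he'])⟩

theorem good {a w : G} (haw : OddAdj D a w) : ∃ y, y ∈ out D a ∧ y ∈ out D w := by
  have hD := P.odd
  obtain ⟨e, he, hea, hew⟩ :=
    (P.common_of_two_steps hcon hres haw.1 haw.2.1).resolve_left (not_commute_of_odd hD haw)
  exact ⟨e, ⟨he, hea, fun h => not_commute_of_odd hD haw (commute_twin hD h.symm haw.2.1 hew.symm).symm⟩,
    ⟨he, hew, fun h => not_commute_of_odd hD haw (commute_twin hD h.symm haw.1 hea.symm)⟩⟩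

/-- A product of twins trivial at one neighbour is trivial. -/
theorem eq_one_of_block_kernel {a y k : G} (ha : a ∈ D) (hy : y ∈ out D a)
    (hk : k ∈ Subgroup.closure (sameCommutingClass D a)) (hky : k ∈ fixBlocks (out D y)) : k = 1 := by
  have hD := P.odd
  have hka : ∀ b ∈ D, Commute b a → Commute k b := fun b hb hc =>
    commute_of_mem_closure hD (fun s hs => (commute_twin hD hs.2 hb hc).symm) hk
  have hall : ∀ y₁ ∈ out D a, k ∈ fixBlocks (out D y₁) := by
    intro y₁ hy₁
    obtain ⟨g, hg, rfl⟩ := (P.out_isSub hcon ha).exists_conj hD hy hy₁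
    have hgk : Commute g k :=
      (commute_of_mem_closure hD (fun s hs => (commute_twin_closure_out hD ha hs hg).symm) hk).symm
    have := fixBlocks_map (T := out D (g * y * g⁻¹)) (MulAut.conj g) (fun s hs => out_conj hD y g hs)
      (fun t ht => by simpa [MulAut.conj_symm_apply, mul_assoc] using out_conj hD _ g⁻¹ ht) hky
    rwa [MulAut.conj_apply, hgk.eq, mul_inv_cancel_right] at this
  refine P.eq_one_of_fix_blocks fun b hb => ?_
  by_cases hba : Commute b a
  · rw [(hka b hb hba).eq, mul_inv_cancel_right]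
  have hab : OddAdj D b a := (odd_iff hD hb ha).mpr hba
  obtain ⟨y₁, hy₁b, hy₁a⟩ := P.good hcon hres hab
  have hby := out_symm hb hy₁b
  have hfix := hall y₁ hy₁a
  have hbb : Commute (k * b * k⁻¹) b := (hfix.2.2 b hby b hby).mpr (Commute.refl b)
  by_contra hne
  have hb' : k * b * k⁻¹ ∈ out D b := ⟨hD.1.conj_mem b hb k, hbb, fun e => hne e.symm⟩
  obtain ⟨o, ho, hbo⟩ := P.exists_partner hb hb'
  obtain ⟨o', ho', he, ho'a⟩ := P.lift hcon hres hy₁b hy₁a hab ho
  have hc1 : Commute (k * b * k⁻¹) o' := by
    have := ho'.2.1.symm.map (MulAut.conj k).toMonoidHom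
    simpa [MulAut.conj_apply, (hka o' ho'.1 ho'a).eq] using this
  have hS := P.out_isSub hcon hb
  have hc2 := (res_commute_iff hD hS hb' ho').mpr hc1
  rw [he, res_commute_iff hD hS hb' ho] at hc2
  exact not_commute_of_odd hD hbo hc2

theorem inj {a y : G} (ha : a ∈ D) (hy : y ∈ out D a) {b c : G} (hb : b ∈ sameCommutingClass D a)
    (hc : c ∈ sameCommutingClass D a) (he : res (out D y) b = res (out D y) c) : b = c := by
  have h := P.eq_one_of_block_kernel hcon hres ha hy
    (mul_mem (Subgroup.subset_closure hb) (Subgroup.subset_closure hc))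
    ((res_eq_iff P.odd (P.out_isSub hcon hy.1) (P.twin_mem_out ha hy hb) (P.twin_mem_out ha hy hc)).mp he)
  rw [mul_eq_one_iff_eq_inv.mp h, inv_eq P.odd.1 hc.1]

theorem hasRoot_of : HasRoot D := by
  intro a ha b hb c hc hne
  obtain ⟨y, hy⟩ := P.out_nonempty hcon ha
  have hD := P.odd
  have hS := P.out_isSub hcon hy.1
  have hbo := P.twin_mem_out ha hy hb
  have hco := P.twin_mem_out ha hy hc
  have h1 := (hres y hy.1).1 _ ⟨a, out_symm ha hy, rfl⟩ _ (P.res_twins_subset hcon ha hy ⟨b, hb, rfl⟩) _
    (P.res_twins_subset hcon ha hy ⟨c, hc, rfl⟩) (fun e => hne (P.inj hcon hres ha hy hb hc e))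
  rw [P.full hcon hres ha hy] at h1
  obtain ⟨d, hd, hde⟩ := h1
  have hdo := P.twin_mem_out ha hy hd
  have hk : b * c * d ∈ Subgroup.closure (out D y) :=
    mul_mem (mul_mem (Subgroup.subset_closure hbo) (Subgroup.subset_closure hco)) (Subgroup.subset_closure hdo)
  have hk1 : res (out D y) (b * c * d) = 1 := by
    rw [res_mul (mul_mem (Subgroup.subset_closure hbo) (Subgroup.subset_closure hco)) (Subgroup.subset_closure hdo),
      res_mul (Subgroup.subset_closure hbo) (Subgroup.subset_closure hco), ← hde, res_sq hD hS hdo]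
  have := P.eq_one_of_block_kernel hcon hres ha hy
    (mul_mem (mul_mem (Subgroup.subset_closure hb) (Subgroup.subset_closure hc)) (Subgroup.subset_closure hd))
    ((res_eq_one_iff hD hS hk).mp hk1)
  rw [mul_eq_one_iff_eq_inv, inv_eq hD.1 hd.1] at this
  exact this ▸ hd

/-- The torus of an opposite pair embeds in that of a residual. -/
theorem hasTorus_of : HasTorus D := by
  classical
  intro a w haw
  have hD := P.odd
  have ha := haw.1
  obtain ⟨y, hya, hyw⟩ := P.good hcon hres haw
  have hay := out_symm ha hya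
  have hwy := out_symm haw.2.1 hyw
  have hS := P.out_isSub hcon hya.1
  have hR := P.residual hcon hya.1
  obtain ⟨hodd, c, hc, hcm⟩ := (hres y hya.1).2.1 _ _ (odd_res hD hS hay hwy haw)
  have hbR : ∀ {b}, b ∈ sameCommutingClass D a → res (out D y) b ∈
      sameCommutingClass (img (out D y)) (res (out D y) a) := fun hb => P.res_twins_subset hcon ha hya ⟨_, hb, rfl⟩
  have hvS : ∀ {b}, b ∈ sameCommutingClass D a → swap b w ∈ out D y := fun hb =>
    swap_mem_sub hD hS (P.twin_mem_out ha hya hb) hwy (odd_twin hD haw hb)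
  have hvR : ∀ {b}, b ∈ sameCommutingClass D a →
      res (out D y) (swap b w) = swap (res (out D y) b) (res (out D y) w) := fun hb =>
    res_swap hD hS (P.twin_mem_out ha hya hb) hwy (odd_twin hD haw hb)
  have hpairs : ∀ b ∈ sameCommutingClass D a, ∀ b' ∈ sameCommutingClass D a, b ≠ b' →
      OddAdj D (swap b w) (swap b' w) := by
    intro b hb b' hb' hne
    refine (odd_iff hD (hvS hb).1 (hvS hb').1).mpr fun hcm' => ?_
    have := (res_commute_iff hD hS (hvS hb) (hvS hb')).mpr hcm'
    rw [hvR hb, hvR hb'] at this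
    exact not_commute_of_odd hR.odd
      (hodd _ (hbR hb) _ (hbR hb') fun e => hne (P.inj hcon hres ha hya hb hb' e)) this
  refine ⟨hpairs, ?_⟩
  have haa := self_mem_twins (D := D) ha
  set u := swap a w with hu
  set T := Subgroup.closure ((fun b => u * swap b w) '' sameCommutingClass D a) with hT
  have hTy : T ≤ Subgroup.closure (out D y) := by
    refine (Subgroup.closure_le _).mpr ?_
    rintro _ ⟨b, hb, rfl⟩
    exact mul_mem (Subgroup.subset_closure (hvS haa)) (Subgroup.subset_closure (hvS hb))
  have hTc : ∀ t ∈ T, res (out D y) t ∈ Subgroup.zpowers c := by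
    intro t ht
    induction ht using Subgroup.closure_induction with
    | mem x hx =>
      obtain ⟨b, hb, rfl⟩ := hx
      rw [res_mul (Subgroup.subset_closure (hvS haa)) (Subgroup.subset_closure (hvS hb)), hvR haa, hvR hb]
      exact hcm _ (hbR haa) _ (hbR hb)
    | one => rw [res_one]; exact one_mem _
    | mul x x' hx hx' h1 h2 => rw [res_mul (hTy hx) (hTy hx')]; exact mul_mem h1 h2
    | inv x hx h1 => rw [res_inv (hTy hx)]; exact inv_mem h1
  let f : T →* Subgroup.zpowers c :=
    { toFun := fun t => ⟨res (out D y) t, hTc t t.2⟩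
      map_one' := Subtype.ext res_one
      map_mul' := fun x x' => Subtype.ext (res_mul (hTy x.2) (hTy x'.2)) }
  -- a common neighbour off `y`
  obtain ⟨o, ho, hyo⟩ := P.exists_partner ha hya
  obtain ⟨r, hr, hro, hrw⟩ := P.lift hcon hres hya hyw haw ho
  have hry : OddAdj D r y := by
    refine (odd_iff hD hr.1 hya.1).mpr fun hc' => ?_
    have h1 := (res_commute_iff hD (P.out_isSub hcon ha) hr hya).mpr hc'
    rw [hro, res_commute_iff hD (P.out_isSub hcon ha) ho hya] at h1
    exact not_commute_of_odd hD hyo h1.symm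
  have hrv : ∀ {b}, b ∈ sameCommutingClass D a → Commute r (swap b w) := fun hb =>
    (commute_of_mem_closure hD (by
      rintro x (rfl | rfl)
      · exact (commute_twin hD hb.2 hr.1 hr.2.1).symm
      · exact hrw.symm) (swap_mem_closure hD _ w)).symm
  have hrT : ∀ t ∈ T, Commute t r := fun t ht => commute_of_mem_closure hD (by
    rintro _ ⟨b, hb, rfl⟩
    exact ((hrv haa).mul_right (hrv hb)).symm) ht
  have hkerfix : ∀ t ∈ T, res (out D y) t = 1 → ∀ b, (b ∈ sameCommutingClass D a ∨ b = w) → Commute t b := by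
    intro t ht h1 b hb
    have key : ∀ {x : G}, x ∈ D → y ∈ out D x → Commute r x → ∀ b ∈ sameCommutingClass D x, Commute t b := by
      intro x hx hyx hrx b hb
      have hxy := out_symm hx hyx
      have hby := P.twin_mem_out hx hyx hb
      have hby' := conj_closure hD hS (hTy ht) b hby
      have he : res (out D y) (t * b * t⁻¹) = res (out D y) b := by
        rw [res_conj (hTy ht) (Subgroup.subset_closure hby), h1, one_mul, inv_one, mul_one]
      have hrtw : RTw D y x (t * b * t⁻¹) := (P.res_twins_iff hcon hya.1 hxy hby').mp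
        (he ▸ P.res_twins_subset hcon hx hyx ⟨b, hb, rfl⟩)
      have hrb : Commute r b := commute_twin hD hb.2 hr.1 hrx
      have hrb' : Commute r (t * b * t⁻¹) :=
        (((hrT t ht).symm).mul_right hrb).mul_right (hrT t ht).symm.inv_right
      have := P.inj hcon hres hx hyx (P.twin_of_rtw hcon hya.1 hxy hby' hrtw hrx hrb' hry) hb he
      exact mul_inv_eq_iff_eq_mul.mp this
    rcases hb with hb | rfl
    · exact key ha hya hr.2.1 b hb
    · exact key haw.2.1 hyw hrw b (self_mem_twins haw.2.1)
  have hkerv : ∀ t ∈ T, res (out D y) t = 1 → ∀ {b}, b ∈ sameCommutingClass D a → Commute t (swap b w) :=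
    fun t ht h1 b hb => (commute_of_mem_closure hD (by
      rintro x (rfl | rfl)
      · exact (hkerfix t ht h1 _ (Or.inl hb)).symm
      · exact (hkerfix t ht h1 _ (Or.inr rfl)).symm) (swap_mem_closure hD b w)).symm
  have hcentral : f.ker ≤ Subgroup.center T := by
    intro n hn
    have h1 : res (out D y) n = 1 := congrArg Subtype.val hn
    refine Subgroup.mem_center_iff.mpr fun t => Subtype.ext ?_
    refine (commute_of_mem_closure hD ?_ t.2 : Commute (t : G) n).eq
    rintro _ ⟨b, hb, rfl⟩
    exact ((hkerv n n.2 h1 haa).mul_right (hkerv n n.2 h1 hb)).symm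
  have hcommT : ∀ x x' : T, x * x' = x' * x := (f.isMulCommutative_of_isCyclic_of_ker_le_center hcentral).is_comm.comm
  have hu2 := mul_self hD.1 (hvS haa).1
  have hinvodd : ∀ t ∈ T, Odd (orderOf t) ∧ u * t * u⁻¹ = t⁻¹ := by
    intro t ht
    induction ht using Subgroup.closure_induction with
    | mem x hx =>
      obtain ⟨b, hb, rfl⟩ := hx
      refine ⟨?_, ?_⟩
      · by_cases e : a = b
        · subst e
          show Odd (orderOf (u * u))
          rw [hu2, orderOf_one]
          exact odd_one
        · exact (hpairs a haa b hb e).2.2.2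
      · show u * (u * swap b w) * u⁻¹ = (u * swap b w)⁻¹
        rw [mul_inv_rev, inv_eq hD.1 (hvS haa).1, inv_eq hD.1 (hvS hb).1, ← mul_assoc u u, hu2, one_mul]
    | one => simp
    | mul x x' hx hx' h1 h2 =>
      have hc' : Commute x x' := congrArg Subtype.val (hcommT ⟨x, hx⟩ ⟨x', hx'⟩)
      refine ⟨(h1.1.mul h2.1).of_dvd_nat hc'.orderOf_mul_dvd_mul_orderOf, ?_⟩
      rw [← conj_mul, h1.2, h2.2, ← mul_inv_rev, hc'.eq]
    | inv x hx h1 => exact ⟨by rw [orderOf_inv]; exact h1.1, by rw [← conj_inv, h1.2]⟩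
  have hinj : Function.Injective f := by
    refine (injective_iff_map_eq_one f).mpr fun t ht => Subtype.ext ?_
    have h1 : res (out D y) t = 1 := congrArg Subtype.val ht
    obtain ⟨hto, hti⟩ := hinvodd t t.2
    rw [← (hkerv t t.2 h1 haa).eq, mul_inv_cancel_right] at hti
    exact orderOf_eq_one_iff.mp ((Nat.coprime_two_right.mpr hto).eq_one_of_dvd
      (orderOf_dvd_of_pow_eq_one (by rw [pow_two]; exact eq_inv_iff_mul_eq_one.mp hti)))
  haveI : IsCyclic T := isCyclic_of_injective f hinj
  obtain ⟨g, hg⟩ := IsCyclic.exists_generator (α := T)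
  refine ⟨g, ?_, fun b hb b' hb' => ?_⟩
  · have hcard : (sameCommutingClass (img (out D y)) (res (out D y) a)).ncard = (sameCommutingClass D a).ncard := by
      rw [P.full hcon hres ha hya]
      exact Set.InjOn.ncard_image fun x hx x' hx' e => P.inj hcon hres ha hya hx hx' e
    rw [← hcard]
    refine dvd_trans ?_ hc
    rw [Subgroup.orderOf_coe, orderOf_eq_card_of_forall_mem_zpowers hg, ← Nat.card_zpowers c]
    exact Subgroup.card_dvd_of_injective f hinj
  · have hmem : ∀ {x}, x ∈ T → x ∈ Subgroup.zpowers (g : G) := fun hx => by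
      obtain ⟨i, hi⟩ := Subgroup.mem_zpowers_iff.mp (hg ⟨_, hx⟩)
      exact ⟨i, congrArg Subtype.val hi⟩
    rw [show swap b w * swap b' w = (u * swap b w)⁻¹ * (u * swap b' w) by
      rw [mul_inv_rev, inv_eq hD.1 (hvS hb).1, inv_eq hD.1 (hvS haa).1, mul_assoc, ← mul_assoc u u, hu2, one_mul]]
    exact mul_mem (inv_mem (hmem (Subgroup.subset_closure ⟨b, hb, rfl⟩)))
      (hmem (Subgroup.subset_closure ⟨b', hb', rfl⟩))

theorem isRigid : IsRigid D :=
  ⟨P.hasRoot_of hcon hres, P.hasTorus_of hcon hres, fun _ _ h => P.good hcon hres h,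
    fun _ _ _ h1 h2 h3 _ hz => P.lift hcon hres h1 h2 h3 hz,
    fun _ ha _ hy _ hb _ hc e => P.inj hcon hres ha hy hb hc e,
    fun _ ha _ hy => (P.full hcon hres ha hy).subset⟩

end IsClassPair

/-- The inductive statement. -/
theorem structure_of_card : ∀ n : ℕ, ∀ {G : Type u} [Group G] [Finite G] {D : Set G}, IsClassPair G D →
    Nat.card G ≤ n → HasRoot D ∧ HasTorus D ∧ (IsConnectedSet (CommAdj D) D → IsRigid D) := by
  intro n
  induction n with
  | zero =>
    intro G _ _ D _ h
    exact absurd h (by have := Nat.card_pos (α := G); omega)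
  | succ n ih =>
    intro G _ _ D P h
    by_cases hcon : IsConnectedSet (CommAdj D) D
    · have hres : GoodResiduals D := fun a ha => by
        refine ih (P.residual hcon ha) ?_
        have h1 := P.closure_lt ha (S := out D a) fun s hs => hs.2.1
        have h2 : Nat.card (Res (out D a)) ≤ Nat.card (Subgroup.closure (out D a)) :=
          Nat.card_le_card_of_surjective _ (QuotientGroup.mk'_surjective _)
        omega
      have hrig := P.isRigid hcon hres
      exact ⟨hrig.root, hrig.torus, fun _ => hrig⟩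
    · obtain ⟨m, p, e, R⟩ := exists_rankOne P hcon
      exact ⟨R.hasRoot, R.hasTorus, fun h => absurd h hcon⟩

theorem IsClassPair.rigid (P : IsClassPair G D) (hcon : IsConnectedSet (CommAdj D) D) : IsRigid D :=
  (structure_of_card (Nat.card G) P le_rfl).2.2 hcon

/-- Two opposite members of a class of odd transpositions with a connected commuting graph have a common
neighbour. -/
theorem common_neighbour (hD : IsOddTranspositionSet D) (hcl : IsRootInvolutionClass D)
    (hc : IsConnectedSet (CommAdj D) D) (hDD : (D ∩ commutingProducts D).Nonempty) {d x : G}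
    (hdx : OddAdj D d x) : ∃ e ∈ D, e * d = d * e ∧ e * x = x * e := by
  have hS : IsSub D D := by
    refine ⟨le_rfl, fun s _ t ht => hD.1.conj_mem t ht s, ?_, oddConnected_of_class hD hcl hdx⟩
    obtain ⟨_, h, a, ha, b, hb, hab, -, rfl⟩ := hDD
    exact ⟨a, ha, b, hb, hab, h⟩
  have P := res_classPair hD hS
  have hcon : IsConnectedSet (CommAdj (img D)) (img D) := by
    rintro _ ⟨s, hs, rfl⟩ _ ⟨t, ht, rfl⟩
    have hr := hc s hs t ht
    clear ht
    induction hr with
    | refl => exact ReflTransGen.refl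
    | tail _ h ih => exact ih.trans (CfsgLib.RootComm.reach_of_commute ⟨_, h.1, rfl⟩ ⟨_, h.2.1, rfl⟩
        ((res_commute_iff hD hS h.1 h.2.1).mpr h.2.2.2).eq)
  obtain ⟨Y, hY1, hY2⟩ := (P.rigid hcon).good _ _ (odd_res hD hS hdx.1 hdx.2.1 hdx)
  obtain ⟨e, he, rfl⟩ := hY1.1
  exact ⟨e, he, ((res_commute_iff hD hS he hdx.1).mp hY1.2.1).eq, ((res_commute_iff hD hS he hdx.2.1).mp hY2.2.1).eq⟩

end CfsgLib.OddTrans
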