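import Cfsg.Agent.Lib.OddTrans.Residual
import Cfsg.Agent.Lib.OddTrans.CharSum

/-!
The norm lemma: an automorphism of odd prime order dividing `q - 1` fixing a block and two opposite neighbours of it
fixes every neighbour identified with one of them.
-/

set_option autoImplicit false
set_option linter.unusedSectionVars false
set_option linter.style.haveILetI false

namespace CfsgLib.OddTrans

open Cfsg Relation MulAction
open CfsgLib.RootInv (mul_self inv_eq ne_one odd_symm odd_conj)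

universe u

variable {G : Type u} [Group G] [Finite G] {D : Set G}

/-- The properties of a simple pair with a connected commuting graph. -/
structure IsRigid (D : Set G) : Prop where
  root : HasRoot D
  torus : HasTorus D
  good : ∀ a w, OddAdj D a w → ∃ y, y ∈ out D a ∧ y ∈ out D w
  lift : ∀ a w y, y ∈ out D a → y ∈ out D w → OddAdj D a w → ∀ z ∈ out D a,
    ∃ z' ∈ out D a, res (out D a) z' = res (out D a) z ∧ Commute z' w
  inj : ∀ a ∈ D, ∀ y ∈ out D a, ∀ b ∈ sameCommutingClass D a, ∀ c ∈ sameCommutingClass D a,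
    res (out D y) b = res (out D y) c → b = c
  full : ∀ a ∈ D, ∀ y ∈ out D a,
    sameCommutingClass (img (out D y)) (res (out D y) a) ⊆ res (out D y) '' sameCommutingClass D a

theorem not_dvd_fibre {m k n p : ℕ} (hp : p.Prime) (hp2 : p ≠ 2) (hm : 2 ≤ m) (hk : k ≤ 2 * m) (hn : n ≠ 0)
    (h : n * (2 ^ m - 1) + 1 = 2 ^ k) (hpm : p ∣ 2 ^ m - 1) : ¬ p ∣ n := by
  have h4 : 4 ≤ 2 ^ m := le_trans (by norm_num) (Nat.pow_le_pow_right two_pos hm)
  have hmk : m ≤ k := by
    by_contra hlt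
    have h1 : 2 ^ k * 2 ≤ 2 ^ m := by
      rw [← pow_succ]; exact Nat.pow_le_pow_right two_pos (by omega)
    have h2 : 2 ^ m - 1 ≤ n * (2 ^ m - 1) := Nat.le_mul_of_pos_left _ (Nat.pos_of_ne_zero hn)
    omega
  obtain ⟨r, rfl⟩ : ∃ r, k = r + m := ⟨k - m, by omega⟩
  rw [pow_add] at h
  have hr1 : 1 ≤ 2 ^ r := Nat.one_le_two_pow
  obtain ⟨Q, hQ⟩ : ∃ Q, 2 ^ m = Q + 1 := ⟨2 ^ m - 1, by omega⟩
  rw [hQ, Nat.add_sub_cancel] at h hpm
  rcases Nat.lt_or_ge r m with hlt | hge
  · have h2 : 2 ^ r * 2 ≤ Q + 1 := by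
      rw [← pow_succ, ← hQ]; exact Nat.pow_le_pow_right two_pos hlt
    have hn1 : n = 2 ^ r := by nlinarith
    subst hn1
    intro hd
    exact hp2 ((Nat.prime_dvd_prime_iff_eq hp Nat.prime_two).mp (hp.dvd_of_dvd_pow hd))
  · obtain rfl : r = m := by omega
    rw [hQ] at h
    have hn1 : n = Q + 2 := by nlinarith
    subst hn1
    intro hd
    exact hp2 ((Nat.prime_dvd_prime_iff_eq hp Nat.prime_two).mp ((Nat.dvd_add_right hpm).mp hd))

/-- The members identified with `z` at `a`. -/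
def fibre (D : Set G) (a z : G) : Set G := {v | v ∈ out D a ∧ res (out D a) v = res (out D a) z}

namespace IsClassPair

variable (P : IsClassPair G D) (hcon : IsConnectedSet (CommAdj D) D)
include P hcon

theorem fibre_commute {a z v w : G} (ha : a ∈ D) (hv : v ∈ fibre D a z) (hw : w ∈ fibre D a z) : Commute v w :=
  (res_commute_iff P.odd (P.out_isSub hcon ha) hv.1 hw.1).mp (by rw [hv.2, hw.2])

theorem fibre_odd {a z o v w : G} (ha : a ∈ D) (hz : z ∈ out D a) (ho : o ∈ out D a) (hzo : OddAdj D z o)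
    (hv : v ∈ fibre D a z) (hw : w ∈ fibre D a o) : OddAdj D v w := by
  have hS := P.out_isSub hcon ha
  refine (odd_iff P.odd hv.1.1 hw.1.1).mpr fun hc => not_commute_of_odd P.odd hzo ?_
  have := (res_commute_iff P.odd hS hv.1 hw.1).mpr hc
  rwa [hv.2, hw.2, res_commute_iff P.odd hS hz ho] at this

/-- Kernel elements map a fibre to itself. -/
theorem fibre_conj {a z v k : G} (ha : a ∈ D) (hk : k ∈ Subgroup.closure (out D a)) (hk1 : res (out D a) k = 1)
    (hv : v ∈ fibre D a z) : k * v * k⁻¹ ∈ fibre D a z :=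
  ⟨conj_closure P.odd (P.out_isSub hcon ha) hk v hv.1,
    by rw [res_conj hk (Subgroup.subset_closure hv.1), hk1, one_mul, inv_one, mul_one, hv.2]⟩

theorem res_prod_fibre {a z v w : G} (ha : a ∈ D) (hv : v ∈ fibre D a z) (hw : w ∈ fibre D a z) :
    res (out D a) (v * w) = 1 := by
  rw [res_mul (Subgroup.subset_closure hv.1) (Subgroup.subset_closure hw.1), hv.2, ← hw.2,
    res_sq P.odd (P.out_isSub hcon ha) hw.1]

theorem pair_map_inj {a z o : G} (ha : a ∈ D) (hz : z ∈ out D a) (ho : o ∈ out D a) (hzo : OddAdj D z o) :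
    Set.InjOn (fun o' => o * o' * z * (o * o')⁻¹) (fibre D a o) := by
  intro o₁ h₁ o₂ h₂ e
  have hoF : o ∈ fibre D a o := ⟨ho, rfl⟩
  have c01 := P.fibre_commute hcon ha hoF h₁
  have c02 := P.fibre_commute hcon ha hoF h₂
  refine eq_of_k_trick P.odd h₁.1.1 h₂.1.1 (P.fibre_commute hcon ha h₁ h₂)
    (odd_symm (P.fibre_odd hcon ha hz ho hzo ⟨hz, rfl⟩ h₁)) ?_
  have h2o : (o * o₂)⁻¹ = o * o₂ := by
    rw [mul_inv_rev, inv_eq P.odd.1 h₂.1.1, inv_eq P.odd.1 ho.1, c02.eq]
  have h1o : (o * o₁)⁻¹ = o * o₁ := by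
    rw [mul_inv_rev, inv_eq P.odd.1 h₁.1.1, inv_eq P.odd.1 ho.1, c01.eq]
  have key : o₂ * o₁ = (o * o₂)⁻¹ * (o * o₁) := by
    rw [mul_inv_rev, inv_eq P.odd.1 h₂.1.1, inv_eq P.odd.1 ho.1, mul_assoc, ← mul_assoc o o o₁,
      mul_self P.odd.1 ho.1, one_mul]
  rw [(P.fibre_commute hcon ha h₁ h₂).eq, key]
  show (o * o₂)⁻¹ * (o * o₁) * z = z * ((o * o₂)⁻¹ * (o * o₁))
  calc (o * o₂)⁻¹ * (o * o₁) * z = (o * o₂)⁻¹ * (o * o₁ * z * (o * o₁)⁻¹) * (o * o₁) := by group
    _ = (o * o₂)⁻¹ * (o * o₂ * z * (o * o₂)⁻¹) * (o * o₁) := by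
      rw [show o * o₁ * z * (o * o₁)⁻¹ = o * o₂ * z * (o * o₂)⁻¹ from e]
    _ = _ := by group

theorem pair_map_mem {a z o o' : G} (ha : a ∈ D) (hz : z ∈ out D a) (ho : o ∈ out D a) (h' : o' ∈ fibre D a o) :
    o * o' * z * (o * o')⁻¹ ∈ fibre D a z :=
  P.fibre_conj hcon ha (mul_mem (Subgroup.subset_closure ho) (Subgroup.subset_closure h'.1))
    (P.res_prod_fibre hcon ha ⟨ho, rfl⟩ h') ⟨hz, rfl⟩

theorem fibre_card_le {a z o : G} (ha : a ∈ D) (hz : z ∈ out D a) (ho : o ∈ out D a) (hzo : OddAdj D z o) :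
    (fibre D a o).ncard ≤ (fibre D a z).ncard :=
  Set.ncard_le_ncard_of_injOn _ (fun _ h' => P.pair_map_mem hcon ha hz ho h')
    (P.pair_map_inj hcon ha hz ho hzo) (Set.toFinite _)

theorem pair_map_surj {a z o : G} (ha : a ∈ D) (hz : z ∈ out D a) (ho : o ∈ out D a) (hzo : OddAdj D z o) :
    Set.SurjOn (fun o' => o * o' * z * (o * o')⁻¹) (fibre D a o) (fibre D a z) := by
  rw [Set.SurjOn, Set.eq_of_subset_of_ncard_le
    (show (fun o' => o * o' * z * (o * o')⁻¹) '' fibre D a o ⊆ fibre D a z by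
      rintro _ ⟨o', h', rfl⟩; exact P.pair_map_mem hcon ha hz ho h')
    (by rw [(P.pair_map_inj hcon ha hz ho hzo).ncard_image]; exact P.fibre_card_le hcon ha ho hz (odd_symm hzo))
    (Set.toFinite _)]

omit hcon in
/-- The group of the products of a member with the members identified with it. -/
theorem pairGroup_le {a o : G} (ho : o ∈ out D a) {t : G}
    (ht : t ∈ Subgroup.closure ((fun o' => o * o') '' fibre D a o)) : t ∈ Subgroup.closure (out D a) := by
  refine (Subgroup.closure_le _).mpr ?_ ht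
  rintro _ ⟨o', h', rfl⟩
  exact mul_mem (Subgroup.subset_closure ho) (Subgroup.subset_closure h'.1)

theorem pairGroup_comm {a o : G} (ha : a ∈ D) (ho : o ∈ out D a) :
    ∀ x ∈ Subgroup.closure ((fun o' => o * o') '' fibre D a o),
      ∀ y ∈ Subgroup.closure ((fun o' => o * o') '' fibre D a o), Commute x y := by
  have hgen : ∀ x ∈ (fun o' => o * o') '' fibre D a o, ∀ y ∈ (fun o' => o * o') '' fibre D a o, Commute x y := by
    rintro _ ⟨o₁, h₁, rfl⟩ _ ⟨o₂, h₂, rfl⟩
    have hoF : o ∈ fibre D a o := ⟨ho, rfl⟩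
    exact ((Commute.refl o).mul_right (P.fibre_commute hcon ha hoF h₂)).mul_left
      ((P.fibre_commute hcon ha h₁ hoF).mul_right (P.fibre_commute hcon ha h₁ h₂))
  intro x hx y hy
  have h1 : Subgroup.closure ((fun o' => o * o') '' fibre D a o) ≤
      Subgroup.centralizer ((fun o' => o * o') '' fibre D a o) :=
    (Subgroup.closure_le _).mpr fun a₁ h₁ => Subgroup.mem_centralizer_iff.mpr fun b₁ hb₁ => (hgen b₁ hb₁ a₁ h₁).eq
  have h2 : x ∈ Subgroup.centralizer ((Subgroup.closure ((fun o' => o * o') '' fibre D a o) : Subgroup G) : Set G) := by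
    rw [Subgroup.centralizer_closure]; exact h1 hx
  exact (Subgroup.mem_centralizer_iff.mp h2 y hy).symm

theorem pairGroup_res {a o : G} (ha : a ∈ D) (ho : o ∈ out D a) {t : G}
    (ht : t ∈ Subgroup.closure ((fun o' => o * o') '' fibre D a o)) : res (out D a) t = 1 ∧ t * t = 1 := by
  induction ht using Subgroup.closure_induction with
  | mem y hy =>
    obtain ⟨o', h', rfl⟩ := hy
    refine ⟨P.res_prod_fibre hcon ha ⟨ho, rfl⟩ h', ?_⟩
    rw [← pow_two, (P.fibre_commute hcon ha (show o ∈ fibre D a o from ⟨ho, rfl⟩) h').mul_pow, pow_two, pow_two,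
      mul_self P.odd.1 ho.1, mul_self P.odd.1 h'.1.1, one_mul]
  | one => exact ⟨res_one, mul_one 1⟩
  | mul x y hx hy h1 h2 =>
    refine ⟨by rw [res_mul (P.pairGroup_le ho hx) (P.pairGroup_le ho hy), h1.1, h2.1, one_mul], ?_⟩
    rw [← pow_two, (P.pairGroup_comm hcon ha ho x hx y hy).mul_pow, pow_two, pow_two, h1.2, h2.2, one_mul]
  | inv x hx h1 => exact ⟨by rw [res_inv (P.pairGroup_le ho hx), h1.1, inv_one], by rw [← mul_inv_rev, h1.2, inv_one]⟩

theorem pairGroup_normal {a o d : G} (ha : a ∈ D) (ho : o ∈ out D a) (hd : d ∈ Subgroup.closure (out D a))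
    (hd1 : res (out D a) d = 1) {s : G} (hs : s ∈ Subgroup.closure ((fun o' => o * o') '' fibre D a o)) :
    d * s * d⁻¹ ∈ Subgroup.closure ((fun o' => o * o') '' fibre D a o) := by
  have hle : Subgroup.closure ((fun o' => o * o') '' fibre D a o) ≤
      (Subgroup.closure ((fun o' => o * o') '' fibre D a o)).comap (MulAut.conj d).toMonoidHom := by
    rw [Subgroup.closure_le]
    rintro _ ⟨o', h', rfl⟩
    have hoF : o ∈ fibre D a o := ⟨ho, rfl⟩
    have hx := P.fibre_conj hcon ha hd hd1 hoF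
    have hy := P.fibre_conj hcon ha hd hd1 h'
    show d * (o * o') * d⁻¹ ∈ Subgroup.closure ((fun o' => o * o') '' fibre D a o)
    have e : d * (o * o') * d⁻¹ = o * (d * o * d⁻¹) * (o * (d * o' * d⁻¹)) := by
      calc d * (o * o') * d⁻¹ = d * o * d⁻¹ * ((o * o) * (d * o' * d⁻¹)) := by rw [mul_self P.odd.1 ho.1]; group
        _ = _ := by rw [(P.fibre_commute hcon ha hoF hx).eq]; group
    rw [e]
    exact mul_mem (Subgroup.subset_closure ⟨_, hx, rfl⟩) (Subgroup.subset_closure ⟨_, hy, rfl⟩)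
  exact hle hs

/-- A fibre has two-power size. -/
theorem fibre_card_pow {a z : G} (ha : a ∈ D) (hz : z ∈ out D a) :
    ∃ k, Nat.card (fibre D a z) = 2 ^ k := by
  obtain ⟨o, ho, hzo⟩ := P.exists_partner ha hz
  let T := Subgroup.closure ((fun o' => o * o') '' fibre D a o)
  letI : MulAction T (fibre D a z) :=
    { smul := fun t v => ⟨t * v * (t : G)⁻¹, P.fibre_conj hcon ha (P.pairGroup_le ho t.2)
        (P.pairGroup_res hcon ha ho t.2).1 v.2⟩
      one_smul := fun v => Subtype.ext (show ((1 : T) : G) * v * _ = v by simp)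
      mul_smul := fun t t' v => Subtype.ext (show ((t * t' : T) : G) * v * _ = _ by
        show ((t : G) * t') * v * ((t : G) * t')⁻¹ = t * (t' * v * (t' : G)⁻¹) * (t : G)⁻¹
        simp only [mul_inv_rev, mul_assoc]) }
  haveI : Fact (Nat.Prime 2) := ⟨Nat.prime_two⟩
  have hT : IsPGroup 2 T := fun t => ⟨1, Subtype.ext (by
    show (t : G) ^ (2 ^ 1) = 1
    rw [pow_one, pow_two]; exact (P.pairGroup_res hcon ha ho t.2).2)⟩
  obtain ⟨k, hk⟩ := hT.index (MulAction.stabilizer T (⟨z, hz, rfl⟩ : fibre D a z))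
  refine ⟨k, ?_⟩
  haveI : MulAction.IsPretransitive T (fibre D a z) := by
    have key : ∀ v : fibre D a z, ∃ t : T, t • (⟨z, hz, rfl⟩ : fibre D a z) = v := fun v => by
      obtain ⟨o', h', e⟩ := P.pair_map_surj hcon ha hz ho hzo v.2
      exact ⟨⟨o * o', Subgroup.subset_closure ⟨o', h', rfl⟩⟩, Subtype.ext e⟩
    refine ⟨fun x y => ?_⟩
    obtain ⟨s, hs⟩ := key x
    obtain ⟨t, ht⟩ := key y
    exact ⟨t * s⁻¹, by rw [mul_smul, ← hs, inv_smul_smul, ht]⟩
  rw [← hk, MulAction.index_stabilizer_of_transitive]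

/-- The bound on the fibres, with the norm lemma. -/
theorem fibre_le_and_norm (hrig : IsRigid D) {a z o : G} (ha : a ∈ D) (hz : z ∈ out D a) (ho : o ∈ out D a)
    (hzo : OddAdj D z o) :
    (fibre D a z).ncard ≤ ((sameCommutingClass D a).ncard + 1) ^ 2 ∧
    ∀ (θ : MulAut G), (∀ x ∈ D, θ x ∈ D) → ∀ {p : ℕ}, p.Prime → p ≠ 2 → θ ^ p = 1 →
      p ∣ (sameCommutingClass D a).ncard → (∀ b ∈ sameCommutingClass D a, θ b = b) → θ z = z → θ o = o →
        ∀ v ∈ fibre D a z, θ v = v := by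
  classical
  have hD := P.odd
  have hS := P.out_isSub hcon ha
  have haz : a ∈ out D z := out_symm ha hz
  have hSz := P.out_isSub hcon hz.1
  -- the root group and the kernel at `z`
  let E := rootGroup hD hrig.root ha
  let K : Subgroup G := Subgroup.centralizer {z} ⊓ fixBlocks (out D z)
  have hzK : z ∈ K := ⟨Subgroup.mem_centralizer_singleton_iff.mpr rfl,
    mem_fixBlocks_of_commute fun s hs => hs.2.1.symm⟩
  have hKc : ∀ {g k : G}, Commute g z → k ∈ K → g * k * g⁻¹ ∈ K := by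
    intro g k hg hk
    refine ⟨Subgroup.mem_centralizer_singleton_iff.mpr ?_,
      fixBlocks_conj (out_stable_of_commute hD hz.1 hg).1 (out_stable_of_commute hD hz.1 hg).2 hk.2⟩
    exact ((hg.mul_left (Subgroup.mem_centralizer_singleton_iff.mp hk.1 : Commute k z)).mul_left hg.inv_left).eq
  have hEK : ∀ x ∈ E, x ∈ K → x = 1 := by
    intro x hx hxK
    refine (mem_rootGroup.mp hx).resolve_left fun hxa => ?_
    have hxz := P.twin_mem_out ha hz hxa
    exact res_ne_one hD hSz hxz ((res_eq_one_iff hD hSz (Subgroup.subset_closure hxz)).mpr hxK.2)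
  -- the quadratic map
  have hex : ∀ v ∈ fibre D a z, ∃ e ∈ E, e * v ∈ K := by
    intro v hv
    by_cases hvz : v = z
    · exact ⟨1, one_mem _, by rw [one_mul, hvz]; exact hzK⟩
    have hvzc : Commute v z := P.fibre_commute hcon ha hv ⟨hz, rfl⟩
    have hvout : v ∈ out D z := ⟨hv.1.1, hvzc, fun e => hvz
      (hrig.inj z hz.1 a haz v ⟨hv.1.1, e⟩ z (self_mem_twins hz.1) hv.2)⟩
    have hrt : RTw D z a v := P.rtw_of_imp hcon hz.1 haz hvout fun s hs hsa => by
      by_cases e : commutingMembers D a = commutingMembers D s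
      · exact (commute_twin hD e hv.1.1 hv.1.2.1).symm
      · have hsO : s ∈ out D a := ⟨hs.1, hsa, e⟩
        refine (res_commute_iff hD hS hsO hv.1).mp ?_
        rw [hv.2]
        exact (res_commute_iff hD hS hsO hz).mpr hs.2.1
    obtain ⟨b, hb, he⟩ := hrig.full a ha z hz ((P.res_twins_iff hcon hz.1 haz hvout).mpr hrt)
    have hbz := P.twin_mem_out ha hz hb
    refine ⟨b, Or.inl hb, Subgroup.mem_centralizer_singleton_iff.mpr (hbz.2.1.mul_left hvzc).eq, ?_⟩
    exact (res_eq_iff hD hSz hbz hvout).mp he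
  choose ev hevE hevK using hex
  have hEsq : ∀ x ∈ E, x * x = 1 := fun x hx => rootGroup_sq hD hrig.root ha hx
  have huniq : ∀ v (hv : v ∈ fibre D a z), ∀ e ∈ E, e * v ∈ K → e = ev v hv := by
    intro v hv e he heK
    have h1 := hEK (e * (ev v hv)⁻¹) (mul_mem he (inv_mem (hevE v hv))) (by
      have := mul_mem heK (inv_mem (hevK v hv))
      rwa [show e * v * (ev v hv * v)⁻¹ = e * (ev v hv)⁻¹ by group] at this)
    exact mul_inv_eq_one.mp h1
  have hev1 : ∀ v (hv : v ∈ fibre D a z), ev v hv = 1 → v = z := by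
    intro v hv h1
    have hK := hevK v hv
    rw [h1, one_mul] at hK
    by_contra hvz
    have hvout : v ∈ out D z := ⟨hv.1.1, P.fibre_commute hcon ha hv ⟨hz, rfl⟩, fun e => hvz
      (hrig.inj z hz.1 a haz v ⟨hv.1.1, e⟩ z (self_mem_twins hz.1) hv.2)⟩
    exact res_ne_one hD hSz hvout ((res_eq_one_iff hD hSz (Subgroup.subset_closure hvout)).mpr hK.2)
  -- translations
  let T := Subgroup.closure ((fun o' => o * o') '' fibre D a o)
  letI : CommGroup T := { (inferInstance : Group T) with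
    mul_comm := fun x y => Subtype.ext (P.pairGroup_comm hcon ha ho x x.2 y y.2).eq }
  letI : CommGroup E := { (inferInstance : Group E) with
    mul_comm := fun x y => Subtype.ext (rootGroup_comm hD hrig.root ha x.2 y.2).eq }
  letI : MulAction T (fibre D a z) :=
    { smul := fun t v => ⟨t * v * (t : G)⁻¹, P.fibre_conj hcon ha (P.pairGroup_le ho t.2)
        (P.pairGroup_res hcon ha ho t.2).1 v.2⟩
      one_smul := fun v => Subtype.ext (show ((1 : T) : G) * v * _ = v by simp)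
      mul_smul := fun t t' v => Subtype.ext (show ((t * t' : T) : G) * v * _ = _ by
        show ((t : G) * t') * v * ((t : G) * t')⁻¹ = t * (t' * v * (t' : G)⁻¹) * (t : G)⁻¹
        simp only [mul_inv_rev, mul_assoc]) }
  have hsm : ∀ (t : T) (v : fibre D a z), ((t • v : fibre D a z) : G) = t * v * (t : G)⁻¹ := fun _ _ => rfl
  let z₀ : fibre D a z := ⟨z, hz, rfl⟩
  have htr : ∀ v : fibre D a z, ∃ t : T, t • z₀ = v := fun v => by
    obtain ⟨o', h', e⟩ := P.pair_map_surj hcon ha hz ho hzo v.2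
    exact ⟨⟨o * o', Subgroup.subset_closure ⟨o', h', rfl⟩⟩, Subtype.ext e⟩
  let e : fibre D a z → E := fun v => ⟨ev v.1 v.2, hevE v.1 v.2⟩
  have he1 : e z₀ = 1 :=
    (Subtype.ext (huniq z z₀.2 1 (one_mem _) (by rw [one_mul]; exact hzK))).symm
  have hez : ∀ v, e v = 1 → v = z₀ := fun v h => Subtype.ext (hev1 v.1 v.2 (congrArg Subtype.val h))
  have hE2 : ∀ x : E, x * x = 1 := fun x => Subtype.ext (hEsq x x.2)
  -- the polar form
  let M : Subgroup G := Subgroup.closure (sameCommutingClass D a ∪ fibre D a z)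
  have hMcomm : ∀ x ∈ M, ∀ y ∈ M, Commute x y := by
    have hgen : ∀ x ∈ sameCommutingClass D a ∪ fibre D a z, ∀ y ∈ sameCommutingClass D a ∪ fibre D a z,
        Commute x y := by
      rintro x (hx | hx) y (hy | hy)
      · exact twins_commute hD hx hy
      · exact (commute_twin hD hx.2 hy.1.1 hy.1.2.1).symm
      · exact commute_twin hD hy.2 hx.1.1 hx.1.2.1
      · exact P.fibre_commute hcon ha hx hy
    intro x hx y hy
    have h1 : M ≤ Subgroup.centralizer (sameCommutingClass D a ∪ fibre D a z) :=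
      (Subgroup.closure_le _).mpr fun a₁ h₁ => Subgroup.mem_centralizer_iff.mpr fun b₁ hb₁ => (hgen b₁ hb₁ a₁ h₁).eq
    have h2 : x ∈ Subgroup.centralizer ((M : Subgroup G) : Set G) := by
      rw [Subgroup.centralizer_closure]; exact h1 hx
    exact (Subgroup.mem_centralizer_iff.mp h2 y hy).symm
  letI : CommGroup M := { (inferInstance : Group M) with
    mul_comm := fun x y => Subtype.ext (hMcomm x x.2 y y.2).eq }
  have hEM : E ≤ M := fun x hx => by
    rcases mem_rootGroup.mp hx with h | rfl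
    · exact Subgroup.subset_closure (Or.inl h)
    · exact one_mem _
  have hFM : ∀ v : fibre D a z, (v : G) ∈ M := fun v => Subgroup.subset_closure (Or.inr v.2)
  let c : T → T → G := fun t s => z * (t • z₀ : fibre D a z) * ((s • z₀ : fibre D a z) : G) * ((t * s) • z₀ : fibre D a z)
  have hcM : ∀ t s, c t s ∈ M := fun t s =>
    mul_mem (mul_mem (mul_mem (hFM z₀) (hFM _)) (hFM _)) (hFM _)
  let E3 : T → T → E := fun t s => e (t • z₀) * e (s • z₀) * e ((t * s) • z₀)
  have hE3c : ∀ t s, (E3 t s : G) * c t s ∈ K := by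
    intro t s
    have h1 := mul_mem (mul_mem (mul_mem (hevK _ (t • z₀).2) (hevK _ (s • z₀).2)) (hevK _ ((t * s) • z₀).2)) hzK
    have he : (E3 t s : G) * c t s =
        (ev _ (t • z₀).2 * (t • z₀ : fibre D a z)) * (ev _ (s • z₀).2 * (s • z₀ : fibre D a z)) *
          (ev _ ((t * s) • z₀).2 * ((t * s) • z₀ : fibre D a z)) * z := by
      have key : ∀ (A B C a' b' c' z' : M), A * B * C * (z' * a' * b' * c') = (A * a') * (B * b') * (C * c') * z' :=
        fun A B C a' b' c' z' => by ac_rfl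
      have := congrArg Subtype.val (key ⟨_, hEM (hevE _ (t • z₀).2)⟩ ⟨_, hEM (hevE _ (s • z₀).2)⟩
        ⟨_, hEM (hevE _ ((t * s) • z₀).2)⟩ ⟨_, hFM (t • z₀)⟩ ⟨_, hFM (s • z₀)⟩ ⟨_, hFM ((t * s) • z₀)⟩ ⟨z, hFM z₀⟩)
      exact this
    rwa [he]
  have hcadd : ∀ t s r : T, c t (s * r) = c t r * c t s := by
    intro t s r
    have hd : ∀ t : T, z * (t • z₀ : fibre D a z) ∈ Subgroup.closure (out D a) ∧
        res (out D a) (z * (t • z₀ : fibre D a z)) = 1 ∧
        (z * (t • z₀ : fibre D a z)) * (z * (t • z₀ : fibre D a z)) = 1 := fun t =>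
      ⟨mul_mem (Subgroup.subset_closure hz) (Subgroup.subset_closure (t • z₀).2.1),
        P.res_prod_fibre hcon ha z₀.2 (t • z₀).2, by
          rw [← pow_two, (P.fibre_commute hcon ha (z₀.2) (t • z₀).2).mul_pow, pow_two, pow_two, mul_self hD.1 hz.1,
            mul_self hD.1 (t • z₀).2.1.1, one_mul]⟩
    obtain ⟨d, hd'⟩ : ∃ d, d = z * ((t • z₀ : fibre D a z) : G) := ⟨_, rfl⟩
    obtain ⟨hd0, hd1, hd2⟩ := hd t
    rw [← hd'] at hd0 hd1 hd2
    have hcd : ∀ s : T, c t s = d * ((s : G) * d * (s : G)⁻¹) := by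
      intro s
      show z * (t • z₀ : fibre D a z) * ((s • z₀ : fibre D a z) : G) * ((t * s) • z₀ : fibre D a z) = _
      rw [mul_comm t s, mul_smul, hsm s (t • z₀), hsm s z₀, hd']
      show _ = z * ↑(t • z₀) * ((s : G) * (z * ↑(t • z₀)) * (s : G)⁻¹)
      simp only [show (z₀ : G) = z from rfl]
      group
    have hcT : c t s ∈ T := by
      have h3 : d⁻¹ = d := inv_eq_of_mul_eq_one_right hd2
      rw [hcd, show d * ((s : G) * d * (s : G)⁻¹) = (d * s * d⁻¹) * (s : G)⁻¹ by rw [h3]; group]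
      exact mul_mem (P.pairGroup_normal hcon ha ho hd0 hd1 s.2) (inv_mem s.2)
    have hrc : (r : G) * c t s * (r : G)⁻¹ = c t s := by
      rw [(P.pairGroup_comm hcon ha ho r r.2 _ hcT).eq, mul_inv_cancel_right]
    rw [← hrc, hcd, hcd, hcd, mul_comm s r]
    show d * (((r : G) * s) * d * ((r : G) * s)⁻¹) = _
    have h3 : d⁻¹ = d := inv_eq_of_mul_eq_one_right hd2
    calc d * (((r : G) * s) * d * ((r : G) * s)⁻¹)
        = d * ((r : G) * (d * d) * (s * d * (s : G)⁻¹) * (r : G)⁻¹) := by rw [hd2]; group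
      _ = _ := by group
  have hB : ∀ t s r : T, e (t • z₀) * e ((s * r) • z₀) * e ((t * (s * r)) • z₀) =
      e (t • z₀) * e (s • z₀) * e ((t * s) • z₀) * (e (t • z₀) * e (r • z₀) * e ((t * r) • z₀)) := by
    intro t s r
    show E3 t (s * r) = E3 t s * E3 t r
    have h1 := mul_mem (hE3c t (s * r)) (mul_mem (hE3c t s) (hE3c t r))
    have h2 : (E3 t (s * r) : G) * c t (s * r) * ((E3 t s : G) * c t s * ((E3 t r : G) * c t r)) =
        ((E3 t (s * r) * (E3 t s * E3 t r) : E) : G) := by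
      have key : ∀ (A B C b' c' : M), c' * c' = 1 → b' * b' = 1 →
          A * (c' * b') * (B * b' * (C * c')) = A * (B * C) := by
        intro A B C b' c' hc hb
        calc A * (c' * b') * (B * b' * (C * c')) = A * (B * C) * (b' * b') * (c' * c') := by ac_rfl
          _ = _ := by rw [hb, hc, mul_one, mul_one]
      have hsq : ∀ t s, (⟨c t s, hcM t s⟩ : M) * ⟨c t s, hcM t s⟩ = 1 := by
        intro t s
        have hv : ∀ v : fibre D a z, (⟨v, hFM v⟩ : M) * ⟨v, hFM v⟩ = 1 := fun v =>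
          Subtype.ext (mul_self hD.1 v.2.1.1)
        have : (⟨c t s, hcM t s⟩ : M) = ⟨z₀, hFM z₀⟩ * ⟨_, hFM (t • z₀)⟩ * ⟨_, hFM (s • z₀)⟩ *
            ⟨_, hFM ((t * s) • z₀)⟩ := Subtype.ext rfl
        rw [this, mul_mul_mul_comm, mul_mul_mul_comm (⟨z₀, hFM z₀⟩ * ⟨_, hFM (t • z₀)⟩ : M), mul_mul_mul_comm
          (⟨z₀, hFM z₀⟩ : M), hv, hv, hv, hv, one_mul, one_mul, one_mul]
      have := congrArg Subtype.val (key ⟨_, hEM (E3 t (s * r)).2⟩ ⟨_, hEM (E3 t s).2⟩ ⟨_, hEM (E3 t r).2⟩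
        ⟨_, hcM t s⟩ ⟨_, hcM t r⟩ (hsq t r) (hsq t s))
      rw [hcadd]
      exact this
    rw [h2] at h1
    have h3 : E3 t (s * r) * (E3 t s * E3 t r) = 1 := Subtype.ext (hEK _ (SetLike.coe_mem _) h1)
    rw [mul_eq_one_iff_eq_inv.mp h3, inv_eq_of_mul_eq_one_right (hE2 (E3 t s * E3 t r))]
  -- counting
  obtain ⟨k, hk⟩ := P.fibre_card_pow hcon ha hz
  obtain ⟨m, hm, hqm⟩ := exists_block_card P hrig.root ha
  have hcardE : Nat.card E = 2 ^ m := (card_rootGroup hD hrig.root ha).trans hqm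
  have hk2 : k ≤ 2 * m := by
    have := card_le_sq z₀ htr hE2 e he1 hez hB hk
    rw [hk, hcardE, ← pow_mul] at this
    have := (Nat.pow_le_pow_iff_right (by norm_num : 1 < 2)).mp this
    omega
  let Fb : G → Set (fibre D a z) := fun b => {v | (e v : G) = b}
  have heq : ∀ b ∈ sameCommutingClass D a, (Fb b).ncard = (Fb a).ncard := by
    suffices hle : ∀ b₁ ∈ sameCommutingClass D a, ∀ b₂ ∈ sameCommutingClass D a, (Fb b₁).ncard ≤ (Fb b₂).ncard from
      fun b hb => le_antisymm (hle b hb a (self_mem_twins ha)) (hle a (self_mem_twins ha) b hb)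
    intro b₁ hb₁ b₂ hb₂
    obtain ⟨g, hg, hgb⟩ := hSz.exists_conj hD (P.twin_mem_out ha hz hb₁) (P.twin_mem_out ha hz hb₂)
    have hgz : Commute g z := commute_closure_out hD hg
    have hgout : out D (g * a * g⁻¹) = out D a := by
      refine out_eq_of_twin ha ⟨hD.1.conj_mem a ha g, ?_⟩
      rw [commutingMembers_conj hD, hb₁.2, ← commutingMembers_conj hD, hgb, ← hb₂.2]
      exact hb₁.2.symm
    have hmap : ∀ v ∈ fibre D a z, g * v * g⁻¹ ∈ fibre D a z := fun v hv => by
      have h1 : g * v * g⁻¹ ∈ out D a := hgout ▸ out_conj hD a g hv.1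
      refine ⟨h1, ?_⟩
      have h2 := (P.res_conj_iff hcon (g := g) ha hv.1 hz).mpr hv.2
      rw [hgout, hgz.eq, mul_inv_cancel_right] at h2
      exact h2
    refine Set.ncard_le_ncard_of_injOn (fun v => ⟨g * v.1 * g⁻¹, hmap _ v.2⟩) (fun v hv => ?_)
      (fun v _ w _ h => Subtype.ext (mul_left_cancel (mul_right_cancel (congrArg Subtype.val h)))) (Set.toFinite _)
    show ev _ _ = b₂
    refine (huniq _ _ b₂ (Or.inl hb₂) ?_).symm
    have := hKc hgz (hevK v.1 v.2)
    rwa [show (ev v.1 v.2) = b₁ from hv, show g * (b₁ * v.1) * g⁻¹ = g * b₁ * g⁻¹ * (g * v.1 * g⁻¹) by group, hgb] at this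
  refine ⟨?_, fun θ hθD {p} hp hp2 hθp hpq hfa hfz hfo => ?_⟩
  · rw [← Nat.card_coe_set_eq, hk, hqm, ← pow_mul, mul_comm m 2]
    exact Nat.pow_le_pow_right two_pos hk2
  haveI := Fact.mk hp
  -- the automorphism permutes the sets in question
  have hfaa : θ a = a := hfa a (self_mem_twins ha)
  have hθsymm : ∀ x ∈ D, θ.symm x ∈ D := by
    intro x hx
    have hpow : ∀ n : ℕ, (θ ^ n) x ∈ D := fun n => by
      induction n with
      | zero => simpa using hx
      | succ n ih => rw [pow_succ', MulAut.mul_apply]; exact hθD _ ih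
    have h1 : θ.symm x = (θ ^ (p - 1)) x := by
      have : θ * θ ^ (p - 1) = 1 := by rw [← pow_succ', Nat.sub_add_cancel hp.one_le, hθp]
      calc θ.symm x = θ.symm ((θ * θ ^ (p - 1)) x) := by rw [this]; rfl
        _ = _ := by rw [MulAut.mul_apply, MulEquiv.symm_apply_apply]
    rw [h1]; exact hpow _
  have hout : ∀ (b : G), θ b = b → (∀ s ∈ out D b, θ s ∈ out D b) ∧ ∀ s ∈ out D b, θ.symm s ∈ out D b := by
    intro b hb
    have key : ∀ f : MulAut G, (∀ x ∈ D, f x ∈ D) → (∀ x ∈ D, f.symm x ∈ D) → f b = b →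
        ∀ s ∈ out D b, f s ∈ out D b := by
      intro f hf hf' hfb s hs
      refine ⟨hf s hs.1, by simpa [hfb] using hs.2.1.map f.toMonoidHom, fun e => hs.2.2 ?_⟩
      ext x
      constructor
      · rintro ⟨hx, hc⟩
        have : f x ∈ commutingMembers D (f s) :=
          e ▸ ⟨hf x hx, by simpa [hfb] using congrArg f hc⟩
        exact ⟨hx, f.injective (by simpa using this.2)⟩
      · rintro ⟨hx, hc⟩
        have : f x ∈ commutingMembers D b := e.symm ▸ ⟨hf x hx, by simpa using congrArg f hc⟩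
        exact ⟨hx, f.injective (by simpa [hfb] using this.2)⟩
    exact ⟨key θ hθD hθsymm hb, key θ.symm hθsymm (by simpa using hθD) (by rw [MulEquiv.symm_apply_eq, hb])⟩
  have hθfib : ∀ {w : G}, w ∈ out D a → θ w = w → ∀ v ∈ fibre D a w, θ v ∈ fibre D a w := fun hw hfw v hv =>
    ⟨(hout a hfaa).1 v hv.1, by
      rw [show res (out D a) (θ v) = res (out D a) (θ _) from
        (res_eq_map hD hS hD hS θ (hout a hfaa).1 (hout a hfaa).2 hv.1 hw).mpr hv.2, hfw]⟩
  have hnf : ∀ b ∈ sameCommutingClass D a, (Fb b).Nonempty → ¬ p ∣ (Fb b).ncard := by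
    intro b hb hne
    rw [heq b hb]
    haveI := Fintype.ofFinite (fibre D a z)
    haveI := Fintype.ofFinite G
    have hsum : (Fb a).ncard * (sameCommutingClass D a).ncard + 1 = 2 ^ k := by
      rw [← hk, Nat.card_eq_fintype_card, ← Finset.card_univ,
        ← Finset.card_erase_add_one (Finset.mem_univ z₀), mul_comm]
      congr 1
      rw [Finset.card_eq_sum_card_fiberwise (f := fun v => (e v : G)) (t := (sameCommutingClass D a).toFinset)
        (fun v hv => Set.mem_toFinset.mpr ((mem_rootGroup.mp (e v).2).resolve_right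
          fun h => (Finset.mem_erase.mp hv).1 (hez v (Subtype.ext h))))]
      rw [Finset.sum_congr rfl fun b' hb' => (show _ = (Fb a).ncard by
        rw [← heq b' (Set.mem_toFinset.mp hb'), Set.ncard_eq_toFinset_card']
        congr 1
        ext v
        simp only [Finset.mem_filter, Finset.mem_erase, Finset.mem_univ, and_true, Set.mem_toFinset]
        refine ⟨fun h => h.2, fun h => ⟨fun e0 => ne_one hD.1 (Set.mem_toFinset.mp hb').1 ?_, h⟩⟩
        rw [← show (e v : G) = b' from h, e0, he1]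
        rfl), Finset.sum_const, smul_eq_mul, ← Set.ncard_eq_toFinset_card']
    have hq' : (sameCommutingClass D a).ncard = 2 ^ m - 1 := by omega
    rw [hq'] at hsum hpq
    exact not_dvd_fibre hp hp2 hm hk2 (by rw [← heq b hb]; exact (hne.ncard_pos).ne') hsum hpq
  -- the automorphism on the points
  let σ : Equiv.Perm (fibre D a z) :=
    Equiv.ofBijective (fun v => ⟨θ v.1, hθfib hz hfz v.1 v.2⟩)
      (Finite.injective_iff_bijective.mp fun v w h => Subtype.ext (θ.injective (congrArg Subtype.val h)))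
  have hσ : ∀ v, (σ v : G) = θ v := fun _ => rfl
  have hσp : σ ^ p = 1 := by
    have : ∀ (n : ℕ) v, ((σ ^ n) v : G) = (θ ^ n) v.1 := fun n => by
      induction n with
      | zero => simp
      | succ n ih => intro v; rw [pow_succ', Equiv.Perm.mul_apply, hσ, ih, pow_succ', MulAut.mul_apply]
    exact Equiv.ext fun v => Subtype.ext (by rw [this p v, hθp]; rfl)
  have heθ : ∀ v, e (σ v) = e v := by
    intro v
    refine (Subtype.ext (huniq (σ v).1 (σ v).2 (ev v.1 v.2) (hevE v.1 v.2) ?_)).symm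
    have hfe : θ (ev v.1 v.2) = ev v.1 v.2 := by
      rcases mem_rootGroup.mp (hevE v.1 v.2) with h | h
      · exact hfa _ h
      · rw [h, map_one]
    have hK := hevK v.1 v.2
    rw [hσ, ← hfe, ← map_mul]
    refine ⟨Subgroup.mem_centralizer_singleton_iff.mpr ?_, fixBlocks_map θ (hout z hfz).1 (hout z hfz).2 hK.2⟩
    have hc := congrArg θ (Subgroup.mem_centralizer_singleton_iff.mp hK.1)
    rwa [map_mul θ (ev v.1 v.2 * v.1) z, map_mul θ z, hfz] at hc
  have hθT : ∀ t ∈ T, θ t ∈ T := by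
    intro t ht
    have hle : T ≤ T.comap θ.toMonoidHom := by
      rw [Subgroup.closure_le]
      rintro _ ⟨o', h', rfl⟩
      show θ (o * o') ∈ T
      rw [map_mul, hfo]
      exact Subgroup.subset_closure ⟨_, hθfib ho hfo o' h', rfl⟩
    exact hle ht
  let θT : T → T := fun t => ⟨θ t, hθT _ t.2⟩
  have hθT_mul : ∀ t s, θT (t * s) = θT t * θT s := fun t s => Subtype.ext (map_mul θ _ _)
  have hσsm : ∀ (t : T) v, σ (t • v) = θT t • σ v := fun t v => Subtype.ext (by
    rw [hσ, hsm, hsm, map_mul, map_mul, map_inv, hσ])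
  have hσz : σ z₀ = z₀ := Subtype.ext hfz
  have hT2 : ∀ t : T, t * t = 1 := fun t => Subtype.ext (P.pairGroup_res hcon ha ho t.2).2
  -- the shift of a point is fixed
  have hfix : ∀ t : T, σ ((t * θT t) • z₀) = (t * θT t) • z₀ := by
    intro t
    set μ := t * θT t with hμ
    by_cases h1 : e (μ • z₀) = 1
    · rw [hez _ h1, hσz]
    have hb : ((e (μ • z₀)) : G) ∈ sameCommutingClass D a :=
      (mem_rootGroup.mp (e (μ • z₀)).2).resolve_right fun h => h1 (Subtype.ext h)
    let σb : Equiv.Perm (Fb (e (μ • z₀) : G)) :=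
      σ.subtypePerm fun v => by show (e (σ v) : G) = _ ↔ _; rw [heθ v]; rfl
    haveI := Fintype.ofFinite (Fb (e (μ • z₀) : G))
    obtain ⟨⟨v, hv⟩, hvfix⟩ := Equiv.Perm.exists_fixed_point_of_prime (p := p) (n := 1)
      (α := Fb (e (μ • z₀) : G))
      (by rw [← Nat.card_eq_fintype_card, Nat.card_coe_set_eq]; exact hnf _ hb ⟨_, rfl⟩)
      (σ := σb) (by
        rw [pow_one, Equiv.Perm.subtypePerm_pow]
        exact Equiv.ext fun v => Subtype.ext (by simp [hσp]))
    have hσv : σ v = v := congrArg Subtype.val hvfix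
    obtain ⟨c₀, rfl⟩ := htr v
    have hfc : θT c₀ • z₀ = c₀ • z₀ := by
      have := hσv; rw [hσsm, hσz] at this; exact this
    have h2 : e ((c₀ * θT t) • z₀) = e ((c₀ * t) • z₀) := by
      rw [mul_comm c₀ (θT t), mul_smul, ← hfc, ← mul_smul, mul_comm (θT t), ← hθT_mul]
      conv_lhs => rw [← hσz, ← hσsm, heθ]
    have h3 : θT t = t * μ := by rw [hμ, ← mul_assoc, hT2, one_mul]
    have h4 := hB c₀ t μ
    rw [← h3, h2, show e (θT t • z₀) = e (t • z₀) by conv_lhs => rw [← hσz, ← hσsm, heθ]] at h4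
    have h5 : e (c₀ • z₀) * e (μ • z₀) * e ((c₀ * μ) • z₀) = 1 := left_eq_mul.mp h4
    rw [show e (c₀ • z₀) = e (μ • z₀) from Subtype.ext hv, hE2, one_mul] at h5
    have h6 := hez _ h5
    have h7 : μ • z₀ = c₀ • z₀ := by
      calc μ • z₀ = (c₀ * c₀) • (μ • z₀) := by rw [hT2, one_smul]
        _ = c₀ • ((c₀ * μ) • z₀) := by rw [← mul_smul, ← mul_smul, mul_assoc]
        _ = c₀ • z₀ := by rw [h6]
    rw [h7, hσv]
  intro v hv
  obtain ⟨t, ht⟩ := htr ⟨v, hv⟩
  have h2 : σ (σ (t • z₀)) = t • z₀ := by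
    rw [hσsm t z₀, hσz]
    conv_lhs => rw [show θT t = t * (t * θT t) by rw [← mul_assoc, hT2, one_mul], mul_smul, hσsm, hfix]
    rw [← mul_smul, mul_left_comm, hT2, mul_one]
  obtain ⟨j, hj⟩ := hp.odd_of_ne_two hp2
  have h3 : (σ ^ p) (t • z₀) = σ (t • z₀) := by
    rw [hj, pow_succ', Equiv.Perm.mul_apply, pow_mul]
    congr 1
    have h4 : ∀ i : ℕ, ((σ ^ 2) ^ i) (t • z₀) = t • z₀ := fun i => by
      induction i with
      | zero => simp
      | succ i ih => rw [pow_succ', Equiv.Perm.mul_apply, ih, pow_two, Equiv.Perm.mul_apply, h2]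
    exact h4 j
  rw [hσp, Equiv.Perm.one_apply, ht] at h3
  exact (congrArg Subtype.val h3).symm

/-- The norm lemma. -/
theorem norm_fixed (hrig : IsRigid D) {a z o : G} (ha : a ∈ D) (hz : z ∈ out D a) (ho : o ∈ out D a)
    (hzo : OddAdj D z o) (θ : MulAut G) (hθD : ∀ x ∈ D, θ x ∈ D) {p : ℕ} (hp : p.Prime) (hp2 : p ≠ 2)
    (hθp : θ ^ p = 1) (hpq : p ∣ (sameCommutingClass D a).ncard) (hfa : ∀ b ∈ sameCommutingClass D a, θ b = b)
    (hfz : θ z = z) (hfo : θ o = o) : ∀ v ∈ fibre D a z, θ v = v :=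
  (P.fibre_le_and_norm hcon hrig ha hz ho hzo).2 θ hθD hp hp2 hθp hpq hfa hfz hfo

/-- A fibre has at most the square of the order of a root group. -/
theorem fibre_le_sq (hrig : IsRigid D) {a z : G} (ha : a ∈ D) (hz : z ∈ out D a) :
    (fibre D a z).ncard ≤ ((sameCommutingClass D a).ncard + 1) ^ 2 := by
  obtain ⟨o, ho, hzo⟩ := P.exists_partner ha hz
  exact (P.fibre_le_and_norm hcon hrig ha hz ho hzo).1

end IsClassPair

end CfsgLib.OddTrans
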