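import Cfsg.Agent.Lib.OddTrans.Fam

/-!
The members commuting with a point outside its block: a single odd component when the commuting graph is connected,
hence the carrier of a smaller simple pair.
-/

set_option autoImplicit false
set_option linter.unusedSectionVars false
set_option linter.style.haveILetI false

namespace CfsgLib.OddTrans

open Cfsg Relation
open CfsgLib.RootInv (mul_self inv_eq ne_one odd_symm odd_conj reach_symm reach_conj)

universe u

variable {G : Type u} [Group G] {D : Set G}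

/-- The members commuting with `a` outside the block of `a`. -/
def out (D : Set G) (a : G) : Set G :=
  {z | z ∈ D ∧ Commute z a ∧ commutingMembers D a ≠ commutingMembers D z}

theorem out_subset (a : G) : out D a ⊆ D := fun _ h => h.1

theorem out_symm {a z : G} (ha : a ∈ D) (h : z ∈ out D a) : a ∈ out D z := ⟨ha, h.2.1.symm, h.2.2.symm⟩

theorem out_eq_of_twin {a b : G} (_ha : a ∈ D) (hb : b ∈ sameCommutingClass D a) : out D b = out D a := by
  ext z
  constructor
  · rintro ⟨hz, hc, hne⟩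
    exact ⟨hz, (hb.2.symm ▸ (⟨hz, hc⟩ : z ∈ commutingMembers D b) : z ∈ commutingMembers D a).2, hb.2 ▸ hne⟩
  · rintro ⟨hz, hc, hne⟩
    exact ⟨hz, (hb.2 ▸ (⟨hz, hc⟩ : z ∈ commutingMembers D a) : z ∈ commutingMembers D b).2, hb.2 ▸ hne⟩

section

variable (hD : IsOddTranspositionSet D)
include hD

theorem out_conj (a g : G) {z : G} (hz : z ∈ out D a) : g * z * g⁻¹ ∈ out D (g * a * g⁻¹) := by
  refine ⟨hD.1.conj_mem z hz.1 g, hz.2.1.map (MulAut.conj g).toMonoidHom, fun e => hz.2.2 ?_⟩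
  rw [commutingMembers_conj hD, commutingMembers_conj hD] at e
  exact Set.image_injective.mpr (fun x y h => mul_left_cancel (mul_right_cancel h)) e

/-- An element fixing the block of `a` permutes `out D a`. -/
theorem out_stable {a g : G} (ha : a ∈ D) (hg : commutingMembers D (g * a * g⁻¹) = commutingMembers D a) :
    (∀ z ∈ out D a, g * z * g⁻¹ ∈ out D a) ∧ ∀ z ∈ out D a, g⁻¹ * z * g ∈ out D a := by
  have hg' : commutingMembers D (g⁻¹ * a * g⁻¹⁻¹) = commutingMembers D a := by
    rw [commutingMembers_conj hD]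
    conv_lhs => rw [← hg, commutingMembers_conj hD, Set.image_image]
    simp [mul_assoc]
  have key : ∀ g : G, commutingMembers D (g * a * g⁻¹) = commutingMembers D a →
      ∀ z ∈ out D a, g * z * g⁻¹ ∈ out D a := fun g hg z hz => by
    have := out_conj hD a g hz
    rwa [out_eq_of_twin ha ⟨hD.1.conj_mem a ha g, hg.symm⟩] at this
  exact ⟨key g hg, fun z hz => by simpa using key g⁻¹ hg' z hz⟩

theorem out_stable_of_commute {a g : G} (ha : a ∈ D) (hg : Commute g a) :
    (∀ z ∈ out D a, g * z * g⁻¹ ∈ out D a) ∧ ∀ z ∈ out D a, g⁻¹ * z * g ∈ out D a :=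
  out_stable hD ha (by rw [hg.eq, mul_inv_cancel_right])

theorem commute_of_mem_closure {a g : G} {S : Set G} (hS : ∀ s ∈ S, Commute s a) (hg : g ∈ Subgroup.closure S) :
    Commute g a := by
  have hle : Subgroup.closure S ≤ Subgroup.centralizer {a} :=
    (Subgroup.closure_le _).mpr fun s hs => Subgroup.mem_centralizer_singleton_iff.mpr (hS s hs).eq
  exact Subgroup.mem_centralizer_singleton_iff.mp (hle hg)

theorem commute_closure_out {a g : G} (hg : g ∈ Subgroup.closure (out D a)) : Commute g a :=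
  commute_of_mem_closure hD (fun _ hs => hs.2.1) hg

/-- Elements of the group of `out D a` centralise the block of `a`. -/
theorem commute_twin_closure_out {a b g : G} (ha : a ∈ D) (hb : b ∈ sameCommutingClass D a)
    (hg : g ∈ Subgroup.closure (out D a)) : Commute g b := by
  refine commute_closure_out hD ?_
  rwa [out_eq_of_twin ha hb]

end

variable [Finite G]

/-- A smaller pair with a disconnected commuting graph: commuting is transitive. -/
theorem commute_trans_of_sub {S : Set G} (hD : IsOddTranspositionSet D) (hS : IsSub D S)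
    (hnc : ¬ IsConnectedSet (CommAdj S) S) {a b c : G} (ha : a ∈ S) (hb : b ∈ S) (hc : c ∈ S) (hab : Commute a b)
    (hbc : Commute b c) : Commute a c := by
  have hnc' : ¬ IsConnectedSet (CommAdj (img S)) (img S) := by
    intro h
    refine hnc fun x hx y hy => ?_
    suffices ∀ r, ReflTransGen (CommAdj (img S)) (res S x) r → ∀ z ∈ S, res S z = r →
        ReflTransGen (CommAdj S) x z from this _ (h _ ⟨x, hx, rfl⟩ _ ⟨y, hy, rfl⟩) y hy rfl
    intro r hr
    induction hr with
    | refl =>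
      intro z hz e
      exact CfsgLib.RootComm.reach_of_commute hx hz
        ((res_commute_iff hD hS hx hz).mp (by rw [e])).eq
    | tail _ h ih =>
      intro z hz e
      obtain ⟨w, hw, hwr⟩ := h.1
      exact (ih w hw hwr).trans (CfsgLib.RootComm.reach_of_commute hw hz
        ((res_commute_iff hD hS hw hz).mp (by rw [hwr, e]; exact h.2.2.2)).eq)
  obtain ⟨m, p, e, R⟩ := exists_rankOne (res_classPair hD hS) hnc'
  have h1 := R.cm_eq_of_commute ⟨a, ha, rfl⟩ ⟨b, hb, rfl⟩ ((res_commute_iff hD hS ha hb).mpr hab)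
  have h2 : res S c ∈ commutingMembers (img S) (res S b) :=
    ⟨⟨c, hc, rfl⟩, ((res_commute_iff hD hS hb hc).mpr hbc).symm.eq⟩
  rw [← h1] at h2
  exact ((res_commute_iff hD hS hc ha).mp h2.2).symm

namespace IsClassPair

variable (P : IsClassPair G D)
include P

theorem ncard_cm {a b : G} (ha : a ∈ D) (hb : b ∈ D) :
    (commutingMembers D a).ncard = (commutingMembers D b).ncard := by
  obtain ⟨g, rfl⟩ := P.cl.2.2 a ha b hb
  rw [commutingMembers_conj P.odd, Set.ncard_image_of_injective _ fun x y e => mul_left_cancel (mul_right_cancel e)]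

theorem cm_eq_of_subset {a b : G} (ha : a ∈ D) (hb : b ∈ D) (h : commutingMembers D a ⊆ commutingMembers D b) :
    commutingMembers D a = commutingMembers D b :=
  Set.eq_of_subset_of_ncard_le h (P.ncard_cm hb ha).le (Set.toFinite _)

theorem exists_partner {a z : G} (ha : a ∈ D) (hz : z ∈ out D a) : ∃ o ∈ out D a, OddAdj D z o := by
  obtain ⟨o, ho, hno⟩ : ∃ o ∈ commutingMembers D a, o ∉ commutingMembers D z := by
    by_contra h
    push Not at h
    exact hz.2.2 (P.cm_eq_of_subset ha hz.1 h)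
  have hoz : ¬ Commute z o := fun hc => hno ⟨ho.1, hc.symm.eq⟩
  exact ⟨o, ⟨ho.1, ho.2, fun e => hoz (commute_twin P.odd e hz.1 hz.2.1)⟩, (P.odd |> odd_iff) hz.1 ho.1 |>.mpr hoz⟩

variable (hcon : IsConnectedSet (CommAdj D) D)
include hcon

theorem out_nonempty {a : G} (ha : a ∈ D) : (out D a).Nonempty := by
  obtain ⟨w, haw⟩ := P.exists_opposite ha
  suffices ∀ x, ReflTransGen (CommAdj D) a x → x ∈ sameCommutingClass D a ∨ (out D a).Nonempty from
    (this w (hcon a ha w haw.2.1)).resolve_left fun h =>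
      not_commute_of_odd P.odd haw (commute_of_twin P.odd h.1 h.2).symm
  intro x hx
  induction hx with
  | refl => exact Or.inl ⟨ha, rfl⟩
  | @tail b c _ h ih =>
    rcases ih with hb | hne
    · have hc : Commute c a := commute_twin P.odd hb.2.symm h.2.1 h.2.2.2.symm
      by_cases e : commutingMembers D a = commutingMembers D c
      · exact Or.inl ⟨h.2.1, e⟩
      · exact Or.inr ⟨c, h.2.1, hc, e⟩
    · exact Or.inr hne

/-- The members commuting with a point outside its block form one odd component. -/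
theorem out_connected {a : G} (ha : a ∈ D) : IsConnectedSet (OddAdj (out D a)) (out D a) := by
  classical
  have hD := P.odd
  intro z₁ hz₁ z₂ hz₂
  by_contra hbad
  let comp : G → G → Set G := fun p z => {x | ReflTransGen (OddAdj (out D p)) z x}
  have hcomp : ∀ p z, z ∈ out D p → comp p z ⊆ out D p := fun p z hz x hx => by
    induction hx with
    | refl => exact hz
    | tail _ h _ => exact h.2.1
  -- a largest component
  obtain ⟨⟨p₀, δ₀⟩, hδ₀, hmax⟩ := Set.exists_max_image {q : G × G | q.1 ∈ D ∧ q.2 ∈ out D q.1}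
    (fun q => (comp q.1 q.2).ncard) (Set.toFinite _) ⟨(a, z₁), ha, hz₁⟩
  obtain ⟨hp₀, hδp₀⟩ := hδ₀
  simp only at hp₀ hδp₀
  set Δ := comp p₀ δ₀ with hΔ
  have hΔD : Δ ⊆ D := fun x hx => (hcomp p₀ δ₀ hδp₀ hx).1
  have hδ₀Δ : δ₀ ∈ Δ := ReflTransGen.refl
  let C : Set G := {p | p ∈ D ∧ δ₀ ∈ out D p ∧ comp p δ₀ = Δ}
  have hp₀C : p₀ ∈ C := ⟨hp₀, hδp₀, rfl⟩
  have hCout : ∀ p ∈ C, Δ ⊆ out D p := fun p hp => hp.2.2 ▸ hcomp p δ₀ hp.2.1
  -- members commuting with a point of `C` outside its block and outside `Δ` are in `C`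
  have hstep : ∀ p ∈ C, ∀ y ∈ out D p, y ∉ Δ → y ∈ C := by
    intro p hp y hy hyΔ
    have hclosed : ∀ δ ∈ Δ, ∀ x ∈ out D p, OddAdj D δ x → x ∈ Δ := fun δ hδ x hx ho => by
      have hδ' : ReflTransGen (OddAdj (out D p)) δ₀ δ := by
        have : δ ∈ comp p δ₀ := hp.2.2.symm ▸ hδ
        exact this
      rw [← hp.2.2]
      exact hδ'.tail ⟨hCout p hp hδ, hx, ho.2.2.1, ho.2.2.2⟩
    have hcomm : ∀ δ ∈ Δ, Commute δ y := fun δ hδ =>
      (commute_or_odd hD (hΔD hδ) hy.1).resolve_right fun ho => hyΔ (hclosed δ hδ y hy ho)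
    have hΔy : Δ ⊆ out D y := fun δ hδ => by
      refine ⟨hΔD hδ, hcomm δ hδ, fun e => ?_⟩
      obtain ⟨o, ho, hδo⟩ := P.exists_partner hp.1 (hCout p hp hδ)
      exact not_commute_of_odd hD hδo (commute_twin hD e ho.1 (hcomm o (hclosed δ hδ o ho hδo))).symm
    refine ⟨hy.1, hΔy hδ₀Δ, (Set.eq_of_subset_of_ncard_le ?_ (hmax (y, δ₀) ⟨hy.1, hΔy hδ₀Δ⟩) (Set.toFinite _)).symm⟩
    intro x hx
    have hx' : x ∈ comp p δ₀ := hp.2.2.symm ▸ hx
    clear hx
    induction hx' with
    | refl => exact ReflTransGen.refl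
    | @tail b c hb h ih =>
      exact ih.tail ⟨hΔy (hp.2.2 ▸ hb), hΔy (hp.2.2 ▸ (hb.tail h : ReflTransGen _ δ₀ c)), h.2.2.1, h.2.2.2⟩
  -- twins
  have hCcm : ∀ p ∈ C, ∀ q ∈ commutingMembers D p, q ∈ C ∪ Δ := by
    intro p hp q hq
    by_cases e : commutingMembers D p = commutingMembers D q
    · refine Or.inl ⟨hq.1, ?_, ?_⟩
      · rw [out_eq_of_twin hp.1 ⟨hq.1, e⟩]; exact hp.2.1
      · show {x | ReflTransGen (OddAdj (out D q)) δ₀ x} = Δ
        rw [out_eq_of_twin hp.1 ⟨hq.1, e⟩]
        exact hp.2.2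
    · by_cases hqΔ : q ∈ Δ
      · exact Or.inr hqΔ
      · exact Or.inl (hstep p hp q ⟨hq.1, hq.2, e⟩ hqΔ)
  have hCΔ : ∀ p ∈ C, ∀ δ ∈ Δ, Commute δ p := fun p hp δ hδ => (hCout p hp hδ).2.1
  -- some member outside `C ∪ Δ` commutes with a member of `Δ`
  obtain ⟨δ, hδ, t, ht, htC, htδ⟩ : ∃ δ ∈ Δ, ∃ t ∈ D, t ∉ C ∪ Δ ∧ Commute t δ := by
    by_contra h
    push Not at h
    have hall : ∀ x ∈ D, x ∈ C ∪ Δ := by
      intro x hx
      have hr := hcon p₀ hp₀ x hx
      clear hx
      induction hr with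
      | refl => exact Or.inl hp₀C
      | @tail b c _ hbc ih =>
        rcases ih with hb | hb
        · exact hCcm b hb c ⟨hbc.2.1, hbc.2.2.2.symm⟩
        · exact by_contra fun hn => h b hb c hbc.2.1 hn hbc.2.2.2.symm
    obtain ⟨o, ho⟩ : ∃ o, OddAdj D p₀ o := P.exists_opposite hp₀
    have hreach := P.odd_connected p₀ hp₀ δ₀ (hΔD hδ₀Δ)
    have : δ₀ ∈ C := by
      clear ho
      have hC' : ∀ x, ReflTransGen (OddAdj D) p₀ x → x ∈ C := by
        intro x hx
        induction hx with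
        | refl => exact hp₀C
        | @tail b c _ hbc ih =>
          rcases hall c hbc.2.1 with hc | hc
          · exact hc
          · exact absurd (hCΔ b ih c hc).symm (not_commute_of_odd hD hbc)
      exact hC' δ₀ hreach
    exact this.2.1.2.2 rfl
  -- a largest commuting part of `Δ` with a common neighbour outside
  obtain ⟨T, hT, hTmax⟩ := Set.exists_max_image
    {T : Set G | T ⊆ Δ ∧ δ ∈ T ∧ (∀ x ∈ T, ∀ y ∈ T, Commute x y) ∧ ∃ t ∈ D, t ∉ C ∪ Δ ∧ ∀ x ∈ T, Commute t x}
    Set.ncard (Set.toFinite _) ⟨{δ}, Set.singleton_subset_iff.mpr hδ, rfl,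
      by rintro x (rfl : x = δ) y (rfl : y = x); exact Commute.refl y, t, ht, htC, by rintro x (rfl : x = δ); exact htδ⟩
  obtain ⟨hTΔ, hδT, hTc, t, ht, htC, htT⟩ := hT
  let X : Set G := {x | x ∈ D ∧ ∀ s ∈ T, Commute x s}
  have hCX : ∀ p ∈ C, p ∈ X := fun p hp => ⟨hp.1, fun s hs => (hCΔ p hp s (hTΔ hs)).symm⟩
  have htX : t ∈ X := ⟨ht, htT⟩
  have htC' : ∀ p ∈ C, OddAdj D p t := fun p hp =>
    (odd_iff hD hp.1 ht).mpr fun hc => htC (hCcm p hp t ⟨ht, hc.symm.eq⟩)
  let E : Set G := {x | ReflTransGen (OddAdj X) t x}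
  have hEX : E ⊆ X := fun x hx => by
    induction hx with
    | refl => exact htX
    | tail _ h _ => exact h.2.1
  have hCE : ∀ p ∈ C, p ∈ E := fun p hp =>
    ReflTransGen.single ⟨htX, hCX p hp, (odd_symm (htC' p hp)).2.2.1, (odd_symm (htC' p hp)).2.2.2⟩
  have hlift : ∀ x, ReflTransGen (OddAdj X) t x → ReflTransGen (OddAdj E) t x := by
    intro x hx
    induction hx with
    | refl => exact ReflTransGen.refl
    | @tail b c hb h ih => exact ih.tail ⟨hb, hb.tail h, h.2.2.1, h.2.2.2⟩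
  have hE : IsSub D E := by
    refine ⟨fun x hx => (hEX hx).1, fun e he x hx => ?_, ?_, fun x hx y hy => ?_⟩
    · have hXc : ∀ x ∈ X, e * x * e⁻¹ ∈ X := fun x hx => by
        refine ⟨hD.1.conj_mem x hx.1 e, fun s hs => ?_⟩
        have := (hx.2 s hs).map (MulAut.conj e).toMonoidHom
        simpa [MulAut.conj_apply, ((hEX he).2 s hs).eq] using this
      have hmap : ∀ {x y : G}, ReflTransGen (OddAdj X) x y → ReflTransGen (OddAdj X) (e * x * e⁻¹) (e * y * e⁻¹) := by
        intro x y h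
        induction h with
        | refl => exact ReflTransGen.refl
        | tail _ h ih =>
          have h' := odd_conj hD.1 e (⟨h.1.1, h.2.1.1, h.2.2.1, h.2.2.2⟩ : OddAdj D _ _)
          exact ih.tail ⟨hXc _ h.1, hXc _ h.2.1, h'.2.2.1, h'.2.2.2⟩
      have h1 := hmap he
      rw [mul_inv_cancel_right] at h1
      show ReflTransGen (OddAdj X) t (e * x * e⁻¹)
      exact ((show ReflTransGen (OddAdj X) t e from he).trans (reach_symm h1)).trans (hmap hx)
    · obtain ⟨b, hb, hpb, hpbD⟩ := P.exists_line hp₀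
      have h1 := line_twins hD hp₀ hb hpb hpbD
      have h2 : commutingMembers D p₀ = commutingMembers D (p₀ * b) := line_twins hD hp₀ hpbD
        ((Commute.refl p₀).mul_right hpb) (by rwa [← mul_assoc, mul_self hD.1 hp₀, one_mul])
      have htwin : ∀ x, x ∈ D → commutingMembers D p₀ = commutingMembers D x → x ∈ E := fun x hx e => by
        have hxX : x ∈ X := ⟨hx, fun s hs =>
          (commute_twin hD e (hΔD (hTΔ hs)) (hCΔ p₀ hp₀C s (hTΔ hs))).symm⟩
        have ho := odd_symm (odd_twin hD (htC' p₀ hp₀C) ⟨hx, e⟩)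
        exact ReflTransGen.single ⟨htX, hxX, ho.2.2.1, ho.2.2.2⟩
      exact ⟨p₀, hCE p₀ hp₀C, b, htwin b hb h1, hpb, htwin _ hpbD h2⟩
    · exact (reach_symm (hlift x hx)).trans (hlift y hy)
  -- the neighbours of `C` in `E` stay in `C ∪ Δ`
  have hnc : ¬ IsConnectedSet (CommAdj E) E := by
    intro h
    have hr := h p₀ (hCE p₀ hp₀C) t ReflTransGen.refl
    suffices ∀ x, ReflTransGen (CommAdj E) p₀ x → x ∈ C ∪ Δ from htC (this t hr)
    intro x hx
    induction hx with
    | refl => exact Or.inl hp₀C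
    | @tail b c _ hbc ih =>
      rcases ih with hb | hb
      · exact hCcm b hb c ⟨(hEX hbc.2.1).1, hbc.2.2.2.symm⟩
      · by_contra hc
        have hbT : b ∉ T := fun hbT => by
          -- a member of `T` has no opposite in `X`
          have hbE : b ∈ E := hbc.1
          rcases ReflTransGen.cases_head (hlift b hbE) with e | ⟨d, hd, -⟩
          · exact htC (e ▸ Or.inr hb)
          · obtain ⟨o, ho, -⟩ : ∃ o, OddAdj E b o ∧ True := by
              rcases ReflTransGen.cases_tail (hlift b hbE) with e | ⟨d', -, hd'⟩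
              · exact absurd (e ▸ Or.inr hb) htC
              · exact ⟨d', odd_symm hd', trivial⟩
            exact not_commute_of_odd hD ⟨(hEX ho.1).1, (hEX ho.2.1).1, ho.2.2.1, ho.2.2.2⟩
              ((hEX ho.2.1).2 b hbT).symm
        have hmem : insert b T ∈ {T : Set G | T ⊆ Δ ∧ δ ∈ T ∧ (∀ x ∈ T, ∀ y ∈ T, Commute x y) ∧
            ∃ t ∈ D, t ∉ C ∪ Δ ∧ ∀ x ∈ T, Commute t x} := by
          refine ⟨Set.insert_subset_iff.mpr ⟨hb, hTΔ⟩, Or.inr hδT, ?_, c, (hEX hbc.2.1).1, hc, ?_⟩
          · rintro x (rfl | hx) y (rfl | hy)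
            · exact Commute.refl _
            · exact (hEX hbc.1).2 y hy
            · exact ((hEX hbc.1).2 x hx).symm
            · exact hTc x hx y hy
          · rintro x (rfl | hx)
            · exact Commute.symm hbc.2.2.2
            · exact (hEX hbc.2.1).2 x hx
        have := hTmax _ hmem
        rw [Set.ncard_insert_of_notMem hbT (Set.toFinite _)] at this
        omega
  -- a member of `C` with a neighbour `y` in `C` and an opposite in `C` commuting with `y`
  obtain ⟨g, hg⟩ := P.cl.2.2 a ha p₀ hp₀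
  obtain ⟨y, hy, hyΔ⟩ : ∃ y ∈ out D p₀, y ∉ Δ := by
    by_contra h
    push Not at h
    apply hbad
    have hmove : ∀ x y, ReflTransGen (OddAdj (out D p₀)) x y →
        ReflTransGen (OddAdj (out D a)) (g⁻¹ * x * g) (g⁻¹ * y * g) := by
      intro x y hxy
      induction hxy with
      | refl => exact ReflTransGen.refl
      | @tail b c _ hbc ih =>
        have key : ∀ {x : G}, x ∈ out D p₀ → g⁻¹ * x * g ∈ out D a := fun hx => by
          have := out_conj hD p₀ g⁻¹ hx
          rwa [hg, show g⁻¹ * (g * a * g⁻¹) * g⁻¹⁻¹ = a by group, inv_inv] at this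
        have ho := odd_conj hD.1 g⁻¹
          (⟨hbc.1.1, hbc.2.1.1, hbc.2.2.1, hbc.2.2.2⟩ : OddAdj D _ _)
        rw [inv_inv] at ho
        exact ih.tail ⟨key hbc.1, key hbc.2.1, ho.2.2.1, ho.2.2.2⟩
    have hz : ∀ z ∈ out D a, g * z * g⁻¹ ∈ Δ := fun z hz => h _ (hg ▸ out_conj hD a g hz)
    have h1 : ReflTransGen (OddAdj (out D p₀)) δ₀ (g * z₁ * g⁻¹) := hz z₁ hz₁
    have h2 : ReflTransGen (OddAdj (out D p₀)) δ₀ (g * z₂ * g⁻¹) := hz z₂ hz₂
    have := hmove _ _ ((reach_symm h1).trans h2)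
    simpa [mul_assoc] using this
  have hyC := hstep p₀ hp₀C y hy hyΔ
  obtain ⟨w, hw, hpw⟩ := P.exists_partner hy.1 (out_symm hp₀ hy)
  have hwC : w ∈ C := by
    rcases hCcm y hyC w ⟨hw.1, hw.2.1⟩ with h | h
    · exact h
    · exact absurd (hCΔ p₀ hp₀C w h).symm (not_commute_of_odd hD hpw)
  exact not_commute_of_odd hD hpw (commute_trans_of_sub hD hE hnc (hCE p₀ hp₀C) (hCE y hyC) (hCE w hwC)
    hy.2.1.symm hw.2.1.symm)

theorem out_isSub {a : G} (ha : a ∈ D) : IsSub D (out D a) := by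
  have hD := P.odd
  refine ⟨out_subset a, fun s hs t ht => (out_stable_of_commute hD ha hs.2.1).1 t ht, ?_, P.out_connected hcon ha⟩
  obtain ⟨z, hz⟩ := P.out_nonempty hcon ha
  obtain ⟨b, hb, hzb, hzbD⟩ := P.exists_line hz.1
  have h1 := line_twins hD hz.1 hb hzb hzbD
  have h2 : commutingMembers D z = commutingMembers D (z * b) := line_twins hD hz.1 hzbD
    ((Commute.refl z).mul_right hzb) (by rwa [← mul_assoc, mul_self hD.1 hz.1, one_mul])
  have key : ∀ x, x ∈ D → commutingMembers D z = commutingMembers D x → x ∈ out D a := fun x hx e =>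
    ⟨hx, (commute_twin hD e ha hz.2.1.symm).symm, e ▸ hz.2.2⟩
  exact ⟨z, hz, b, key b hb h1, hzb, key _ hzbD h2⟩

end IsClassPair

end CfsgLib.OddTrans
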