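import Cfsg.Agent.Lib.OddTrans.Norm

/-!
The element `h` attached to an opposite pair with a common neighbour, and fullness of the blocks in a residual.
-/

set_option autoImplicit false
set_option linter.unusedSectionVars false
set_option linter.style.haveILetI false

namespace CfsgLib.OddTrans

open Cfsg Relation
open CfsgLib.RootInv (mul_self inv_eq ne_one odd_symm odd_conj)

universe u

variable {G : Type u} [Group G] [Finite G] {D S : Set G}

section Sub

variable (hD : IsOddTranspositionSet D) (hS : IsSub D S)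
include hD hS

theorem swap_mem_sub {a w : G} (ha : a ∈ S) (hw : w ∈ S) (h : OddAdj D a w) : swap a w ∈ S := by
  obtain ⟨g, hg, e⟩ := swap_eq_conj hD h
  rw [e]
  refine conj_closure hD hS ((Subgroup.closure_le _).mpr ?_ hg) a ha
  rintro x (rfl | rfl)
  · exact Subgroup.subset_closure ha
  · exact Subgroup.subset_closure hw

theorem odd_res {a w : G} (ha : a ∈ S) (hw : w ∈ S) (h : OddAdj D a w) : OddAdj (img S) (res S a) (res S w) :=
  (odd_iff (res_classPair hD hS).odd ⟨a, ha, rfl⟩ ⟨w, hw, rfl⟩).mpr fun hc =>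
    not_commute_of_odd hD h ((res_commute_iff hD hS ha hw).mp hc)

theorem res_swap {a w : G} (ha : a ∈ S) (hw : w ∈ S) (h : OddAdj D a w) :
    res S (swap a w) = swap (res S a) (res S w) := by
  have hR := res_classPair hD hS
  have hs := swap_mem_sub hD hS ha hw h
  have hA := Subgroup.subset_closure (k := S) ha
  have hW := Subgroup.subset_closure (k := S) hw
  have hV := Subgroup.subset_closure (k := S) hs
  refine swap_unique hR.odd (odd_res hD hS ha hw h) ⟨_, hs, rfl⟩ ?_ ?_
  · have hle : ∀ g ∈ Subgroup.closure ({a, w} : Set G),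
        g ∈ Subgroup.closure S ∧ res S g ∈ Subgroup.closure ({res S a, res S w} : Set (Res S)) := by
      intro g hg
      induction hg using Subgroup.closure_induction with
      | mem y hy =>
        rcases hy with rfl | rfl
        · exact ⟨hA, Subgroup.subset_closure (Set.mem_insert _ _)⟩
        · exact ⟨hW, Subgroup.subset_closure (Set.mem_insert_of_mem _ rfl)⟩
      | one => exact ⟨one_mem _, res_one (S := S) ▸ one_mem _⟩
      | mul x y _ _ hx hy => exact ⟨mul_mem hx.1 hy.1, by rw [res_mul hx.1 hy.1]; exact mul_mem hx.2 hy.2⟩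
      | inv x _ hx => exact ⟨inv_mem hx.1, by rw [res_inv hx.1]; exact inv_mem hx.2⟩
    exact (hle _ (swap_mem_closure hD a w)).2
  · rw [← res_mul hV hA, ← res_mul (mul_mem hV hA) hV, (swap_spec hD h).2]

/-- An automorphism preserving `S` acts on its simple pair. -/
theorem exists_resAut (f : MulAut G) (h : ∀ s ∈ S, f s ∈ S) (h' : ∀ s ∈ S, f.symm s ∈ S) :
    ∃ θ : MulAut (Res S), ∀ g ∈ Subgroup.closure S, θ (res S g) = res S (f g) := by
  have hmem : ∀ e : MulAut G, (∀ s ∈ S, e s ∈ S) → ∀ g ∈ Subgroup.closure S, e g ∈ Subgroup.closure S := by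
    intro e he g hg
    have hle : Subgroup.closure S ≤ (Subgroup.closure S).comap e.toMonoidHom :=
      (Subgroup.closure_le _).mpr fun s hs => Subgroup.subset_closure (he s hs)
    exact hle hg
  let F : MulAut (Subgroup.closure S) :=
    { toFun := fun g => ⟨f g, hmem f h g g.2⟩
      invFun := fun g => ⟨f.symm g, hmem f.symm h' g g.2⟩
      left_inv := fun g => Subtype.ext (f.symm_apply_apply _)
      right_inv := fun g => Subtype.ext (f.apply_symm_apply _)
      map_mul' := fun x y => Subtype.ext (map_mul f _ _) }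
  have hker : (twoZCore (Subgroup.closure S)).map F.toMonoidHom = twoZCore (Subgroup.closure S) := by
    have hiff : ∀ x : Subgroup.closure S, x ∈ twoZCore (Subgroup.closure S) ↔ (x : G) ∈ fixBlocks S := fun x => by
      rw [← res_eq_one_iff hD hS x.2, res_mk x.2]
      exact (QuotientGroup.eq_one_iff (N := twoZCore (Subgroup.closure S)) x).symm
    ext x
    constructor
    · rintro ⟨y, hy, rfl⟩
      exact (hiff _).mpr (fixBlocks_map f h h' ((hiff y).mp hy))
    · intro hx
      refine ⟨F.symm x, (hiff _).mpr ?_, F.apply_symm_apply x⟩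
      exact fixBlocks_map f.symm h' (by simpa using h) ((hiff x).mp hx)
  refine ⟨QuotientGroup.congr _ _ F hker, fun g hg => ?_⟩
  rw [res_mk hg, res_mk (hmem f h g hg)]
  rfl

end Sub

/-- The residual pairs satisfy the inductive statement. -/
def GoodResiduals (D : Set G) : Prop :=
  ∀ a ∈ D, HasRoot (img (out D a)) ∧ HasTorus (img (out D a)) ∧
    (IsConnectedSet (CommAdj (img (out D a))) (img (out D a)) → IsRigid (img (out D a)))

/-- An element of odd prime order attached to an opposite pair `a`, `w` and a common neighbour `y`. -/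
structure IsPivot (D : Set G) (a w y h : G) (p : ℕ) : Prop where
  prime : p.Prime
  ne_two : p ≠ 2
  order : orderOf h = p
  inv : swap a w * h * (swap a w)⁻¹ = h⁻¹
  cent : ∀ s ∈ D, Commute s a → Commute s w → Commute h s
  block : commutingMembers D (h * a * h⁻¹) = commutingMembers D a
  mem : h ∈ Subgroup.closure (out D y)
  dvd : p ∣ (sameCommutingClass (img (out D y)) (res (out D y) a)).ncard
  torus : ∃ c, orderOf c ∣ (sameCommutingClass (img (out D y)) (res (out D y) a)).ncard ∧
    res (out D y) h ∈ Subgroup.zpowers c ∧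
    ∀ b ∈ sameCommutingClass (img (out D y)) (res (out D y) a),
      swap b (res (out D y) w) * swap (res (out D y) a) (res (out D y) w) ∈ Subgroup.zpowers c

namespace IsPivot

variable {a w y h : G} {p : ℕ} (H : IsPivot D a w y h p)
include H

theorem ne_one : h ≠ 1 := fun e => H.prime.ne_one (by rw [← H.order, e, orderOf_one])

theorem odd : Odd (orderOf h) := H.order ▸ H.prime.odd_of_ne_two H.ne_two

/-- A neighbour of `a` centralised by `h` is a neighbour of `w`. -/
theorem commute_other (hD : IsOddTranspositionSet D) (haw : OddAdj D a w) {r : G} (hr : r ∈ D) (hra : Commute r a)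
    (hrh : Commute r h) : Commute r w := by
  have := commute_inverter hD (swap_spec hD haw).1 hr H.odd H.ne_one H.inv hrh
  rw [← (swap_spec hD haw).2]
  exact (this.mul_right hra).mul_right this

end IsPivot

namespace IsClassPair

variable (P : IsClassPair G D) (hcon : IsConnectedSet (CommAdj D) D)
include P hcon

theorem exists_pivot (hres : GoodResiduals D) {a w y : G} (haw : OddAdj D a w) (hya : y ∈ out D a)
    (hyw : y ∈ out D w) : ∃ h p, IsPivot D a w y h p := by
  have hD := P.odd
  have ha := haw.1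
  have hay : a ∈ out D y := out_symm ha hya
  have hwy : w ∈ out D y := out_symm haw.2.1 hyw
  have hS := P.out_isSub hcon hya.1
  obtain ⟨b, hb, hab, habD⟩ := P.exists_line ha
  have hbt : b ∈ sameCommutingClass D a := ⟨hb, line_twins hD ha hb hab habD⟩
  have habt : a * b ∈ sameCommutingClass D a :=
    ⟨habD, line_twins hD ha habD ((Commute.refl a).mul_right hab) (by rwa [← mul_assoc, mul_self hD.1 ha, one_mul])⟩
  have hby := P.twin_mem_out ha hya hbt
  have hbw := odd_twin hD haw hbt
  have hne : res (out D y) a ≠ res (out D y) b := fun e => by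
    apply res_ne_one hD hS (P.twin_mem_out ha hya habt)
    rw [res_mul (Subgroup.subset_closure hay) (Subgroup.subset_closure hby), ← e, res_sq hD hS hay]
  obtain ⟨-, hT, -⟩ := hres y hya.1
  obtain ⟨hTodd, c, hc, hcmem⟩ := hT _ _ (odd_res hD hS hay hwy haw)
  have hbR := P.res_twins_subset hcon ha hya ⟨b, hbt, rfl⟩
  have haR : res (out D y) a ∈ sameCommutingClass (img (out D y)) (res (out D y) a) :=
    self_mem_twins ⟨a, hay, rfl⟩
  set u := swap a w with hu
  set u' := swap b w with hu'
  have huS := swap_mem_sub hD hS hay hwy haw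
  have hu'S := swap_mem_sub hD hS hby hwy hbw
  have huu : OddAdj D u u' := by
    refine (odd_iff hD huS.1 hu'S.1).mpr fun hcm => ?_
    have := (res_commute_iff hD hS huS hu'S).mpr hcm
    rw [res_swap hD hS hay hwy haw, res_swap hD hS hby hwy hbw] at this
    exact not_commute_of_odd (P.residual hcon hya.1).odd (hTodd _ haR _ hbR hne) this
  have hu2 := mul_self hD.1 huS.1
  have hu'2 := mul_self hD.1 hu'S.1
  set h₀ := u * u' with hh₀
  have h₀1 : orderOf h₀ ≠ 1 := fun e => huu.2.2.1 (by
    rw [mul_eq_one_iff_eq_inv.mp (orderOf_eq_one_iff.mp e), inv_eq hD.1 hu'S.1])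
  obtain ⟨p, hp, k, hk⟩ : ∃ p, p.Prime ∧ p ∣ orderOf h₀ := Nat.exists_prime_and_dvd h₀1
  have hp2 : p ≠ 2 := fun e => Nat.not_even_iff_odd.mpr huu.2.2.2 (even_iff_two_dvd.mpr (e ▸ ⟨k, hk⟩))
  have hord : orderOf (h₀ ^ k) = p := by
    have hk0 : 0 < k := by
      rcases Nat.eq_zero_or_pos k with e | e
      · exact absurd (hk.trans (by rw [e, mul_zero])) (orderOf_pos h₀).ne'
      · exact e
    rw [orderOf_pow_of_dvd hk0.ne' (hk ▸ dvd_mul_left k p), hk, Nat.mul_div_cancel _ hk0]
  have hcl : h₀ ^ k ∈ Subgroup.closure (out D y) :=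
    pow_mem (mul_mem (Subgroup.subset_closure huS) (Subgroup.subset_closure hu'S)) k
  have hinv₀ : u * h₀ * u⁻¹ = h₀⁻¹ := by
    rw [hh₀, mul_inv_rev, inv_eq hD.1 huS.1, inv_eq hD.1 hu'S.1, ← mul_assoc u u, hu2, one_mul]
  have hinv : u * h₀ ^ k * u⁻¹ = (h₀ ^ k)⁻¹ := by rw [← conj_pow, hinv₀, inv_pow]
  have hresc : res (out D y) (h₀ ^ k) ∈ Subgroup.zpowers c := by
    have h1 : res (out D y) h₀ ∈ Subgroup.zpowers c := by
      rw [hh₀, res_mul (Subgroup.subset_closure huS) (Subgroup.subset_closure hu'S),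
        res_swap hD hS hay hwy haw, res_swap hD hS hby hwy hbw]
      exact hcmem _ haR _ hbR
    have hpow : ∀ j : ℕ, res (out D y) (h₀ ^ j) = res (out D y) h₀ ^ j := fun j => by
      induction j with
      | zero => rw [pow_zero, pow_zero, res_one]
      | succ j ih =>
        have h0 : h₀ ∈ Subgroup.closure (out D y) :=
          mul_mem (Subgroup.subset_closure huS) (Subgroup.subset_closure hu'S)
        rw [pow_succ, res_mul (pow_mem h0 j) h0, ih, pow_succ]
    rw [hpow]; exact pow_mem h1 k
  refine ⟨h₀ ^ k, p, hp, hp2, hord, hinv, fun s hs hsa hsw => ?_, ?_, hcl, ?_, c, hc, hresc, fun d hd => hcmem _ hd _ haR⟩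
  · have hsb : Commute s b := commute_twin hD hbt.2 hs hsa
    have key : ∀ {x : G}, Commute s x → ∀ g ∈ Subgroup.closure ({x, w} : Set G), Commute s g := fun hx g hg =>
      (commute_of_mem_closure hD (by
        rintro z (rfl | rfl)
        · exact hx.symm
        · exact hsw.symm) hg).symm
    exact (((key hsa u (swap_mem_closure hD a w)).mul_right (key hsb u' (swap_mem_closure hD b w))).pow_right k).symm
  · have step : commutingMembers D (h₀ * a * h₀⁻¹) = commutingMembers D a := by
      rw [show h₀ * a * h₀⁻¹ = u * (u' * a * u'⁻¹) * u⁻¹ by rw [hh₀]; group, commutingMembers_conj hD,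
        commutingMembers_conj hD, hbt.2, ← commutingMembers_conj hD, inv_eq hD.1 hu'S.1, (swap_spec hD hbw).2,
        ← commutingMembers_conj hD, inv_eq hD.1 huS.1, swap_back hD haw]
      exact hbt.2
    have hall : ∀ j : ℕ, commutingMembers D (h₀ ^ j * a * (h₀ ^ j)⁻¹) = commutingMembers D a := fun j => by
      induction j with
      | zero => simp
      | succ j ih =>
        rw [show h₀ ^ (j + 1) * a * (h₀ ^ (j + 1))⁻¹ = h₀ * (h₀ ^ j * a * (h₀ ^ j)⁻¹) * h₀⁻¹ by rw [pow_succ']; group,
          commutingMembers_conj hD, ih, ← commutingMembers_conj hD, step]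
    exact hall k
  · have hne1 : res (out D y) (h₀ ^ k) ≠ 1 := fun e => hp.ne_one (by
      rw [← hord, eq_one_of_inverted hD hS hcl (Subgroup.subset_closure huS) (hord ▸ hp.odd_of_ne_two hp2) hinv e,
        orderOf_one])
    have hpow1 : res (out D y) (h₀ ^ k) ^ p = 1 := by
      rw [res_mk hcl, ← map_pow]
      refine (congrArg _ (Subtype.ext ?_)).trans (map_one _)
      show (h₀ ^ k) ^ p = 1
      rw [← hord, pow_orderOf_eq_one]
    haveI := Fact.mk hp
    have hordR : orderOf (res (out D y) (h₀ ^ k)) = p := orderOf_eq_prime hpow1 hne1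
    exact (hordR ▸ orderOf_dvd_of_mem_zpowers hresc).trans hc

/-- A witness off `y` centralised by the pivot gives fullness. -/
theorem full_of_witness (hres : GoodResiduals D) {a w y h : G} {p : ℕ} (haw : OddAdj D a w) (hya : y ∈ out D a)
    (hyw : y ∈ out D w) (H : IsPivot D a w y h p) {r : G} (hra : Commute r a) (hrh : Commute r h)
    (hry : OddAdj D r y) :
    sameCommutingClass (img (out D y)) (res (out D y) a) ⊆ res (out D y) '' sameCommutingClass D a := by
  have hD := P.odd
  have ha := haw.1
  have hay : a ∈ out D y := out_symm ha hya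
  have hwy : w ∈ out D y := out_symm haw.2.1 hyw
  have hS := P.out_isSub hcon hya.1
  have hR := P.residual hcon hya.1
  intro X hX
  obtain ⟨a₀, ha₀, rfl⟩ := hX.1
  have hrtw := (P.res_twins_iff hcon hya.1 hay ha₀).mp hX
  have ha₀w : OddAdj D a₀ w := (odd_iff hD ha₀.1 haw.2.1).mpr fun hc =>
    not_commute_of_odd hD haw ((hrtw w hwy).mpr hc.symm).symm
  obtain ⟨c, hc, hhc, hcm⟩ := H.torus
  set u := swap a w with hu
  have huS := swap_mem_sub hD hS hay hwy haw
  set v := swap a₀ w with hv
  have hvS := swap_mem_sub hD hS ha₀ hwy ha₀w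
  have hvu : res (out D y) (v * u) ∈ Subgroup.zpowers c := by
    rw [res_mul (Subgroup.subset_closure hvS) (Subgroup.subset_closure huS),
      res_swap hD hS ha₀ hwy ha₀w, res_swap hD hS hay hwy haw]
    exact hcm _ hX
  -- a square root of the image of `v * u`
  have hcodd : Odd (orderOf c) := by
    obtain ⟨m, hm, hm'⟩ := exists_block_card hR (hres y hya.1).1 (a := res (out D y) a) ⟨a, hay, rfl⟩
    have hev : Even (2 ^ m) := Nat.even_pow.mpr ⟨even_two, by omega⟩
    refine Odd.of_dvd_nat ?_ hc
    rw [← hm', Nat.even_add_one, Nat.not_even_iff_odd] at hev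
    exact hev
  obtain ⟨j, hj⟩ := hcodd
  set t := res (out D y) (v * u) with ht
  set s := t ^ (j + 1) with hs
  have hsc : s ∈ Subgroup.zpowers c := pow_mem hvu _
  have hss : s * s = t := by
    rw [hs, ← pow_add]
    obtain ⟨i, hi⟩ := Subgroup.mem_zpowers_iff.mp hvu
    have : t ^ (2 * j + 1) = 1 := by
      rw [← hj, ← hi, ← zpow_natCast, ← zpow_mul, mul_comm, zpow_mul, zpow_natCast, pow_orderOf_eq_one, one_zpow]
    rw [show j + 1 + (j + 1) = 2 * j + 1 + 1 by ring, pow_succ, this, one_mul]
  have hvucl : v * u ∈ Subgroup.closure (out D y) :=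
    mul_mem (Subgroup.subset_closure hvS) (Subgroup.subset_closure huS)
  obtain ⟨g₀, hg₀, hg₀s⟩ := res_surjective s
  obtain ⟨g, hg, hgs, hgh⟩ := exists_centralizing hD hS hg₀ H.mem H.prime H.ne_two H.order (hg₀s.symm ▸ hsc) hhc
  rw [hg₀s] at hgs
  set u'' := g * u * g⁻¹ with hu''
  have hu''D : u'' ∈ D := hD.1.conj_mem u huS.1 g
  have hinv'' : u'' * h * u''⁻¹ = h⁻¹ := by
    have h1 : g⁻¹ * h * g = h := by rw [mul_assoc, ← hgh.eq, inv_mul_cancel_left]
    calc u'' * h * u''⁻¹ = g * (u * (g⁻¹ * h * g) * u⁻¹) * g⁻¹ := by rw [hu'']; group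
      _ = g * h⁻¹ * g⁻¹ := by rw [h1]; exact congrArg (fun x => g * x * g⁻¹) H.inv
      _ = h⁻¹ := by rw [hgh.inv_right.eq, mul_inv_cancel_right]
  have hru := commute_inverter hD hu''D hry.1 H.odd H.ne_one hinv'' hrh
  have hrw := H.commute_other hD haw hry.1 hra hrh
  -- the image of `u''`
  have hru' : res (out D y) u'' = res (out D y) v := by
    have hU := Subgroup.subset_closure (k := out D y) huS
    have hV := Subgroup.subset_closure (k := out D y) hvS
    have hU2 := res_sq hD hS huS
    have hUi : (res (out D y) u)⁻¹ = res (out D y) u := inv_eq_of_mul_eq_one_right hU2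
    have htinv : res (out D y) u * t * (res (out D y) u)⁻¹ = t⁻¹ := by
      rw [ht, res_mul hV hU, mul_inv_rev, hUi, inv_eq_of_mul_eq_one_right (res_sq hD hS hvS)]
      calc res (out D y) u * (res (out D y) v * res (out D y) u) * res (out D y) u
          = res (out D y) u * res (out D y) v * (res (out D y) u * res (out D y) u) := by group
        _ = _ := by rw [hU2, mul_one]
    have hsinv : res (out D y) u * s⁻¹ = s * res (out D y) u := by
      have h1 : res (out D y) u * s⁻¹ * (res (out D y) u)⁻¹ = s := by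
        have h2 : res (out D y) u * s * (res (out D y) u)⁻¹ = s⁻¹ := by rw [hs, ← conj_pow, htinv, inv_pow]
        calc res (out D y) u * s⁻¹ * (res (out D y) u)⁻¹ = (res (out D y) u * s * (res (out D y) u)⁻¹)⁻¹ := by group
          _ = s := by rw [h2, inv_inv]
      exact mul_inv_eq_iff_eq_mul.mp h1
    calc res (out D y) u'' = s * (res (out D y) u * s⁻¹) := by
          rw [hu'', res_conj hg hU, hgs, mul_assoc]
      _ = t * res (out D y) u := by rw [hsinv, ← mul_assoc, hss]
      _ = res (out D y) v := by rw [ht, res_mul hV hU, mul_assoc, hU2, mul_one]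
  have hu''S : u'' ∈ out D y := conj_closure hD hS hg u huS
  set a'' := u'' * w * u'' with ha''
  have hu''i : u''⁻¹ = u'' := inv_eq hD.1 hu''D
  have ha''eq : a'' = u'' * w * u''⁻¹ := by rw [hu''i]
  have ha''S : a'' ∈ out D y := ha''eq ▸ conj_closure hD hS (Subgroup.subset_closure hu''S) w hwy
  have hres'' : res (out D y) a'' = res (out D y) a₀ := by
    rw [ha''eq, res_conj (Subgroup.subset_closure hu''S) (Subgroup.subset_closure hwy), hru',
      ← res_conj (Subgroup.subset_closure hvS) (Subgroup.subset_closure hwy), inv_eq hD.1 hvS.1,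
      swap_back hD ha₀w]
  refine ⟨a'', P.twin_of_rtw hcon hya.1 hay ha''S ?_ hra ((hru.mul_right hrw).mul_right hru) hry, hres''⟩
  exact (P.res_twins_iff hcon hya.1 hay ha''S).mp (hres'' ▸ hX)

/-- A member of the residual at `a` fixed by the pivot lifts to a common neighbour of `a` and `w`. -/
theorem fixed_lift {a w y h : G} {p : ℕ} (haw : OddAdj D a w) (H : IsPivot D a w y h p) {z : G} (hz : z ∈ out D a)
    (hfix : res (out D a) (h * z * h⁻¹) = res (out D a) z) :
    ∃ z' ∈ out D a, res (out D a) z' = res (out D a) z ∧ Commute z' h ∧ Commute z' w := by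
  classical
  haveI := Fact.mk H.prime
  have hD := P.odd
  have hS := P.out_isSub hcon haw.1
  obtain ⟨hst, hst'⟩ := out_stable hD haw.1 H.block
  obtain ⟨k, hk⟩ := P.fibre_card_pow hcon haw.1 hz
  have hmap : ∀ v ∈ fibre D a z, h * v * h⁻¹ ∈ fibre D a z := fun v hv => by
    refine ⟨hst v hv.1, ?_⟩
    rw [← hfix]
    exact (res_eq_map hD hS hD hS (MulAut.conj h) hst (fun s hs => by
      simpa [MulAut.conj_symm_apply] using hst' s hs) hv.1 hz).mpr hv.2
  let σ : Equiv.Perm (fibre D a z) := Equiv.ofBijective (fun v => ⟨h * v.1 * h⁻¹, hmap v.1 v.2⟩)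
    (Finite.injective_iff_bijective.mp fun v w e =>
      Subtype.ext (mul_left_cancel (mul_right_cancel (congrArg Subtype.val e))))
  have hσ : ∀ (j : ℕ) v, ((σ ^ j) v : G) = h ^ j * v * (h ^ j)⁻¹ := fun j => by
    induction j with
    | zero => intro v; simp
    | succ j ih =>
      intro v
      rw [pow_succ', Equiv.Perm.mul_apply]
      show h * ((σ ^ j) v : G) * h⁻¹ = _
      rw [ih, pow_succ']; group
  haveI := Fintype.ofFinite (fibre D a z)
  obtain ⟨⟨z', hz'⟩, hfz⟩ := Equiv.Perm.exists_fixed_point_of_prime (p := p) (n := 1) (α := fibre D a z)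
    (by
      rw [← Nat.card_eq_fintype_card, hk]
      exact fun hd => H.ne_two ((Nat.prime_dvd_prime_iff_eq H.prime Nat.prime_two).mp (H.prime.dvd_of_dvd_pow hd)))
    (σ := σ) (Equiv.ext fun v => Subtype.ext (by rw [pow_one, hσ, ← H.order, pow_orderOf_eq_one]; simp))
  have hc : Commute z' h := by
    have := congrArg Subtype.val hfz
    exact (mul_inv_eq_iff_eq_mul.mp this).symm
  exact ⟨z', hz'.1, hz'.2, hc, H.commute_other hD haw hz'.1.1 hz'.1.2.1 hc⟩

end IsClassPair

end CfsgLib.OddTrans
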