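import Cfsg.Agent.Lib.OddTrans.Basic

/-!
The two properties passed up from a simple pair to the next one: blocks with `1` are groups, and the products of
swappers of two blocks lie in a cyclic group whose order divides the size of a block.
-/

set_option autoImplicit false
set_option linter.unusedSectionVars false

namespace CfsgLib.OddTrans

open Cfsg
open CfsgLib.RootInv (mul_self inv_eq ne_one)

universe u

variable {G : Type u} [Group G] {D : Set G}

/-- Blocks with the identity are closed under products. -/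
def HasRoot (D : Set G) : Prop :=
  ∀ a ∈ D, ∀ b ∈ sameCommutingClass D a, ∀ c ∈ sameCommutingClass D a, b ≠ c → b * c ∈ sameCommutingClass D a

/-- The swappers of a member `w` and the block of an opposite `a` pairwise have odd products, all in a cyclic group
whose order divides the size of the block. -/
def HasTorus (D : Set G) : Prop :=
  ∀ a w, OddAdj D a w →
    (∀ b ∈ sameCommutingClass D a, ∀ b' ∈ sameCommutingClass D a, b ≠ b' → OddAdj D (swap b w) (swap b' w)) ∧
    ∃ c : G, orderOf c ∣ (sameCommutingClass D a).ncard ∧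
      ∀ b ∈ sameCommutingClass D a, ∀ b' ∈ sameCommutingClass D a, swap b w * swap b' w ∈ Subgroup.zpowers c

theorem self_mem_twins {a : G} (ha : a ∈ D) : a ∈ sameCommutingClass D a := ⟨ha, rfl⟩

theorem twins_eq {a b : G} (hb : b ∈ sameCommutingClass D a) :
    sameCommutingClass D b = sameCommutingClass D a := by
  ext x
  exact ⟨fun hx => ⟨hx.1, hb.2.trans hx.2⟩, fun hx => ⟨hx.1, hb.2.symm.trans hx.2⟩⟩

theorem twins_commute (hD : IsOddTranspositionSet D) {a b c : G} (hb : b ∈ sameCommutingClass D a)
    (hc : c ∈ sameCommutingClass D a) : Commute b c :=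
  commute_of_twin hD hb.1 (hc.2.symm.trans hb.2)

theorem odd_twin (hD : IsOddTranspositionSet D) {a b w : G} (h : OddAdj D a w) (hb : b ∈ sameCommutingClass D a) :
    OddAdj D b w :=
  (odd_iff hD hb.1 h.2.1).mpr fun hc => not_commute_of_odd hD h (commute_twin hD hb.2.symm h.2.1 hc.symm).symm

/-- The block of `a` with the identity, as a group. -/
def rootGroup (hD : IsOddTranspositionSet D) (hR : HasRoot D) {a : G} (ha : a ∈ D) : Subgroup G where
  carrier := sameCommutingClass D a ∪ {1}
  one_mem' := Or.inr rfl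
  mul_mem' := by
    rintro x y (hx | rfl) (hy | rfl)
    · rcases eq_or_ne x y with rfl | hne
      · exact Or.inr (mul_self hD.1 hx.1)
      · exact Or.inl (hR a ha x hx y hy hne)
    · rw [mul_one]; exact Or.inl hx
    · rw [one_mul]; exact Or.inl hy
    · exact Or.inr (mul_one 1)
  inv_mem' := by
    rintro x (hx | rfl)
    · rw [inv_eq hD.1 hx.1]; exact Or.inl hx
    · exact Or.inr inv_one

theorem mem_rootGroup {hD : IsOddTranspositionSet D} {hR : HasRoot D} {a : G} {ha : a ∈ D} {x : G} :
    x ∈ rootGroup hD hR ha ↔ x ∈ sameCommutingClass D a ∨ x = 1 := Iff.rfl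

theorem rootGroup_sq (hD : IsOddTranspositionSet D) (hR : HasRoot D) {a : G} (ha : a ∈ D) {x : G}
    (hx : x ∈ rootGroup hD hR ha) : x * x = 1 := by
  rcases mem_rootGroup.mp hx with h | rfl
  · exact mul_self hD.1 h.1
  · exact mul_one 1

theorem rootGroup_comm (hD : IsOddTranspositionSet D) (hR : HasRoot D) {a : G} (ha : a ∈ D) {x y : G}
    (hx : x ∈ rootGroup hD hR ha) (hy : y ∈ rootGroup hD hR ha) : Commute x y := by
  rcases mem_rootGroup.mp hx with h | rfl
  · rcases mem_rootGroup.mp hy with h' | rfl
    · exact twins_commute hD h h'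
    · exact Commute.one_right x
  · exact Commute.one_left y

variable [Finite G]

theorem card_rootGroup (hD : IsOddTranspositionSet D) (hR : HasRoot D) {a : G} (ha : a ∈ D) :
    Nat.card (rootGroup hD hR ha) = (sameCommutingClass D a).ncard + 1 := by
  rw [show Nat.card (rootGroup hD hR ha) = ((rootGroup hD hR ha : Subgroup G) : Set G).ncard from
    Nat.card_coe_set_eq _]
  show (sameCommutingClass D a ∪ {1}).ncard = _
  rw [Set.union_singleton, Set.ncard_insert_of_notMem (fun h => ne_one hD.1 h.1 rfl) (Set.toFinite _)]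

/-- A block has `2 ^ m - 1` members, `m ≥ 2`. -/
theorem exists_block_card (P : IsClassPair G D) (hR : HasRoot D) {a : G} (ha : a ∈ D) :
    ∃ m, 2 ≤ m ∧ (sameCommutingClass D a).ncard + 1 = 2 ^ m := by
  have h2 : IsPGroup 2 (rootGroup P.odd hR ha) := fun x => ⟨1, Subtype.ext (by
    show (x : G) ^ (2 ^ 1) = 1
    rw [pow_one, pow_two]; exact rootGroup_sq P.odd hR ha x.2)⟩
  haveI : Fact (Nat.Prime 2) := ⟨Nat.prime_two⟩
  obtain ⟨m, hm⟩ := IsPGroup.iff_card.mp h2
  rw [card_rootGroup] at hm
  refine ⟨m, ?_, hm⟩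
  obtain ⟨b, hb, hc, hab⟩ := P.exists_line ha
  have h1 : commutingMembers D a = commutingMembers D b := line_twins P.odd ha hb hc hab
  have hne : a ≠ b := fun e => ne_one P.odd.1 hab (by rw [← e, mul_self P.odd.1 ha])
  have h3 : 2 ≤ (sameCommutingClass D a).ncard := by
    rw [← Set.ncard_pair hne]
    exact Set.ncard_le_ncard (Set.insert_subset_iff.mpr ⟨self_mem_twins ha, Set.singleton_subset_iff.mpr ⟨hb, h1⟩⟩)
      (Set.toFinite _)
  by_contra hlt
  have : 2 ^ m ≤ 2 ^ 1 := Nat.pow_le_pow_right two_pos (by omega)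
  omega

end CfsgLib.OddTrans
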