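import Cfsg.Agent.Lib.OddTrans.Basic
import Cfsg.Agent.Lib.OddTrans.Root
import Cfsg.Agent.S0200

/-!
Twins force a line: a class of odd transpositions, without normal two-subgroup, generated by a block with two members
and one opposite contains a line.

For twins `a, b` and `y` with `a y a`, `b y b` not commuting, their swapper `s` is a twin of `a` and `c = a b s`
centralises `y`.  With `y` the generator `x` this gives the line.  Otherwise Baer–Suzuki yields such a `y`, and the
swapper of `x` and `c x c` leads to a contradiction.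
-/

set_option autoImplicit false
set_option linter.unusedSectionVars false
set_option linter.style.haveILetI false

namespace CfsgLib.OddTrans

open Cfsg
open CfsgLib.RootInv (mul_self inv_eq ne_one odd_symm odd_conj)

universe u

variable {G : Type u} [Group G] [Finite G] {D : Set G}

/-- An opposite lies in the group of a member and its image. -/
theorem mem_closure_flip (hD : IsOddTranspositionSet D) {w b : G} (h : OddAdj D w b) :
    b ∈ Subgroup.closure ({w, b * w * b} : Set G) := by
  obtain ⟨k, hk⟩ := h.2.2.2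
  set H := Subgroup.closure ({w, b * w * b} : Set G)
  have hw : w ∈ H := Subgroup.subset_closure (Set.mem_insert _ _)
  have h2 : (w * b) ^ 2 ∈ H := by
    rw [show (w * b) ^ 2 = w * (b * w * b) by rw [pow_two]; group]
    exact mul_mem hw (Subgroup.subset_closure (Set.mem_insert_of_mem _ rfl))
  have h3 : w * b ∈ H := by
    rw [show w * b = ((w * b) ^ 2) ^ (k + 1) by
      rw [← pow_mul, show 2 * (k + 1) = orderOf (w * b) + 1 by omega, pow_succ, pow_orderOf_eq_one, one_mul]]
    exact pow_mem h2 _
  have := mul_mem hw h3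
  rwa [← mul_assoc, mul_self hD.1 h.1, one_mul] at this

/-- A member centralising the product of two commuting members commutes with both. -/
theorem commute_of_pair (hD : IsOddTranspositionSet D) {a b w : G} (ha : a ∈ D) (hb : b ∈ D) (hne : a ≠ b)
    (hab : Commute a b) (hw : w ∈ D) (h : Commute (a * b) w) : Commute w a ∧ Commute w b :=
  ⟨(commute_or_odd hD hw ha).resolve_right fun ho => k_trick hD ha hb hne hab (odd_symm ho) h,
    (commute_or_odd hD hw hb).resolve_right fun ho => k_trick hD hb ha hne.symm hab.symm (odd_symm ho) (hab.eq ▸ h)⟩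

/-- The product of three twins is an involution or trivial. -/
theorem three_sq (hD : IsOddTranspositionSet D) {a b s : G} (hb : b ∈ sameCommutingClass D a)
    (hs : s ∈ sameCommutingClass D a) (ha : a ∈ D) : a * b * s * (a * b * s) = 1 := by
  have haa := self_mem_twins (D := D) ha
  have c1 : Commute (a * b) s := (twins_commute hD haa hs).mul_left (twins_commute hD hb hs)
  rw [← pow_two, c1.mul_pow, (twins_commute hD haa hb).mul_pow, pow_two, pow_two, pow_two, mul_self hD.1 ha,
    mul_self hD.1 hb.1, mul_self hD.1 hs.1, one_mul, one_mul]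

theorem commute_of_same (hD : IsOddTranspositionSet D) {a b w : G} (hb : b ∈ sameCommutingClass D a) (hw : w ∈ D)
    (h : Commute w a) : Commute w b := commute_twin hD hb.2 hw h

theorem ncard_cm_class (hD : IsOddTranspositionSet D) (hcl : IsRootInvolutionClass D) {a b : G} (ha : a ∈ D)
    (hb : b ∈ D) : (commutingMembers D a).ncard = (commutingMembers D b).ncard := by
  obtain ⟨g, rfl⟩ := hcl.2.2 a ha b hb
  rw [commutingMembers_conj hD, Set.ncard_image_of_injective _ fun x y e => mul_left_cancel (mul_right_cancel e)]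

/-- For twins `a`, `b` moving `y` to non-commuting members, the swapper of the images is a twin of `a` and the product
of the three centralises `y`. -/
theorem exists_third (hD : IsOddTranspositionSet D) (hcl : IsRootInvolutionClass D) {a b y : G} (ha : a ∈ D)
    (hb : b ∈ sameCommutingClass D a) (hne : a ≠ b) (hy : y ∈ D) (hbad : ¬ Commute (a * y * a) (b * y * b)) :
    ∃ s ∈ sameCommutingClass D a, OddAdj D a y ∧ Commute (a * b * s) y := by
  have haa := self_mem_twins (D := D) ha
  have ha2 := mul_self hD.1 ha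
  have hb2 := mul_self hD.1 hb.1
  have hab : Commute a b := twins_commute hD haa hb
  have hay : OddAdj D a y := (odd_iff hD ha hy).mpr fun hc => hbad <| by
    have hc' : Commute y b := commute_of_same hD hb hy hc.symm
    rw [hc.eq, mul_assoc, ha2, mul_one, mul_assoc, hc'.eq, ← mul_assoc, hb2, one_mul]
  have hmem : ∀ {v : G}, v ∈ D → v * y * v ∈ D := fun {v} hv => by
    have := hD.1.conj_mem y hy v
    rwa [inv_eq hD.1 hv] at this
  have hodd : OddAdj D (a * y * a) (b * y * b) := (odd_iff hD (hmem ha) (hmem hb.1)).mpr hbad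
  obtain ⟨s, hsdef⟩ : ∃ s, s = swap (a * y * a) (b * y * b) := ⟨_, rfl⟩
  obtain ⟨hs, hsw⟩ : s ∈ D ∧ s * (a * y * a) * s = b * y * b := hsdef ▸ swap_spec hD hodd
  have hs2 := mul_self hD.1 hs
  have hsback : s * (b * y * b) * s = a * y * a := hsdef ▸ swap_back hD hodd
  -- `s` centralises `a * b`
  have hk2 : a * b * (a * b) = 1 := by
    rw [← pow_two, hab.mul_pow, pow_two, pow_two, ha2, hb2, one_mul]
  have hki : (a * b)⁻¹ = a * b := inv_eq_of_mul_eq_one_right hk2
  have hk1 : a * b * (a * y * a) * (a * b) = b * y * b := by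
    calc a * b * (a * y * a) * (a * b) = (a * b * a) * y * (a * a) * b := by group
      _ = b * y * b := by rw [ha2, mul_one, hab.eq, mul_assoc b a a, ha2, mul_one]
  have hk3 : a * b * (b * y * b) * (a * b) = a * y * a := by
    calc a * b * (b * y * b) * (a * b) = a * (b * b) * y * (b * a * b) := by group
      _ = a * y * a := by rw [hb2, mul_one, ← hab.eq, mul_assoc a b b, hb2, mul_one]
  have hsk : Commute (a * b) s := by
    have hs' : a * b * s * (a * b) = s := by
      have hm : a * b * s * (a * b) ∈ D := by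
        have := hD.1.conj_mem s hs (a * b)
        rwa [hki] at this
      have hv : a * b * s * (a * b) ∈ Subgroup.closure ({a * y * a, b * y * b} : Set G) := by
        have hle : Subgroup.closure ({a * y * a, b * y * b} : Set G) ≤
            (Subgroup.closure ({a * y * a, b * y * b} : Set G)).comap (MulAut.conj (a * b)).toMonoidHom :=
          (Subgroup.closure_le _).mpr (by
            rintro z (rfl | rfl)
            · show a * b * (a * y * a) * (a * b)⁻¹ ∈ Subgroup.closure ({a * y * a, b * y * b} : Set G)
              rw [hki, hk1]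
              exact Subgroup.subset_closure (Set.mem_insert_of_mem _ rfl)
            · show a * b * (b * y * b) * (a * b)⁻¹ ∈ Subgroup.closure ({a * y * a, b * y * b} : Set G)
              rw [hki, hk3]
              exact Subgroup.subset_closure (Set.mem_insert _ _))
        have h : (MulAut.conj (a * b)) (swap (a * y * a) (b * y * b)) ∈
            Subgroup.closure ({a * y * a, b * y * b} : Set G) := hle (swap_mem_closure hD (a * y * a) (b * y * b))
        rwa [MulAut.conj_apply, hki, ← hsdef] at h
      refine (swap_unique hD hodd hm hv ?_).trans hsdef.symm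
      calc a * b * s * (a * b) * (a * y * a) * (a * b * s * (a * b))
          = a * b * (s * (a * b * (a * y * a) * (a * b)) * s) * (a * b) := by group
        _ = b * y * b := by rw [hk1, hsback, hk1]
    show a * b * s = s * (a * b)
    calc a * b * s = a * b * s * (a * b * (a * b)) := by rw [hk2, mul_one]
      _ = (a * b * s * (a * b)) * (a * b) := by group
      _ = s * (a * b) := by rw [hs']
  obtain ⟨hsa, hsb⟩ := commute_of_pair hD ha hb.1 hne hab hs hsk
  -- `c` centralises `a`, `b`, `s`, `y`
  obtain ⟨c, hc⟩ : ∃ c, c = a * b * s := ⟨_, rfl⟩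
  have hca : Commute c a := hc ▸ ((Commute.refl a).mul_left hab.symm).mul_left hsa
  have hcs : Commute c s := hc ▸ (hsa.symm.mul_left hsb.symm).mul_left (Commute.refl s)
  have hci : c⁻¹ = s * b * a := by
    rw [hc, mul_inv_rev, mul_inv_rev, inv_eq hD.1 hs, inv_eq hD.1 hb.1, inv_eq hD.1 ha, mul_assoc]
  have hbsa : b * (s * a) = c := by
    rw [hc, hsa.eq, ← mul_assoc, ← hab.eq]
  have hcy : Commute c y := by
    refine mul_inv_eq_iff_eq_mul.mp ?_
    rw [hci]
    calc c * y * (s * b * a) = b * (s * a) * y * (s * b * a) := by rw [hbsa]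
      _ = b * (s * a) * y * (a * (s * b)) := by
          rw [show s * b * a = a * (s * b) by rw [mul_assoc, ← hab.eq, ← mul_assoc, hsa.eq, mul_assoc]]
      _ = b * (s * (a * y * a) * s) * b := by group
      _ = (b * b) * y * (b * b) := by rw [hsw]; group
      _ = y := by rw [hb2, one_mul, mul_one]
  -- `s` is opposite to `y`
  have hsy : OddAdj D y s := (odd_iff hD hy hs).mpr fun h => by
    have h1 : Commute (a * b) y := by
      have h0 := hcy.mul_left h.symm
      rwa [show c * s = a * b by rw [hc, mul_assoc, hs2, mul_one]] at h0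
    exact not_commute_of_odd hD hay (commute_of_pair hD ha hb.1 hne hab hy h1).1.symm
  -- carry `a` to `s` inside the centraliser of `c`
  obtain ⟨g₁, hg₁, e₁⟩ := CfsgLib.RootComm.exists_conj_mem (CfsgLib.RootComm.odd2_of_root hD.1) ha hy hay.2.2.2
  obtain ⟨g₂, hg₂, e₂⟩ := CfsgLib.RootComm.exists_conj_mem (CfsgLib.RootComm.odd2_of_root hD.1) hy hs hsy.2.2.2
  have hgc : Commute c (g₂ * g₁) := by
    have hle : ∀ {p q : G}, Commute c p → Commute c q → ∀ g ∈ Subgroup.closure ({p, q} : Set G), Commute c g := by
      intro p q hp hq g hg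
      have h0 : Subgroup.closure ({p, q} : Set G) ≤ Subgroup.centralizer {c} :=
        (Subgroup.closure_le _).mpr (by
          rintro z (rfl | rfl)
          · exact Subgroup.mem_centralizer_singleton_iff.mpr hp.symm.eq
          · exact Subgroup.mem_centralizer_singleton_iff.mpr hq.symm.eq)
      exact (Subgroup.mem_centralizer_singleton_iff.mp (h0 hg)).symm
    exact (hle hcy hcs _ hg₂).mul_right (hle hca hcy _ hg₁)
  obtain ⟨g, hg⟩ : ∃ g, g = g₂ * g₁ := ⟨_, rfl⟩
  rw [← hg] at hgc
  have hga : g * a * g⁻¹ = s := by rw [hg, ← e₂, ← e₁]; group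
  refine ⟨s, ⟨hs, ?_⟩, hay, hc ▸ hcy⟩
  refine Set.eq_of_subset_of_ncard_le ?_ (ncard_cm_class hD hcl hs ha).le (Set.toFinite _)
  rintro w ⟨hw, hwa⟩
  have hwa' : Commute w a := hwa
  have hwb : Commute w b := commute_of_same hD hb hw hwa'
  obtain ⟨b', hb'⟩ : ∃ b', b' = g * b * g⁻¹ := ⟨_, rfl⟩
  obtain ⟨s', hs'⟩ : ∃ s', s' = g * s * g⁻¹ := ⟨_, rfl⟩
  have hb'D : b' ∈ D := hb' ▸ hD.1.conj_mem b hb.1 g
  have hs'D : s' ∈ D := hs' ▸ hD.1.conj_mem s hs g
  have hb's : b' ∈ sameCommutingClass D s := ⟨hb'D, by
    rw [← hga, hb', commutingMembers_conj hD, commutingMembers_conj hD, hb.2]⟩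
  have hb's' : Commute b' s' := by
    have h0 := hsb.symm.map (MulAut.conj g).toMonoidHom
    rw [hb', hs']
    exact h0
  have hss' : Commute s s' := by
    have h0 := hsa.symm.map (MulAut.conj g).toMonoidHom
    rw [← hga]
    rw [hs']
    exact h0
  have hkey : a * b = b' * s' := by
    have h0 : s * b' * s' = c := by
      rw [hb', hs']
      calc s * (g * b * g⁻¹) * (g * s * g⁻¹) = (g * a * g⁻¹) * (g * b * g⁻¹) * (g * s * g⁻¹) := by rw [hga]
        _ = g * c * g⁻¹ := by rw [hc]; group
        _ = c := by rw [← hgc.eq, mul_inv_cancel_right]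
    calc a * b = a * b * (s * s) := by rw [hs2, mul_one]
      _ = c * s := by rw [hc]; group
      _ = s * b' * s' * s := by rw [h0]
      _ = s * b' * (s' * s) := by group
      _ = s * (b' * s) * s' := by rw [← hss'.eq]; group
      _ = (s * s) * b' * s' := by rw [(twins_commute hD hb's (self_mem_twins hs)).eq]; group
      _ = _ := by rw [hs2, one_mul]
  have hne' : b' ≠ s' := fun e => hne (by
    rw [e, mul_self hD.1 hs'D] at hkey
    rw [mul_eq_one_iff_eq_inv.mp hkey, inv_eq hD.1 hb.1])
  have hwb' := (commute_of_pair hD hb'D hs'D hne' hb's' hw (hkey ▸ (hwa'.mul_right hwb).symm)).1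
  exact ⟨hw, (commute_twin hD hb's.2.symm hw hwb').eq⟩

variable (hD : IsOddTranspositionSet D) (hcl : IsRootInvolutionClass D) (hO : pCore 2 G = ⊥)
include hD hcl hO

omit hcl in
/-- Without normal two-subgroup a central element of square one is trivial. -/
theorem eq_one_of_central {c : G} (h2 : c * c = 1) (hc : ∀ g : G, g * c = c * g) : c = 1 := by
  have h : Subgroup.zpowers c ≤ pCore 2 G := by
    haveI : (Subgroup.zpowers c).Normal := ⟨fun z hz g => by
      obtain ⟨i, rfl⟩ := Subgroup.mem_zpowers_iff.mp hz
      rw [((show Commute g c from hc g).zpow_right i).eq, mul_inv_cancel_right]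
      exact Subgroup.zpow_mem_zpowers c i⟩
    refine CfsgLib.le_pCore (fun z => ⟨1, Subtype.ext ?_⟩)
    obtain ⟨i, hi⟩ := Subgroup.mem_zpowers_iff.mp z.2
    show (z : G) ^ (2 ^ 1) = 1
    rw [← hi, ← zpow_natCast, ← zpow_mul, mul_comm, zpow_mul, zpow_natCast, pow_one, pow_two, h2, one_zpow]
  exact Subgroup.mem_bot.mp (hO ▸ h (Subgroup.mem_zpowers c))

/-- A block with two members and an opposite generating everything force a line. -/
theorem exists_line_of_twins {d x e : G} (hdx : OddAdj D d x) (he : e ∈ sameCommutingClass D d) (hne : d ≠ e)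
    (hgen : Subgroup.closure (sameCommutingClass D d ∪ {x}) = ⊤) : ∃ a ∈ D, ∃ b ∈ D, Commute a b ∧ a * b ∈ D := by
  by_contra hno
  push Not at hno
  have hd := hdx.1
  have hdd := self_mem_twins (D := D) hd
  have hcen : ∀ c : G, c * c = 1 → (∀ b ∈ sameCommutingClass D d, Commute c b) → Commute c x → c = 1 := by
    intro c h2 hc hcx
    refine eq_one_of_central hD hO h2 fun g => ?_
    have hle : Subgroup.closure (sameCommutingClass D d ∪ {x}) ≤ Subgroup.centralizer {c} :=
      (Subgroup.closure_le _).mpr (by
        rintro z (hz | rfl)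
        · exact Subgroup.mem_centralizer_singleton_iff.mpr (hc z hz).symm.eq
        · exact Subgroup.mem_centralizer_singleton_iff.mpr hcx.symm.eq)
    rw [hgen] at hle
    exact Subgroup.mem_centralizer_singleton_iff.mp (hle (Subgroup.mem_top g))
  have hcomm3 : ∀ {a b s p : G}, a ∈ sameCommutingClass D d → b ∈ sameCommutingClass D d →
      s ∈ sameCommutingClass D d → p ∈ sameCommutingClass D d → Commute (a * b * s) p := fun ha hb hs hp =>
    ((twins_commute hD ha hp).mul_left (twins_commute hD hb hp)).mul_left (twins_commute hD hs hp)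
  -- all pairs of twins move `x` to commuting members
  have hgood : ∀ a ∈ sameCommutingClass D d, ∀ b ∈ sameCommutingClass D d, a ≠ b →
      Commute (a * x * a) (b * x * b) := by
    intro a ha b hb hab
    by_contra hbad
    have hb' : b ∈ sameCommutingClass D a := by rwa [twins_eq ha]
    obtain ⟨s, hs, -, hsx⟩ := exists_third hD hcl ha.1 hb' hab hdx.2.1 hbad
    have hs' : s ∈ sameCommutingClass D d := by rwa [twins_eq ha] at hs
    have h1 := hcen _ (three_sq hD hb' hs ha.1) (fun p hp => hcomm3 ha hb hs' hp) hsx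
    refine hno a ha.1 b hb.1 (twins_commute hD ha hb) ?_
    rw [mul_eq_one_iff_eq_inv.mp h1, inv_eq hD.1 hs.1]
    exact hs.1
  -- a member moved by `d`, `e` to non-commuting members
  have hde : Commute d e := twins_commute hD hdd he
  have hk : orderOf (d * e) = 2 := orderOf_eq_prime (by
    rw [hde.mul_pow, pow_two, pow_two, mul_self hD.1 hd, mul_self hD.1 he.1, one_mul]) fun h => hne (by
    rw [mul_eq_one_iff_eq_inv.mp h, inv_eq hD.1 he.1])
  obtain ⟨r, hr1, hrodd, hrinv⟩ := Cfsg.Agent.S0200.result (d * e) hk fun N hN h2 hmem => by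
    haveI := hN
    have := Subgroup.mem_bot.mp (hO ▸ CfsgLib.le_pCore h2 hmem)
    rw [this, orderOf_one] at hk
    omega
  obtain ⟨y, hy⟩ : ∃ y, y = r * d * r⁻¹ := ⟨_, rfl⟩
  have hyD : y ∈ D := hy ▸ hD.1.conj_mem d hd r
  have hbad : ¬ Commute (d * y * d) (e * y * e) := fun hc => by
    have hk2 : d * e * (d * e) = 1 := by rw [← pow_two, ← hk, pow_orderOf_eq_one]
    have hki : (d * e)⁻¹ = d * e := inv_eq_of_mul_eq_one_right hk2
    have h1 : Commute (r * d * r⁻¹) (r⁻¹ * d * r) := by
      have hkey : d * e * y * (d * e) = r⁻¹ * d * r := by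
        have hkd : d * e * d * (d * e)⁻¹ = d := by
          rw [((Commute.refl d).mul_left hde.symm).eq, mul_inv_cancel_right]
        calc d * e * y * (d * e) = d * e * (r * d * r⁻¹) * (d * e)⁻¹ := by rw [hy, hki]
          _ = (d * e * r * (d * e)⁻¹) * (d * e * d * (d * e)⁻¹) * (d * e * r * (d * e)⁻¹)⁻¹ := by group
          _ = r⁻¹ * d * r := by rw [hrinv, hkd, inv_inv]
      have h0 := hc.map (MulAut.conj d).toMonoidHom
      simp only [MulEquiv.coe_toMonoidHom, MulAut.conj_apply, inv_eq hD.1 hd] at h0
      rw [show d * (d * y * d) * d = (d * d) * y * (d * d) by group, mul_self hD.1 hd, one_mul, mul_one,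
        show d * (e * y * e) * d = d * e * y * (e * d) by group, ← hde.eq, hkey, hy] at h0
      exact h0
    obtain ⟨D₁, hD₁⟩ : ∃ D₁, D₁ = r * r * d * (r * r)⁻¹ := ⟨_, rfl⟩
    have h2 : Commute D₁ d := by
      have h0 := h1.map (MulAut.conj r).toMonoidHom
      simp only [MulEquiv.coe_toMonoidHom, MulAut.conj_apply] at h0
      rwa [show r * (r * d * r⁻¹) * r⁻¹ = D₁ by rw [hD₁]; group, show r * (r⁻¹ * d * r) * r⁻¹ = d by group] at h0
    have hD₁D : D₁ ∈ D := hD₁ ▸ hD.1.conj_mem d hd _
    have hE₁ : r * r * e * (r * r)⁻¹ ∈ sameCommutingClass D D₁ := ⟨hD.1.conj_mem e he.1 _, by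
      rw [hD₁, commutingMembers_conj hD, commutingMembers_conj hD, he.2]⟩
    have h3 : Commute D₁ e := commute_of_same hD he hD₁D h2
    have h4 : Commute d (r * r * e * (r * r)⁻¹) := commute_of_same hD hE₁ hd h2.symm
    have h5 : Commute e (r * r * e * (r * r)⁻¹) := commute_of_same hD hE₁ he.1 h3.symm
    have h6 : Commute (d * e) (r * r * (d * e) * (r * r)⁻¹) := by
      rw [show r * r * (d * e) * (r * r)⁻¹ = D₁ * (r * r * e * (r * r)⁻¹) by rw [hD₁]; group]
      exact (h2.symm.mul_right h4).mul_left (h3.symm.mul_right h5)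
    have hinv2 : d * e * (r * r) * (d * e)⁻¹ = (r * r)⁻¹ := by
      rw [show d * e * (r * r) * (d * e)⁻¹ = (d * e * r * (d * e)⁻¹) * (d * e * r * (d * e)⁻¹) by group, hrinv,
        mul_inv_rev]
    have h7 : r * r * (d * e) * (r * r)⁻¹ = r * r * (r * r) * (d * e) := by
      calc r * r * (d * e) * (r * r)⁻¹ = r * r * (d * e) * (d * e * (r * r) * (d * e)⁻¹) := by rw [hinv2]
        _ = r * r * (d * e * (d * e)) * (r * r) * (d * e)⁻¹ := by group
        _ = _ := by rw [hk2, mul_one, hki]
    rw [h7] at h6
    have h8 : d * e * (r * r * (r * r)) * (d * e)⁻¹ = r * r * (r * r) := by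
      rw [hki]
      calc d * e * (r * r * (r * r)) * (d * e) = d * e * (r * r * (r * r) * (d * e)) := by group
        _ = r * r * (r * r) * (d * e) * (d * e) := by rw [h6.eq]
        _ = r * r * (r * r) := by rw [mul_assoc, hk2, mul_one]
    rw [show d * e * (r * r * (r * r)) * (d * e)⁻¹ =
      (d * e * (r * r) * (d * e)⁻¹) * (d * e * (r * r) * (d * e)⁻¹) by group, hinv2, ← mul_inv_rev] at h8
    have h9 : r ^ 8 = 1 := by
      have h0 : r * r * (r * r) * (r * r * (r * r)) = 1 := by
        nth_rewrite 1 [← h8]
        exact inv_mul_cancel _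
      rw [← h0]
      simp only [pow_succ, pow_zero, one_mul, mul_assoc]
    exact hr1 (orderOf_eq_one_iff.mp (((Nat.coprime_two_right.mpr hrodd).pow_right 3).eq_one_of_dvd
      ((orderOf_dvd_of_pow_eq_one h9).trans (by norm_num))))
  obtain ⟨s, hs, hdy, hcy⟩ := exists_third hD hcl hd he hne hyD hbad
  obtain ⟨c, hc⟩ : ∃ c, c = d * e * s := ⟨_, rfl⟩
  rw [← hc] at hcy
  have hc2 : c * c = 1 := hc ▸ three_sq hD he hs hd
  have hci : c⁻¹ = c := inv_eq_of_mul_eq_one_right hc2
  have hcd : ∀ p ∈ sameCommutingClass D d, Commute c p := fun p hp => hc ▸ hcomm3 hdd he hs hp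
  have hds : d ≠ s := fun e' => by
    apply not_commute_of_odd hD hdy
    have h0 : c = e := by
      rw [hc, ← e', hde.eq, mul_assoc, mul_self hD.1 hd, mul_one]
    exact (commute_of_same hD (show d ∈ sameCommutingClass D e from ⟨hd, he.2.symm⟩) hyD (h0 ▸ hcy).symm).symm
  have hes : e ≠ s := fun e' => by
    apply not_commute_of_odd hD hdy
    have h0 : c = d := by rw [hc, ← e', mul_assoc, mul_self hD.1 he.1, mul_one]
    exact h0 ▸ hcy
  have hx := hdx.2.1
  have hcD : c * x * c ∈ D := by
    have := hD.1.conj_mem x hx c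
    rwa [hci] at this
  -- `c` moves `x` to an opposite
  have hxc : OddAdj D x (c * x * c) := by
    refine (odd_iff hD hx hcD).mpr fun hcom => ?_
    have hse : Commute s e := twins_commute hD hs he
    have hsd : Commute s d := twins_commute hD hs hdd
    have hd2 := mul_self hD.1 hd
    have he2 := mul_self hD.1 he.1
    have hs2 := mul_self hD.1 hs.1
    obtain ⟨a, ha⟩ : ∃ a, a = d * e * x * (d * e) := ⟨_, rfl⟩
    have hdei : (d * e)⁻¹ = d * e := inv_eq_of_mul_eq_one_right (by rw [← pow_two, ← hk, pow_orderOf_eq_one])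
    have haD : a ∈ D := by
      have := hD.1.conj_mem x hx (d * e)
      rw [hdei] at this
      exact ha ▸ this
    have hea : e * a * e = d * x * d := by
      rw [ha]
      calc e * (d * e * x * (d * e)) * e = (e * d * e) * x * d * (e * e) := by group
        _ = d * x * d := by rw [he2, mul_one, ← hde.eq, mul_assoc d e e, he2, mul_one]
    have hxe : ¬ Commute x e := fun h =>
      not_commute_of_odd hD hdx (commute_of_same hD (show d ∈ sameCommutingClass D e from ⟨hd, he.2.symm⟩) hx h).symm
    have hae : OddAdj D a e := (odd_iff hD haD he.1).mpr fun h => hxe <| by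
      have h0 := h.map (MulAut.conj (d * e)).toMonoidHom
      simp only [MulEquiv.coe_toMonoidHom, MulAut.conj_apply, hdei] at h0
      rwa [show d * e * a * (d * e) = x by
          rw [ha]
          calc d * e * (d * e * x * (d * e)) * (d * e) = (d * e * (d * e)) * x * (d * e * (d * e)) := by group
            _ = x := by rw [show d * e * (d * e) = 1 by rw [← pow_two, ← hk, pow_orderOf_eq_one], one_mul, mul_one],
        show d * e * e * (d * e) = e by rw [mul_assoc d e e, he2, mul_one, ← mul_assoc, hd2, one_mul]] at h0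
    have hma : Commute (s * x * s) a := by
      have h0 := hcom.map (MulAut.conj s).toMonoidHom
      simp only [MulEquiv.coe_toMonoidHom, MulAut.conj_apply, inv_eq hD.1 hs.1] at h0
      have h1 : Commute (d * e) s := hsd.symm.mul_left hse.symm
      have hsc : s * c = d * e := by rw [hc, h1.eq, ← mul_assoc, hs2, one_mul]
      have hcs : c * s = d * e := by rw [hc, mul_assoc, hs2, mul_one]
      rwa [show s * (c * x * c) * s = (s * c) * x * (c * s) by group, hsc, hcs, ← ha] at h0
    have hmp : Commute (s * x * s) (e * a * e) := by rw [hea]; exact (hgood d hdd s hs hds).symm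
    have hle : Subgroup.closure ({a, e * a * e} : Set G) ≤ Subgroup.centralizer {s * x * s} :=
      (Subgroup.closure_le _).mpr (by
        rintro z (rfl | rfl)
        · exact Subgroup.mem_centralizer_singleton_iff.mpr hma.symm.eq
        · exact Subgroup.mem_centralizer_singleton_iff.mpr hmp.symm.eq)
    have h1 : Commute e (s * x * s) := Subgroup.mem_centralizer_singleton_iff.mp (hle (mem_closure_flip hD hae))
    have h2 := h1.map (MulAut.conj s).toMonoidHom
    simp only [MulEquiv.coe_toMonoidHom, MulAut.conj_apply, inv_eq hD.1 hs.1] at h2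
    rw [show s * (s * x * s) * s = (s * s) * x * (s * s) by group, hs2, one_mul, mul_one, hse.eq, mul_assoc, hs2,
      mul_one] at h2
    exact hxe h2.symm
  -- the swapper
  obtain ⟨σ, hσ⟩ : ∃ σ, σ = swap x (c * x * c) := ⟨_, rfl⟩
  obtain ⟨hσD, hσx⟩ : σ ∈ D ∧ σ * x * σ = c * x * c := hσ ▸ swap_spec hD hxc
  have hσ2 := mul_self hD.1 hσD
  have hσback : σ * (c * x * c) * σ = x := hσ ▸ swap_back hD hxc
  have hσc : Commute c σ := by
    have hm : c * σ * c ∈ D := by
      have := hD.1.conj_mem σ hσD c
      rwa [hci] at this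
    have hv : c * σ * c ∈ Subgroup.closure ({x, c * x * c} : Set G) := by
      have hle : Subgroup.closure ({x, c * x * c} : Set G) ≤
          (Subgroup.closure ({x, c * x * c} : Set G)).comap (MulAut.conj c).toMonoidHom :=
        (Subgroup.closure_le _).mpr (by
          rintro z (rfl | rfl)
          · show c * z * c⁻¹ ∈ Subgroup.closure ({z, c * z * c} : Set G)
            rw [hci]
            exact Subgroup.subset_closure (Set.mem_insert_of_mem _ rfl)
          · show c * (c * x * c) * c⁻¹ ∈ Subgroup.closure ({x, c * x * c} : Set G)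
            rw [hci, show c * (c * x * c) * c = (c * c) * x * (c * c) by group, hc2, one_mul, mul_one]
            exact Subgroup.subset_closure (Set.mem_insert _ _))
      have h : (MulAut.conj c) (swap x (c * x * c)) ∈ Subgroup.closure ({x, c * x * c} : Set G) :=
        hle (swap_mem_closure hD x (c * x * c))
      rwa [MulAut.conj_apply, hci, ← hσ] at h
    have h0 : c * σ * c = σ := (swap_unique hD hxc hm hv (by
      calc c * σ * c * x * (c * σ * c) = c * (σ * (c * x * c) * σ) * c := by group
        _ = c * x * c := by rw [hσback])).trans hσ.symm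
    calc c * σ = c * σ * (c * c) := by rw [hc2, mul_one]
      _ = c * σ * c * c := by group
      _ = σ * c := by rw [h0]
  have hcσx : Commute (c * σ) x := by
    refine mul_inv_eq_iff_eq_mul.mp ?_
    rw [mul_inv_rev, inv_eq hD.1 hσD, hci]
    calc c * σ * x * (σ * c) = c * (σ * x * σ) * c := by group
      _ = (c * c) * x * (c * c) := by rw [hσx]; group
      _ = x := by rw [hc2, one_mul, mul_one]
  by_cases hσd : Commute σ d
  · -- `c σ` is central
    have h1 : c * σ = 1 := by
      refine hcen _ ?_ (fun p hp => (hcd p hp).mul_left (commute_of_same hD hp hσD hσd)) hcσx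
      rw [← pow_two, hσc.mul_pow, pow_two, pow_two, hc2, hσ2, one_mul]
    have hcσ : c = σ := by rw [mul_eq_one_iff_eq_inv.mp h1, inv_eq hD.1 hσD]
    have hsub : commutingMembers D d ⊆ commutingMembers D c := by
      rintro w ⟨hw, hwd⟩
      refine ⟨hw, ?_⟩
      rw [hc]
      exact (((show Commute w d from hwd).mul_right (commute_of_same hD he hw hwd)).mul_right
        (commute_of_same hD hs hw hwd)).eq
    have heq := Set.eq_of_subset_of_ncard_le hsub (ncard_cm_class hD hcl (hcσ ▸ hσD) hd).le (Set.toFinite _)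
    have hy' : y ∈ commutingMembers D d := heq ▸ ⟨hyD, hcy.symm.eq⟩
    exact not_commute_of_odd hD hdy (show Commute y d from hy'.2).symm
  · obtain ⟨g, hg, hgd⟩ := CfsgLib.RootComm.exists_conj_mem (CfsgLib.RootComm.odd2_of_root hD.1) hd hσD
      (odd_symm ((odd_iff hD hσD hd).mpr hσd)).2.2.2
    have hgc : Commute c g := by
      have hle : Subgroup.closure ({d, σ} : Set G) ≤ Subgroup.centralizer {c} :=
        (Subgroup.closure_le _).mpr (by
          rintro z (rfl | rfl)
          · exact Subgroup.mem_centralizer_singleton_iff.mpr (hcd _ hdd).symm.eq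
          · exact Subgroup.mem_centralizer_singleton_iff.mpr hσc.symm.eq)
      exact (Subgroup.mem_centralizer_singleton_iff.mp (hle hg)).symm
    obtain ⟨e', he'⟩ : ∃ e', e' = g * e * g⁻¹ := ⟨_, rfl⟩
    obtain ⟨s', hs'⟩ : ∃ s', s' = g * s * g⁻¹ := ⟨_, rfl⟩
    have htw : ∀ {p : G}, p ∈ sameCommutingClass D d → g * p * g⁻¹ ∈ sameCommutingClass D σ := fun {p} hp =>
      ⟨hD.1.conj_mem p hp.1 g, by rw [← hgd, commutingMembers_conj hD, commutingMembers_conj hD, hp.2]⟩
    have he's : e' ∈ sameCommutingClass D σ := he' ▸ htw he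
    have hs's : s' ∈ sameCommutingClass D σ := hs' ▸ htw hs
    have hce : c * σ = e' * s' := by
      have h0 : σ * e' * s' = c := by
        rw [he', hs']
        calc σ * (g * e * g⁻¹) * (g * s * g⁻¹) = (g * d * g⁻¹) * (g * e * g⁻¹) * (g * s * g⁻¹) := by rw [hgd]
          _ = g * c * g⁻¹ := by rw [hc]; group
          _ = c := by rw [← hgc.eq, mul_inv_cancel_right]
      calc c * σ = σ * c := hσc.eq
        _ = σ * (σ * e' * s') := by rw [h0]
        _ = (σ * σ) * e' * s' := by group
        _ = _ := by rw [hσ2, one_mul]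
    have hne' : e' ≠ s' := fun h => hes (by
      rw [he', hs'] at h
      exact mul_left_cancel (mul_right_cancel h))
    have hxe' := (commute_of_pair hD he's.1 hs's.1 hne' (twins_commute hD he's hs's) hx (hce ▸ hcσx)).1
    exact not_commute_of_odd hD (hσ ▸ swap_odd hD hxc : OddAdj D σ x)
      (commute_twin hD he's.2.symm hx hxe').symm

end CfsgLib.OddTrans
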