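import Cfsg.Agent.Lib.OddTrans.L2
import Cfsg.Agent.Lib.OddTrans.Twins
import Cfsg.Agent.Lib.OddTrans.Cover
import Cfsg.Agent.Lib.DihedralShape
import Cfsg.Agent.Lib.ZJ.Complement

/-!
A block and an opposite member, modulo the largest normal two-subgroup: `L₂(q)`, `Sz(q)` or a dihedral group.
-/

set_option autoImplicit false
set_option linter.unusedSectionVars false
set_option linter.style.haveILetI false

namespace CfsgLib.OddTrans

open Cfsg MulAction Relation CfsgLib.RankOnePoint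
open CfsgLib.RootInv (mul_self inv_eq ne_one odd_symm odd_conj)

universe u

/-- The three conclusions. -/
def BlockShape (Y : Type u) [Group Y] : Prop :=
  (∃ (F : Type) (_ : Field F) (_ : Fintype F), CharP F 2 ∧ 4 ≤ Fintype.card F ∧
      Nonempty (Y ≃* Matrix.ProjectiveSpecialLinearGroup (Fin 2) F)) ∨
    Cfsg.Lie.IsoSuzuki Y ∨ ∃ n : ℕ, Nonempty (Y ≃* DihedralGroup n)

/-- The rank one family with `p = q²` is a Suzuki group, with cyclic odd Sylow subgroups. -/
theorem sz_of_fam {X : Type u} [Group X] [Finite X] (hX : Fam X) {m p e : ℕ} (hf : Facts X m p e)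
    (hp : p = (2 ^ m) ^ 2) : Cfsg.Lie.IsoSuzuki X ∧ OddSylowCyclic X := by
  haveI : Fact (Nat.Prime 2) := ⟨Nat.prime_two⟩
  obtain ⟨hs, hna, hTI⟩ := hX.facts
  haveI := hs
  obtain ⟨S⟩ : Nonempty (Sylow 2 X) := inferInstance
  have key : ∀ {Y : Type} [Group Y] [Finite Y] (E : X ≃* Y) {T : Sylow 2 Y} {m' p' e' : ℕ},
      Pre T m' p' e' → p' = p ∧ 2 ^ m' = 2 ^ m := by
    intro Y _ _ E T m' p' e' P
    obtain ⟨φ, hφ⟩ := exists_equiv_sylow E S T
    refine ⟨?_, ?_⟩
    · rw [← hf.card_sylow S, ← P.card_T]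
      exact (Nat.card_congr (φ.toEquiv.subtypeEquiv fun x => hφ x)).symm
    · rw [← hf.card_sq_one S, ← P.card_sq]
      refine (Nat.card_congr (φ.toEquiv.subtypeEquiv fun x => ?_)).symm
      show _ ↔ φ x ∈ (T : Subgroup Y) ∧ φ x * φ x = 1
      rw [← hφ, ← map_mul, MulEquiv.map_eq_one_iff]
  have h4 : 4 ≤ 2 ^ m := le_trans (by norm_num) (Nat.pow_le_pow_right two_pos hf.two_le)
  obtain ⟨F, iF, iFF, n, hF, hn, h⟩ := hX
  rcases h with ⟨⟨E⟩⟩ | ⟨hodd, ⟨E⟩⟩ | ⟨K, iK, iKF, hK, ⟨E⟩⟩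
  · obtain ⟨E'⟩ := CfsgLib.SmallSylow.sl_mulEquiv_psl hF
    obtain ⟨T, P⟩ := exists_pre_sl hn hF
    obtain ⟨h1, h2⟩ := key (E.trans E'.symm) P
    exfalso
    rw [h2, hp, sq] at h1
    nlinarith
  · obtain ⟨r, rfl⟩ := hodd
    have hr : 1 ≤ r := by omega
    rw [show (2 * r + 1 + 1) / 2 = r + 1 by omega] at E
    exact ⟨⟨F, iF, iFF, r, hr, hF, ⟨E⟩⟩,
      oddSylowCyclic_congr (E.trans (CfsgLib.Suzuki.lieEquiv hF hr).symm) (oddSylowCyclic_sz hr hF)⟩
  · obtain ⟨-, cj, iC, hq, ⟨E'⟩⟩ := CfsgLib.BinaryCoset.ti_psu hn hK E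
    haveI := iC
    obtain ⟨ee, T, -, P⟩ := exists_pre_psu cj hq
    obtain ⟨h1, h2⟩ := key E' P
    exfalso
    rw [h2, hp] at h1
    have : (2 ^ m) ^ 2 < (2 ^ m) ^ 3 := Nat.pow_lt_pow_right (by omega) (by norm_num)
    rw [h1] at this
    exact lt_irrefl _ this

variable {G : Type u} [Group G] [Finite G] {D : Set G}

/-- A class with a line, generated by a block and an opposite, without normal two-subgroup. -/
theorem shape_of_line (hD : IsOddTranspositionSet D) (hcl : IsRootInvolutionClass D) (hO : pCore 2 G = ⊥)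
    (hline : ∃ a ∈ D, ∃ b ∈ D, Commute a b ∧ a * b ∈ D) {d x : G} (hdx : OddAdj D d x)
    (hgen : Subgroup.closure (sameCommutingClass D d ∪ {x}) = ⊤) : BlockShape G := by
  classical
  have hS : IsSub D D :=
    ⟨le_rfl, fun s _ t ht => hD.1.conj_mem t ht s, hline, oddConnected_of_class hD hcl hdx⟩
  have P := res_classPair hD hS
  haveI := P.simple
  have hall : ∀ g : G, g ∈ Subgroup.closure D := fun g => hD.1.generates ▸ Subgroup.mem_top g
  have hd := hdx.1
  have hdI : res D d ∈ img D := ⟨d, hd, rfl⟩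
  have hodd := odd_res hD hS hd hdx.2.1 hdx
  have hsub : res D '' sameCommutingClass D d ⊆ sameCommutingClass (img D) (res D d) := by
    rintro _ ⟨b, hb, rfl⟩
    exact ⟨⟨b, hb.1, rfl⟩, (res_cm_eq_iff hD hS hd hb.1).mpr fun o ho =>
      ⟨fun h => commute_twin hD hb.2 ho h, fun h => commute_twin hD hb.2.symm ho h⟩⟩
  have htop : Subgroup.closure (sameCommutingClass (img D) (res D d) ∪ {res D x}) = ⊤ := by
    rw [eq_top_iff]
    rintro r -
    obtain ⟨g, -, rfl⟩ := res_surjective r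
    have hg : g ∈ Subgroup.closure (sameCommutingClass D d ∪ {x}) := hgen ▸ Subgroup.mem_top g
    induction hg using Subgroup.closure_induction with
    | mem y hy =>
      rcases hy with hy | rfl
      · exact Subgroup.subset_closure (Or.inl (hsub ⟨y, hy, rfl⟩))
      · exact Subgroup.subset_closure (Or.inr rfl)
    | one => rw [res_one]; exact one_mem _
    | mul y z _ _ h1 h2 => rw [res_mul (hall y) (hall z)]; exact mul_mem h1 h2
    | inv y _ h1 => rw [res_inv (hall y)]; exact inv_mem h1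
  have hnc : ¬ IsConnectedSet (CommAdj (img D)) (img D) := fun hc => by
    obtain ⟨Y, hY1, hY2⟩ := (P.rigid hc).good _ _ hodd
    have hle : Subgroup.closure (sameCommutingClass (img D) (res D d) ∪ {res D x}) ≤ Subgroup.centralizer {Y} :=
      (Subgroup.closure_le _).mpr (by
        rintro z (hz | rfl)
        · exact Subgroup.mem_centralizer_singleton_iff.mpr (commute_twin P.odd hz.2 hY1.1 hY1.2.1).symm.eq
        · exact Subgroup.mem_centralizer_singleton_iff.mpr hY2.2.1.symm.eq)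
    rw [htop] at hle
    have h : Y ∈ Subgroup.center (Res D) :=
      Subgroup.mem_center_iff.mpr fun g => Subgroup.mem_centralizer_singleton_iff.mp (hle (Subgroup.mem_top g))
    rw [P.center_eq_bot, Subgroup.mem_bot] at h
    exact ne_one P.odd.1 hY1.1 h
  obtain ⟨L, hL⟩ := CfsgLib.RootComm.stronglyEmbedded (CfsgLib.RootComm.odd2_of_root P.odd.1) P.odd.1.generates hnc
    CfsgLib.Bender.Q.theoremQ
  have hfam := fam_of_stronglyEmbedded hL
  obtain ⟨m, p, e, R⟩ := exists_rankOne P hnc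
  -- the map to the simple pair
  let φ : G →* Res D :=
    { toFun := res D
      map_one' := res_one
      map_mul' := fun y z => res_mul (hall y) (hall z) }
  have hφs : Function.Surjective φ := fun r => let ⟨g, _, hg⟩ := res_surjective r; ⟨g, hg⟩
  have hker : ∀ z : G, φ z = 1 → ∀ g : G, g * z = z * g := by
    intro z hz g
    have h1 : (⟨z, hall z⟩ : Subgroup.closure D) ∈ twoZCore (Subgroup.closure D) :=
      (QuotientGroup.eq_one_iff _).mp ((res_mk (hall z)).symm.trans hz)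
    rw [twoZCore, Subgroup.mem_comap, Subgroup.mem_center_iff] at h1
    have h2 := h1 (QuotientGroup.mk' _ ⟨g, hall g⟩)
    rw [← map_mul, ← map_mul] at h2
    have h3 := QuotientGroup.eq.mp h2
    have hbot : (pCore 2 (Subgroup.closure D)).map (Subgroup.closure D).subtype ≤ (⊥ : Subgroup G) := by
      rw [← hO]
      haveI : (pCore 2 (Subgroup.closure D)).Normal := Subgroup.sSup_normal _ (fun _ h => h.1)
      haveI : ((pCore 2 (Subgroup.closure D)).map (Subgroup.closure D).subtype).Normal :=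
        Subgroup.Normal.map inferInstance _ fun y => ⟨⟨y, hall y⟩, rfl⟩
      exact CfsgLib.le_pCore ((CfsgLib.isPGroup_pCore 2).map _)
    have h4 := Subgroup.mem_bot.mp (hbot ⟨_, h3, rfl⟩)
    have h5 : (g * z)⁻¹ * (z * g) = 1 := h4
    exact inv_mul_eq_one.mp h5
  have hiso : OddSylowCyclic (Res D) → Function.Bijective φ := by
    intro hcyc
    refine ⟨(injective_iff_map_eq_one φ).mpr fun z hz => ?_, hφs⟩
    have h2 : IsPGroup 2 φ.ker := by
      haveI : Fact (Nat.Prime 2) := ⟨Nat.prime_two⟩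
      rw [IsPGroup.iff_card]
      refine ⟨_, Nat.eq_prime_pow_of_unique_prime_dvd Nat.card_pos.ne' fun {q} hq hdvd => ?_⟩
      by_contra hne
      exact not_dvd_ker φ hker hD.1.generates (fun s hs => mul_self hD.1 hs) hcyc hq hne hdvd
    have := (hO ▸ CfsgLib.le_pCore h2) (show z ∈ φ.ker from hz)
    exact Subgroup.mem_bot.mp this
  have hmem : res D d ∈ img D := hdI
  by_cases hp : p = (2 ^ m) ^ 2
  · obtain ⟨⟨F, iF, iFF, r, hr, hF, ⟨E⟩⟩, hcyc⟩ := sz_of_fam hfam R.facts hp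
    exact Or.inr (Or.inl ⟨F, iF, iFF, r, hr, hF, ⟨(MulEquiv.ofBijective φ (hiso hcyc)).trans E⟩⟩)
  · obtain ⟨F, iF, iFF, hF, ⟨E⟩⟩ := P.block_psl R.hasRoot R.hasTorus (R.hasTriangle hp) hodd
    have h4 := R.facts.q_four
    rw [R.ncard_twins hdI, Nat.sub_add_cancel (by omega)] at hF
    let E' : Res D ≃* Matrix.ProjectiveSpecialLinearGroup (Fin 2) F :=
      (Subgroup.topEquiv.symm.trans (MulEquiv.subgroupCongr htop.symm)).trans E
    exact Or.inl ⟨F, iF, iFF, CfsgLib.BinaryCoset.charP_two hF, hF ▸ h4,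
      ⟨(MulEquiv.ofBijective φ (hiso (oddSylowCyclic_congr E' (oddSylowCyclic_psl hF)))).trans E'⟩⟩

/-- A block and an opposite, modulo the largest normal two-subgroup. -/
theorem shape_of_block (hD : IsOddTranspositionSet D) (hcl : IsRootInvolutionClass D) (hO : pCore 2 G = ⊥)
    {d x : G} (hdx : OddAdj D d x) {E : Set G} (hE : E ⊆ sameCommutingClass D d) (hdE : d ∈ E)
    (hgen : Subgroup.closure (E ∪ {x}) = ⊤) : BlockShape G := by
  classical
  by_cases h : ∃ e ∈ E, d ≠ e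
  · obtain ⟨e, he, hne⟩ := h
    have hgen' : Subgroup.closure (sameCommutingClass D d ∪ {x}) = ⊤ :=
      top_le_iff.mp (hgen ▸ Subgroup.closure_mono (Set.union_subset_union_left _ hE))
    exact shape_of_line hD hcl hO (exists_line_of_twins hD hcl hO hdx (hE he) hne hgen') hdx hgen'
  · push Not at h
    refine Or.inr (Or.inr ⟨orderOf (d * x), ?_⟩)
    have hd2 := mul_self hD.1 hdx.1
    have hx2 := mul_self hD.1 hdx.2.1
    have hnot : d ∉ Subgroup.zpowers (d * x) := fun hm => by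
      have h2 : orderOf d ∣ orderOf (d * x) := orderOf_dvd_of_mem_zpowers hm
      rw [hD.1.orderOf_eq d hdx.1] at h2
      obtain ⟨k, hk⟩ := hdx.2.2.2
      omega
    have hEeq : E = {d} := Set.eq_singleton_iff_unique_mem.mpr ⟨hdE, fun y hy => (h y hy).symm⟩
    refine CfsgLib.DihedralShape.equiv_dihedral rfl ?_ hd2 hnot ?_
    · have huniv : (Set.univ : Set G) =
          (Subgroup.zpowers (d * x) : Set G) ∪ (fun g => g * d) '' (Subgroup.zpowers (d * x) : Set G) := by
        refine (Set.eq_univ_of_forall fun g => ?_).symm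
        have hg : g ∈ Subgroup.closure ({d, x} : Set G) := by
          rw [← Set.singleton_union, ← hEeq, hgen]
          exact Subgroup.mem_top g
        obtain ⟨i, rfl | rfl⟩ := closure_cases hD hd2 hx2 hg
        · exact Or.inl (Subgroup.zpow_mem_zpowers _ i)
        · exact Or.inr ⟨_, Subgroup.zpow_mem_zpowers _ i, rfl⟩
      rw [← Set.ncard_univ, huniv, Set.ncard_union_eq, Set.ncard_image_of_injective _ (mul_left_injective d),
        show (Subgroup.zpowers (d * x) : Set G).ncard = orderOf (d * x) by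
          rw [← Nat.card_zpowers, ← Nat.card_coe_set_eq]; rfl, two_mul]
      rw [Set.disjoint_left]
      rintro g hg ⟨g', hg', rfl⟩
      refine hnot ?_
      have := mul_mem (inv_mem hg') hg
      rwa [inv_mul_cancel_left] at this
    · rw [inv_eq hD.1 hdx.1, mul_inv_rev, inv_eq hD.1 hdx.2.1, inv_eq hD.1 hdx.1, ← mul_assoc d d x, hd2, one_mul]

/-- The quotient of the group of a block and an opposite by its largest normal two-subgroup. -/
theorem block_quotient (hD : IsOddTranspositionSet D) {d x : G} (hdx : OddAdj D d x) :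
    BlockShape (↥(Subgroup.closure (sameCommutingClass D d ∪ {x})) ⧸
      pCore 2 ↥(Subgroup.closure (sameCommutingClass D d ∪ {x}))) := by
  classical
  set H := Subgroup.closure (sameCommutingClass D d ∪ {x}) with hH
  haveI : (pCore 2 H).Normal := Subgroup.sSup_normal _ (fun _ h => h.1)
  set π := QuotientGroup.mk' (pCore 2 H) with hπ
  have hπs : Function.Surjective π := QuotientGroup.mk'_surjective _
  have hxH : x ∈ H := Subgroup.subset_closure (Or.inr rfl)
  have hbH : ∀ b ∈ sameCommutingClass D d, b ∈ H := fun b hb => Subgroup.subset_closure (Or.inl hb)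
  have hdH := hbH d (self_mem_twins hdx.1)
  -- odd elements survive
  have hsurv : ∀ t : H, Odd (orderOf (t : G)) → π t * π t = 1 → (t : G) = 1 := by
    intro t ht h1
    have h2 : π (t * t) = 1 := by rw [map_mul, h1]
    obtain ⟨j, hj⟩ := (CfsgLib.isPGroup_pCore (G := H) 2) ⟨_, (QuotientGroup.eq_one_iff _).mp h2⟩
    have h3 : (t : G) ^ (2 ^ (j + 1)) = 1 := by
      have := congrArg (fun z : pCore 2 H => ((z : H) : G)) hj
      simp only [Subgroup.coe_pow, Subgroup.coe_mul, Subgroup.coe_one] at this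
      rwa [pow_succ', pow_mul, pow_two]
    exact orderOf_eq_one_iff.mp (((Nat.coprime_two_right.mpr ht).pow_right (j + 1)).eq_one_of_dvd
      (orderOf_dvd_of_pow_eq_one h3))
  have hcommiff : ∀ a b : H, (a : G) ∈ D → (b : G) ∈ D → (Commute (π a) (π b) ↔ Commute (a : G) b) := by
    intro a b ha hb
    refine ⟨fun hc => by_contra fun hn => ?_, fun hc => ?_⟩
    · have ho := (odd_iff hD ha hb).mpr hn
      refine ho.2.2.1 ?_
      have h1 : π (a * b) * π (a * b) = 1 := by
        rw [← pow_two, map_mul, hc.mul_pow, ← map_pow, ← map_pow, pow_two, pow_two,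
          show a * a = 1 from Subtype.ext (mul_self hD.1 ha), show b * b = 1 from Subtype.ext (mul_self hD.1 hb),
          map_one, one_mul]
      have h2 := hsurv (a * b) ho.2.2.2 h1
      rw [mul_eq_one_iff_eq_inv.mp (show (a : G) * b = 1 from h2), inv_eq hD.1 hb]
    · exact (show Commute a b from Subtype.ext hc).map π
  -- members are opposite to `x`, so conjugate to it
  have hconjx : ∀ b, (hb : b ∈ sameCommutingClass D d) →
      ∃ g : H, (⟨b, hbH b hb⟩ : H) = g * ⟨x, hxH⟩ * g⁻¹ := by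
    intro b hb
    obtain ⟨g, hg, e⟩ := CfsgLib.RootComm.exists_conj_mem (CfsgLib.RootComm.odd2_of_root hD.1) hdx.2.1 hb.1
      (odd_symm (odd_twin hD hdx hb)).2.2.2
    have hgH : g ∈ H := (Subgroup.closure_le _).mpr (by
      rintro z (rfl | rfl)
      · exact hxH
      · exact hbH z hb) hg
    exact ⟨⟨g, hgH⟩, Subtype.ext e.symm⟩
  set X₀ : H := ⟨x, hxH⟩ with hX₀
  let DY : Set (H ⧸ pCore 2 H) := {z | ∃ g : H, z = π (g * X₀ * g⁻¹)}
  have hmemD : ∀ g : H, ((g * X₀ * g⁻¹ : H) : G) ∈ D := fun g => hD.1.conj_mem x hdx.2.1 g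
  have hx1 : π X₀ ≠ 1 := by
    intro h1
    refine not_commute_of_odd hD hdx ((hcommiff ⟨d, hdH⟩ X₀ hdx.1 hdx.2.1).mp ?_)
    rw [h1]
    exact Commute.one_right _
  have hDY2 : ∀ z ∈ DY, z ≠ 1 ∧ z * z = 1 := by
    rintro _ ⟨g, rfl⟩
    refine ⟨fun h1 => hx1 ?_, ?_⟩
    · rw [map_mul, map_mul, map_inv] at h1
      exact conj_eq_one_iff.mp h1
    · rw [← map_mul, show g * X₀ * g⁻¹ * (g * X₀ * g⁻¹) = 1 from Subtype.ext (mul_self hD.1 (hmemD g)), map_one]
  have hEDY : ∀ b, (hb : b ∈ sameCommutingClass D d) → π ⟨b, hbH b hb⟩ ∈ DY := fun b hb => by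
    obtain ⟨g, hg⟩ := hconjx b hb
    exact ⟨g, by rw [hg]⟩
  set E : Set (H ⧸ pCore 2 H) := {z | ∃ b, ∃ hb : b ∈ sameCommutingClass D d, z = π ⟨b, hbH b hb⟩} with hEdef
  have hgen : Subgroup.closure (E ∪ {π X₀}) = ⊤ := by
    rw [eq_top_iff]
    rintro r -
    obtain ⟨⟨g, hg⟩, rfl⟩ := hπs r
    induction hg using Subgroup.closure_induction with
    | mem y hy =>
      rcases hy with hy | rfl
      · exact Subgroup.subset_closure (Or.inl ⟨y, hy, rfl⟩)
      · exact Subgroup.subset_closure (Or.inr rfl)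
    | one => exact (map_one π).symm ▸ one_mem _
    | mul y z hy hz h1 h2 =>
      rw [show (⟨y * z, mul_mem hy hz⟩ : H) = ⟨y, hy⟩ * ⟨z, hz⟩ from rfl, map_mul]; exact mul_mem h1 h2
    | inv y hy h1 =>
      rw [show (⟨y⁻¹, inv_mem hy⟩ : H) = (⟨y, hy⟩ : H)⁻¹ from rfl, map_inv]; exact inv_mem h1
  have hpair : ∀ a ∈ DY, ∀ b ∈ DY, a * b = b * a ∨ Odd (orderOf (a * b)) := by
    rintro _ ⟨g, rfl⟩ _ ⟨k, rfl⟩
    rcases commute_or_odd hD (hmemD g) (hmemD k) with h | h
    · exact Or.inl ((hcommiff _ _ (hmemD g) (hmemD k)).mpr h).eq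
    · refine Or.inr (h.2.2.2.of_dvd_nat ?_)
      rw [← map_mul, ← Subgroup.coe_mul, Subgroup.orderOf_coe]
      exact orderOf_map_dvd π _
  have hconjDY : ∀ z ∈ DY, ∀ r : H ⧸ pCore 2 H, r * z * r⁻¹ ∈ DY := by
    rintro _ ⟨g, rfl⟩ r
    obtain ⟨k, rfl⟩ := hπs r
    exact ⟨k * g, by simp only [map_mul, map_inv, mul_inv_rev]; group⟩
  have hXDY : π X₀ ∈ DY := ⟨1, by simp⟩
  have hrootY : IsRootInvolutionSet DY := by
    refine ⟨fun z hz => orderOf_eq_prime (by rw [pow_two]; exact (hDY2 z hz).2) (hDY2 z hz).1, ?_,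
      fun z hz r => hconjDY z hz r, fun a ha b hb => (hpair a ha b hb).imp id Or.inl⟩
    rw [eq_top_iff, ← hgen]
    refine Subgroup.closure_mono ?_
    rintro z (⟨b, hb, rfl⟩ | rfl)
    · exact hEDY b hb
    · exact hXDY
  have hoddY : IsOddTranspositionSet DY := ⟨hrootY, fun a ha b hb h4 => by
    rcases hpair a ha b hb with h | h
    · have : (a * b) ^ 2 = 1 := by
        rw [(show Commute a b from h).mul_pow, pow_two, pow_two, (hDY2 a ha).2, (hDY2 b hb).2, one_mul]
      have := Nat.le_of_dvd two_pos (orderOf_dvd_of_pow_eq_one this)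
      omega
    · rw [h4] at h
      exact (Nat.not_odd_iff_even.mpr ⟨2, rfl⟩) h⟩
  have hclY : IsRootInvolutionClass DY := by
    refine ⟨hrootY, ⟨_, hXDY⟩, ?_⟩
    rintro _ ⟨g, rfl⟩ _ ⟨k, rfl⟩
    exact ⟨π (k * g⁻¹), by simp only [map_mul, map_inv, mul_inv_rev]; group⟩
  have hdd := self_mem_twins (D := D) hdx.1
  have hdxY : OddAdj DY (π ⟨d, hdH⟩) (π X₀) :=
    (odd_iff hoddY (hEDY d hdd) hXDY).mpr fun hc =>
      not_commute_of_odd hD hdx ((hcommiff ⟨d, hdH⟩ X₀ hdx.1 hdx.2.1).mp hc)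
  have hEtw : E ⊆ sameCommutingClass DY (π ⟨d, hdH⟩) := by
    rintro _ ⟨b, hb, rfl⟩
    refine ⟨hEDY b hb, ?_⟩
    ext w
    constructor
    · rintro ⟨⟨g, rfl⟩, hc⟩
      refine ⟨⟨g, rfl⟩, ((hcommiff _ ⟨b, hbH b hb⟩ (hmemD g) hb.1).mpr ?_).eq⟩
      exact commute_twin hD hb.2 (hmemD g) ((hcommiff _ ⟨d, hdH⟩ (hmemD g) hdx.1).mp hc)
    · rintro ⟨⟨g, rfl⟩, hc⟩
      refine ⟨⟨g, rfl⟩, ((hcommiff _ ⟨d, hdH⟩ (hmemD g) hdx.1).mpr ?_).eq⟩
      exact commute_twin hD hb.2.symm (hmemD g) ((hcommiff _ ⟨b, hbH b hb⟩ (hmemD g) hb.1).mp hc)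
  exact shape_of_block hoddY hclY (CfsgLib.ZJ.pCore_quotient_pCore_eq_bot (p := 2)) hdxY hEtw ⟨d, hdd, rfl⟩ hgen

end CfsgLib.OddTrans
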