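import Cfsg.Agent.Lib.OddTrans.Out

/-!
Relations between the simple pairs at two commuting points.
-/

set_option autoImplicit false
set_option linter.unusedSectionVars false
set_option linter.style.haveILetI false

namespace CfsgLib.OddTrans

open Cfsg Relation
open CfsgLib.RootInv (mul_self inv_eq ne_one odd_symm odd_conj reach_symm)

universe u

variable {G : Type u} [Group G] {D S : Set G}

/-- An isomorphism carrying `S` to `T` carries the elements fixing the blocks of `S` to those of `T`. -/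
theorem fixBlocks_map {G' : Type u} [Group G'] (f : G ≃* G') {T : Set G'} (h : ∀ s ∈ S, f s ∈ T)
    (h' : ∀ t ∈ T, f.symm t ∈ S) {k : G} (hk : k ∈ fixBlocks S) : f k ∈ fixBlocks T := by
  obtain ⟨h1, h2, h3⟩ := hk
  refine ⟨fun t ht => ?_, fun t ht => ?_, fun t ht o ho => ?_⟩
  · have := h _ (h1 _ (h' t ht))
    simpa using this
  · have := h _ (h2 _ (h' t ht))
    simpa using this
  · have := h3 _ (h' t ht) _ (h' o ho)
    constructor
    · intro hc
      have hc' := hc.map f.symm.toMonoidHom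
      have := (this.mp (by simpa using hc')).map f.toMonoidHom
      simpa using this
    · intro hc
      have hc' := hc.map f.symm.toMonoidHom
      have := (this.mpr (by simpa using hc')).map f.toMonoidHom
      simpa using this

variable [Finite G]

theorem res_eq_map {G' : Type u} [Group G'] [Finite G'] {D' T : Set G'} (hD : IsOddTranspositionSet D)
    (hS : IsSub D S) (hD' : IsOddTranspositionSet D') (hT : IsSub D' T) (f : G ≃* G') (h : ∀ s ∈ S, f s ∈ T)
    (h' : ∀ t ∈ T, f.symm t ∈ S) {z z' : G} (hz : z ∈ S) (hz' : z' ∈ S) :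
    res T (f z) = res T (f z') ↔ res S z = res S z' := by
  rw [res_eq_iff hD' hT (h z hz) (h z' hz'), res_eq_iff hD hS hz hz', ← map_mul]
  refine ⟨fun hk => ?_, fun hk => fixBlocks_map f h h' hk⟩
  have := fixBlocks_map f.symm h' (fun s hs => by simpa using h s hs) hk
  simpa using this

theorem IsSub.exists_conj (hD : IsOddTranspositionSet D) (hS : IsSub D S) {z z' : G} (hz : z ∈ S) (hz' : z' ∈ S) :
    ∃ g ∈ Subgroup.closure S, g * z * g⁻¹ = z' := by
  have hr := hS.conn z hz z' hz'
  clear hz'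
  induction hr with
  | refl => exact ⟨1, one_mem _, by simp⟩
  | @tail b c _ hbc ih =>
    obtain ⟨g, hg, hgb⟩ := ih
    obtain ⟨k, hk, hkc⟩ := CfsgLib.RootComm.exists_conj_mem (CfsgLib.RootComm.odd2_of_root hD.1) (hS.sub hbc.1)
      (hS.sub hbc.2.1) hbc.2.2.2
    refine ⟨k * g, mul_mem ((Subgroup.closure_le _).mpr ?_ hk) hg, by rw [← hkc, ← hgb]; group⟩
    rintro y (rfl | rfl)
    · exact Subgroup.subset_closure hbc.1
    · exact Subgroup.subset_closure hbc.2.1

theorem ncard_image_eq {α β γ : Type*} [Finite α] {A : Set α} (f : α → β) (g : α → γ)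
    (h : ∀ x ∈ A, ∀ x' ∈ A, f x = f x' ↔ g x = g x') : (f '' A).ncard = (g '' A).ncard := by
  classical
  rcases A.eq_empty_or_nonempty with rfl | ⟨x₀, hx₀⟩
  · simp
  · haveI : Nonempty α := ⟨x₀⟩
    have hφ : ∀ x ∈ A, (if hb : ∃ x' ∈ A, f x' = f x then g hb.choose else g x₀) = g x := fun x hx => by
      have hb : ∃ x' ∈ A, f x' = f x := ⟨x, hx, rfl⟩
      rw [dif_pos hb]
      exact (h _ hb.choose_spec.1 x hx).mp hb.choose_spec.2
    refine Set.ncard_congr (fun b _ => if hb : ∃ x ∈ A, f x = b then g hb.choose else g x₀) ?_ ?_ ?_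
    · rintro _ ⟨x, hx, rfl⟩
      exact ⟨x, hx, (hφ x hx).symm⟩
    · rintro _ _ ⟨x, hx, rfl⟩ ⟨x', hx', rfl⟩ e
      rw [hφ x hx, hφ x' hx'] at e
      exact (h x hx x' hx').mpr e
    · rintro _ ⟨x, hx, rfl⟩
      exact ⟨f x, ⟨x, hx, rfl⟩, hφ x hx⟩

/-- Two members have the same twins in the simple pair at `y`. -/
def RTw (D : Set G) (y a b : G) : Prop := ∀ o ∈ out D y, (Commute o a ↔ Commute o b)

/-- The common neighbours of `a` and `y` that have an opposite among them. -/
def core (D : Set G) (a y : G) : Set G :=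
  {z | z ∈ out D a ∧ z ∈ out D y ∧ ∃ o ∈ D, Commute o a ∧ Commute o y ∧ OddAdj D z o}

theorem core_comm (a y : G) : core D a y = core D y a := by
  ext z
  constructor <;> rintro ⟨h1, h2, o, ho, h3, h4, h5⟩ <;> exact ⟨h2, h1, o, ho, h4, h3, h5⟩

namespace IsClassPair

variable (P : IsClassPair G D)
include P

theorem twin_mem_out {a b y : G} (ha : a ∈ D) (hy : y ∈ out D a) (hb : b ∈ sameCommutingClass D a) :
    b ∈ out D y := out_symm hb.1 ((out_eq_of_twin ha hb).symm ▸ hy)

variable (hcon : IsConnectedSet (CommAdj D) D)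
include hcon

theorem residual {a : G} (ha : a ∈ D) : IsClassPair (Res (out D a)) (img (out D a)) :=
  res_classPair P.odd (P.out_isSub hcon ha)

theorem res_twins_iff {y a b : G} (hy : y ∈ D) (ha : a ∈ out D y) (hb : b ∈ out D y) :
    res (out D y) b ∈ sameCommutingClass (img (out D y)) (res (out D y) a) ↔ RTw D y a b :=
  ⟨fun h => (res_cm_eq_iff P.odd (P.out_isSub hcon hy) ha hb).mp h.2,
    fun h => ⟨⟨b, hb, rfl⟩, (res_cm_eq_iff P.odd (P.out_isSub hcon hy) ha hb).mpr h⟩⟩

theorem rtw_of_imp {y a b : G} (hy : y ∈ D) (ha : a ∈ out D y) (hb : b ∈ out D y)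
    (h : ∀ o ∈ out D y, Commute o a → Commute o b) : RTw D y a b := by
  have hS := P.out_isSub hcon hy
  refine (res_cm_eq_iff P.odd hS ha hb).mp ((P.residual hcon hy).cm_eq_of_subset ⟨a, ha, rfl⟩ ⟨b, hb, rfl⟩ ?_)
  rintro _ ⟨⟨o, ho, rfl⟩, hc⟩
  exact ⟨⟨o, ho, rfl⟩, (res_commute_iff P.odd hS ho hb).mpr (h o ho ((res_commute_iff P.odd hS ho ha).mp hc))⟩

/-- A twin of `a` at `y` commuting with an opposite of `y` next to `a` is a twin of `a`. -/
theorem twin_of_rtw {y a a₀ p : G} (hy : y ∈ D) (ha : a ∈ out D y) (ha₀ : a₀ ∈ out D y) (h : RTw D y a a₀)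
    (hpa : Commute p a) (hpa₀ : Commute p a₀) (hpy : OddAdj D p y) : a₀ ∈ sameCommutingClass D a := by
  refine ⟨ha₀.1, by_contra fun hne => ?_⟩
  have hca : Commute a₀ a := ((h a ha).mp (Commute.refl a)).symm
  have haD := ha.1
  have hya := out_symm hy ha
  have ha₀a : a₀ ∈ out D a := ⟨ha₀.1, hca, hne⟩
  have hp : p ∈ out D a := ⟨hpy.1, hpa, fun e =>
    not_commute_of_odd P.odd hpy (commute_twin P.odd e hy hya.2.1).symm⟩
  have key := P.rtw_of_imp hcon haD hya ha₀a fun o ho hoy => by
    by_cases e : commutingMembers D y = commutingMembers D o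
    · exact (commute_twin P.odd e ha₀.1 ha₀.2.1).symm
    · exact (h o ⟨ho.1, hoy, e⟩).mp ho.2.1
  exact not_commute_of_odd P.odd hpy ((key p hp).mpr hpa₀)

theorem res_conj_iff {a g z z' : G} (ha : a ∈ D) (hz : z ∈ out D a) (hz' : z' ∈ out D a) :
    res (out D (g * a * g⁻¹)) (g * z * g⁻¹) = res (out D (g * a * g⁻¹)) (g * z' * g⁻¹) ↔
      res (out D a) z = res (out D a) z' := by
  refine res_eq_map P.odd (P.out_isSub hcon ha) P.odd (P.out_isSub hcon (P.odd.1.conj_mem a ha g)) (MulAut.conj g)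
    (fun s hs => out_conj P.odd a g hs) (fun t ht => ?_) hz hz'
  have := out_conj P.odd _ g⁻¹ ht
  simpa [MulAut.conj_symm_apply, mul_assoc] using this

/-- Which members of a block are identified at a neighbour does not depend on the neighbour. -/
theorem collapse_indep {a b c y y₁ : G} (ha : a ∈ D) (hy : y ∈ out D a) (hy₁ : y₁ ∈ out D a)
    (hb : b ∈ sameCommutingClass D a) (hc : c ∈ sameCommutingClass D a) :
    res (out D y₁) b = res (out D y₁) c ↔ res (out D y) b = res (out D y) c := by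
  obtain ⟨g, hg, rfl⟩ := (P.out_isSub hcon ha).exists_conj P.odd hy hy₁
  have h := P.res_conj_iff hcon (g := g) hy.1 (P.twin_mem_out ha hy hb) (P.twin_mem_out ha hy hc)
  rwa [(commute_twin_closure_out P.odd ha hb hg).eq, mul_inv_cancel_right,
    (commute_twin_closure_out P.odd ha hc hg).eq, mul_inv_cancel_right] at h

theorem block_image_card_indep {a y y₁ : G} (ha : a ∈ D) (hy : y ∈ out D a) (hy₁ : y₁ ∈ out D a) :
    (res (out D y) '' sameCommutingClass D a).ncard = (res (out D y₁) '' sameCommutingClass D a).ncard :=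
  ncard_image_eq _ _ fun _ hb _ hc => (P.collapse_indep hcon ha hy hy₁ hb hc).symm

theorem block_image_card_symm {a y : G} (ha : a ∈ D) (hy : y ∈ out D a) :
    (res (out D y) '' sameCommutingClass D a).ncard = (res (out D a) '' sameCommutingClass D y).ncard := by
  obtain ⟨g, hg⟩ := P.cl.2.2 a ha y hy.1
  have hay := out_symm ha hy
  have h1 : g * y * g⁻¹ ∈ out D y := by
    have := out_conj P.odd a g hy
    rwa [← hg] at this
  rw [P.block_image_card_indep hcon hy.1 hay h1]
  have himg : sameCommutingClass D y = (fun x => g * x * g⁻¹) '' sameCommutingClass D a := by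
    ext x
    constructor
    · rintro ⟨hx, e⟩
      refine ⟨g⁻¹ * x * g, ⟨by simpa using P.odd.1.conj_mem x hx g⁻¹, ?_⟩, by group⟩
      have h2 := congrArg (fun A : Set G => (fun w => g⁻¹ * w * g⁻¹⁻¹) '' A) e
      simp only [← commutingMembers_conj P.odd] at h2
      rwa [hg, show g⁻¹ * (g * a * g⁻¹) * g⁻¹⁻¹ = a by group, inv_inv] at h2
    · rintro ⟨w, ⟨hw, e⟩, rfl⟩
      refine ⟨P.odd.1.conj_mem w hw g, ?_⟩
      rw [hg, commutingMembers_conj P.odd, commutingMembers_conj P.odd, e]
  rw [himg, Set.image_image]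
  exact ncard_image_eq _ _ fun x hx x' hx' =>
    (P.res_conj_iff hcon hy.1 (P.twin_mem_out ha hy hx) (P.twin_mem_out ha hy hx')).symm

theorem res_twins_subset {a y : G} (ha : a ∈ D) (hy : y ∈ out D a) :
    res (out D y) '' sameCommutingClass D a ⊆ sameCommutingClass (img (out D y)) (res (out D y) a) := by
  rintro _ ⟨b, hb, rfl⟩
  refine (P.res_twins_iff hcon hy.1 (out_symm ha hy) (P.twin_mem_out ha hy hb)).mpr fun o ho => ?_
  exact ⟨fun h => commute_twin P.odd hb.2 ho.1 h, fun h => commute_twin P.odd hb.2.symm ho.1 h⟩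

/-- The simple pair at `a` seen from its member `y`. -/
theorem out_res_eq {a y : G} (ha : a ∈ D) (hy : y ∈ out D a) :
    out (img (out D a)) (res (out D a) y) = res (out D a) '' core D a y := by
  have hS := P.out_isSub hcon ha
  ext r
  constructor
  · intro hr
    obtain ⟨z, hz, rfl⟩ := hr.1
    obtain ⟨o', ho', hor⟩ := (P.residual hcon ha).exists_partner ⟨y, hy, rfl⟩ hr
    obtain ⟨o, ho, rfl⟩ := ho'.1
    have hoy := (res_commute_iff P.odd hS ho hy).mp ho'.2.1
    have hzo : OddAdj D z o := (odd_iff P.odd hz.1 ho.1).mpr fun hc =>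
      not_commute_of_odd (P.residual hcon ha).odd hor ((res_commute_iff P.odd hS hz ho).mpr hc)
    refine ⟨z, ⟨hz, ⟨hz.1, (res_commute_iff P.odd hS hz hy).mp hr.2.1, fun e => ?_⟩, o, ho.1, ho.2.1, hoy, hzo⟩, rfl⟩
    exact not_commute_of_odd P.odd hzo (commute_twin P.odd e ho.1 hoy).symm
  · rintro ⟨z, ⟨hz, hzy, o, ho, hoa, hoy, hzo⟩, rfl⟩
    have hoO : o ∈ out D a := ⟨ho, hoa, fun e => not_commute_of_odd P.odd hzo (commute_twin P.odd e hz.1 hz.2.1)⟩
    refine ⟨⟨z, hz, rfl⟩, (res_commute_iff P.odd hS hz hy).mpr hzy.2.1, fun e => ?_⟩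
    exact not_commute_of_odd P.odd hzo
      (((res_cm_eq_iff P.odd hS hy hz).mp e o hoO).mp hoy).symm

theorem core_conj {a y : G} (ha : a ∈ D) (hy : y ∈ D) {k : G} (hka : Commute k a) (hky : Commute k y) {z : G}
    (hz : z ∈ core D a y) : k * z * k⁻¹ ∈ core D a y := by
  obtain ⟨h1, h2, o, ho, h3, h4, h5⟩ := hz
  refine ⟨(out_stable_of_commute P.odd ha hka).1 z h1, (out_stable_of_commute P.odd hy hky).1 z h2, k * o * k⁻¹,
    P.odd.1.conj_mem o ho k, ?_, ?_, odd_conj P.odd.1 k h5⟩
  · have := h3.map (MulAut.conj k).toMonoidHom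
    simpa [MulAut.conj_apply, hka.eq] using this
  · have := h4.map (MulAut.conj k).toMonoidHom
    simpa [MulAut.conj_apply, hky.eq] using this

/-- Identification in the second residual, read off the common neighbours. -/
theorem res_res_iff {a y z z' : G} (ha : a ∈ D) (hy : y ∈ out D a) (hz : z ∈ core D a y) (hz' : z' ∈ core D a y)
    (hcon' : IsConnectedSet (CommAdj (img (out D a))) (img (out D a))) :
    res (out (img (out D a)) (res (out D a) y)) (res (out D a) z) =
        res (out (img (out D a)) (res (out D a) y)) (res (out D a) z') ↔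
      ∀ s ∈ core D a y, ∀ o ∈ core D a y, (Commute (z * z' * s * (z * z')⁻¹) o ↔ Commute s o) := by
  have hS := P.out_isSub hcon ha
  have hR := P.residual hcon ha
  have hS' := hR.out_isSub hcon' (a := res (out D a) y) ⟨y, hy, rfl⟩
  have heq := P.out_res_eq hcon ha hy
  have hmem : ∀ {s}, s ∈ core D a y → res (out D a) s ∈ out (img (out D a)) (res (out D a) y) :=
    fun hs => heq ▸ ⟨_, hs, rfl⟩
  have hk : z * z' ∈ Subgroup.closure (out D a) :=
    mul_mem (Subgroup.subset_closure hz.1) (Subgroup.subset_closure hz'.1)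
  have hka : Commute (z * z') a := hz.1.2.1.mul_left hz'.1.2.1
  have hky : Commute (z * z') y := hz.2.1.2.1.mul_left hz'.2.1.2.1
  have hmul : res (out D a) z * res (out D a) z' = res (out D a) (z * z') :=
    (res_mul (Subgroup.subset_closure hz.1) (Subgroup.subset_closure hz'.1)).symm
  rw [res_eq_iff hR.odd hS' (hmem hz) (hmem hz'), hmul]
  have hconjmem : ∀ s ∈ core D a y, res (out D a) (z * z') * res (out D a) s * (res (out D a) (z * z'))⁻¹ =
      res (out D a) (z * z' * s * (z * z')⁻¹) := fun s hs => (res_conj hk (Subgroup.subset_closure hs.1)).symm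
  constructor
  · rintro ⟨-, -, h3⟩ s hs o ho
    have := h3 _ (hmem hs) _ (hmem ho)
    rw [hconjmem s hs, res_commute_iff P.odd hS (P.core_conj hcon ha hy.1 hka hky hs).1 ho.1,
      res_commute_iff P.odd hS hs.1 ho.1] at this
    exact this
  · intro h
    rw [mem_fixBlocks, heq]
    refine ⟨?_, ?_, ?_⟩
    · rintro _ ⟨s, hs, rfl⟩
      exact ⟨_, P.core_conj hcon ha hy.1 hka hky hs, (hconjmem s hs).symm⟩
    · rintro _ ⟨s, hs, rfl⟩
      refine ⟨(z * z')⁻¹ * s * (z * z'), ?_, ?_⟩
      · simpa using P.core_conj hcon ha hy.1 hka.inv_left hky.inv_left hs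
      · rw [res_mul (mul_mem (inv_mem hk) (Subgroup.subset_closure hs.1)) hk, res_mul (inv_mem hk)
          (Subgroup.subset_closure hs.1), res_inv hk]
    · rintro _ ⟨s, hs, rfl⟩ _ ⟨o, ho, rfl⟩
      rw [hconjmem s hs, res_commute_iff P.odd hS (P.core_conj hcon ha hy.1 hka hky hs).1 ho.1,
        res_commute_iff P.odd hS hs.1 ho.1]
      exact h s hs o ho

omit hcon in
/-- Commuting members that are not twins force a connected commuting graph. -/
theorem connected_of_nontwin {a b : G} (ha : a ∈ D) (hb : b ∈ D) (hc : Commute a b)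
    (hne : commutingMembers D a ≠ commutingMembers D b) : IsConnectedSet (CommAdj D) D := by
  by_contra hnc
  obtain ⟨m, p, e, R⟩ := exists_rankOne P hnc
  exact hne (R.cm_eq_of_commute ha hb hc)

end IsClassPair

end CfsgLib.OddTrans
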