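import Cfsg.Agent.Lib.OddTrans.SzShift

/-!
No simple pair with a connected commuting graph has all its residuals in the Suzuki family.

Counting gives fibres of size `q²` and every translation fixes a member; then a two-element centralising one member
of every fibre centralises `out D a`, and an element of order four of the residual lifts to a contradiction.
-/

set_option autoImplicit false
set_option linter.unusedSectionVars false
set_option linter.style.haveILetI false

namespace CfsgLib.OddTrans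

open Cfsg MulAction CfsgLib.RankOnePoint
open CfsgLib.RootInv (mul_self inv_eq ne_one odd_symm odd_conj)

universe u

variable {G : Type u} [Group G] [Finite G] {D : Set G}

theorem res_pow {S : Set G} {g : G} (hg : g ∈ Subgroup.closure S) (n : ℕ) : res S (g ^ n) = res S g ^ n := by
  induction n with
  | zero => simp [res_one]
  | succ n ih => rw [pow_succ, res_mul (pow_mem hg n) hg, ih, pow_succ]

namespace IsClassPair

variable (P : IsClassPair G D)
include P

/-- All blocks have the same size. -/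
theorem ncard_twins_eq {a b : G} (ha : a ∈ D) (hb : b ∈ D) :
    (sameCommutingClass D a).ncard = (sameCommutingClass D b).ncard := by
  suffices key : ∀ a b, a ∈ D → b ∈ D → (sameCommutingClass D a).ncard ≤ (sameCommutingClass D b).ncard from
    le_antisymm (key a b ha hb) (key b a hb ha)
  intro a b ha hb
  obtain ⟨g, rfl⟩ := P.cl.2.2 a ha b hb
  exact Set.ncard_le_ncard_of_injOn (fun x => g * x * g⁻¹)
    (fun x hx => ⟨P.odd.1.conj_mem x hx.1 g, by rw [commutingMembers_conj P.odd, commutingMembers_conj P.odd, hx.2]⟩)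
    (fun x _ y _ e => mul_left_cancel (mul_right_cancel e)) (Set.toFinite _)

variable (hcon : IsConnectedSet (CommAdj D) D) (hrig : IsRigid D)
include hcon hrig

/-- Some fibre has two members. -/
theorem exists_fibre_ne {a : G} (ha : a ∈ D) : ∃ z ∈ out D a, ∃ v ∈ fibre D a z, v ≠ z := by
  by_contra h
  push Not at h
  have hD := P.odd
  have hM : ∀ x ∈ D, x ∉ out D a → ∀ z ∈ out D a, Commute x z := by
    intro x hx hxo z hz
    by_cases hc : Commute x a
    · exact (commute_twin hD (by_contra fun e => hxo ⟨hx, hc, e⟩) hz.1 hz.2.1).symm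
    · have hax : OddAdj D a x := odd_symm ((odd_iff hD hx ha).mpr hc)
      obtain ⟨y, hya, hyx⟩ := hrig.good a x hax
      obtain ⟨z', hz', he, hzw⟩ := hrig.lift a x y hya hyx hax z hz
      rw [h z hz z' ⟨hz', he⟩] at hzw
      exact hzw.symm
  obtain ⟨z, hz⟩ := P.out_nonempty hcon ha
  suffices ∀ x, Relation.ReflTransGen (OddAdj D) z x → x ∈ out D a from
    (this a (P.odd_connected z hz.1 a ha)).2.2 rfl
  intro x hx
  induction hx with
  | refl => exact hz
  | @tail b c _ hbc ih => exact by_contra fun hn => not_commute_of_odd hD hbc (hM c hbc.2.1 hn b ih).symm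

variable (hsz : SuzukiResiduals D)
include hsz

theorem two_le_fibre {a z : G} (ha : a ∈ D) (hz : z ∈ out D a) : 2 ≤ (fibre D a z).ncard := by
  obtain ⟨u, hu, v, hv, hne⟩ := P.exists_fibre_ne hcon hrig ha
  rw [P.card_fibre_eq hcon hrig hsz ha hz hu, ← Set.ncard_pair hne]
  exact Set.ncard_le_ncard (Set.insert_subset_iff.mpr ⟨hv, Set.singleton_subset_iff.mpr ⟨hu, rfl⟩⟩) (Set.toFinite _)

/-- Every translation fixes a member. -/
theorem shift_exists_fix {a : G} (ha : a ∈ D) {π : Equiv.Perm (out D a)} (hπ : π ∈ shift D a) :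
    ∃ z : out D a, π z = z := by
  classical
  obtain ⟨z₀, hz₀⟩ := P.out_nonempty hcon ha
  rcases eq_or_ne π 1 with rfl | hπ1
  · exact ⟨⟨z₀, hz₀⟩, rfl⟩
  obtain ⟨m, R⟩ := hsz a ha
  have hS := P.out_isSub hcon ha
  haveI := R.pair.simple
  set f := (fibre D a z₀).ncard with hf
  have hf2 : 2 ≤ f := P.two_le_fibre hcon hrig hsz ha hz₀
  have hfq : f ≤ (2 ^ m) ^ 2 := by
    refine (P.fibre_le_sq hcon hrig ha hz₀).trans_eq ?_
    have h1 := R.ncard_twins ⟨z₀, hz₀, rfl⟩
    have haz := out_symm ha hz₀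
    rw [show sameCommutingClass (img (out D a)) (res (out D a) z₀) = res (out D a) '' sameCommutingClass D z₀ from
      Set.Subset.antisymm (hrig.full z₀ hz₀.1 a haz) (P.res_twins_subset hcon hz₀.1 haz),
      Set.InjOn.ncard_image (fun x hx y hy e => hrig.inj z₀ hz₀.1 a haz x hx y hy e),
      P.ncard_twins_eq hz₀.1 ha] at h1
    have := R.facts.q_four
    rw [show (sameCommutingClass D a).ncard + 1 = 2 ^ m by omega]
  -- a member over each point
  have hex : ∀ S : Sylow 2 (Res (out D a)), ∃ z : out D a, res (out D a) (z : G) ∈ (S : Subgroup (Res (out D a))) := by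
    intro S
    by_contra hno
    push Not at hno
    have hle : ({x | x ∈ (S : Subgroup (Res (out D a))) ∧ x * x = 1} : Set (Res (out D a))) ⊆ {1} := fun x hx =>
      by_contra fun hx1 => by
        obtain ⟨s, hs, rfl⟩ := (R.mem x).mpr ⟨hx1, hx.2⟩
        exact hno ⟨s, hs⟩ hx.1
    have := Set.ncard_le_ncard hle (Set.toFinite _)
    rw [Set.ncard_singleton, show ({x | x ∈ (S : Subgroup (Res (out D a))) ∧ x * x = 1} : Set _).ncard = 2 ^ m from
      (Nat.card_coe_set_eq _).symm.trans (R.facts.card_sq_one S)] at this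
    have := R.facts.q_four
    omega
  choose pt hpt using hex
  have hodd : ∀ S T : Sylow 2 (Res (out D a)), S ≠ T → OddAdj D (pt S : G) (pt T) := by
    intro S T hne
    refine (odd_iff P.odd (pt S).2.1 (pt T).2.1).mpr fun hc => hne ?_
    have hmem : res (out D a) (pt S : G) ∈ img (out D a) := ⟨_, (pt S).2, rfl⟩
    refine R.facts.eq_of_mem ((R.mem _).mp (⟨_, (pt T).2, rfl⟩ : res (out D a) (pt T : G) ∈ img (out D a))).1 ?_
      (hpt T)
    exact (R.commute_iff hmem ⟨_, (pt T).2, rfl⟩ (hpt S)).mp ((res_commute_iff P.odd hS (pt S).2 (pt T).2).mpr hc)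
  let part : Sylow 2 (Res (out D a)) → Set (Equiv.Perm (out D a)) := fun S =>
    {ρ | ρ ∈ shift D a ∧ ρ (pt S) = pt S} \ {1}
  have hpart : ∀ S, (part S).ncard = f - 1 := fun S => by
    rw [Set.ncard_sdiff_singleton_of_mem
        (show (1 : Equiv.Perm (out D a)) ∈ {ρ | ρ ∈ shift D a ∧ ρ (pt S) = pt S} from ⟨one_mem _, rfl⟩),
      (P.card_shift hcon hrig hsz ha (pt S)).2, P.card_fibre_eq hcon hrig hsz ha (pt S).2 hz₀]
  let Φ : (Σ S : Sylow 2 (Res (out D a)), part S) → ((shift D a : Set (Equiv.Perm (out D a))) \ {1} : Set _) :=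
    fun v => ⟨v.2.1, v.2.2.1.1, v.2.2.2⟩
  have hΦ : Function.Injective Φ := by
    rintro ⟨S, ρ, hρ⟩ ⟨T, σ, hσ⟩ e
    have e' : ρ = σ := congrArg Subtype.val e
    subst e'
    obtain rfl : S = T := by_contra fun hne => hρ.2
      (P.shift_eq_one hcon hrig hsz ha hρ.1.1 (hodd S T hne) hρ.1.2 hσ.1.2)
    rfl
  have hcard2 : Nat.card ((shift D a : Set (Equiv.Perm (out D a))) \ {1} : Set _) = f * f - 1 := by
    rw [Nat.card_coe_set_eq, Set.ncard_sdiff_singleton_of_mem (one_mem (shift D a)),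
      show (shift D a : Set (Equiv.Perm (out D a))).ncard = Nat.card (shift D a) from (Nat.card_coe_set_eq _).symm,
      (P.card_shift hcon hrig hsz ha ⟨z₀, hz₀⟩).1, sq]
  have hcard1 : Nat.card (Σ S : Sylow 2 (Res (out D a)), part S) = ((2 ^ m) ^ 2 + 1) * (f - 1) := by
    haveI := Fintype.ofFinite (Sylow 2 (Res (out D a)))
    rw [Nat.card_sigma, Finset.sum_congr rfl fun S _ => (Nat.card_coe_set_eq (part S)).trans (hpart S),
      Finset.sum_const, smul_eq_mul, Finset.card_univ, ← Nat.card_eq_fintype_card, R.facts.card_points]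
  have hle : Nat.card ((shift D a : Set (Equiv.Perm (out D a))) \ {1} : Set _) ≤
      Nat.card (Σ S : Sylow 2 (Res (out D a)), part S) := by
    rw [hcard1, hcard2]
    obtain ⟨g, hg⟩ : ∃ g, f = g + 1 := ⟨f - 1, by omega⟩
    rw [hg] at hfq ⊢
    rw [Nat.add_sub_cancel]
    calc (g + 1) * (g + 1) - 1 = g * (g + 2) := by
          rw [Nat.sub_eq_iff_eq_add (by nlinarith)]; ring
      _ ≤ g * ((2 ^ m) ^ 2 + 1) := Nat.mul_le_mul_left _ (by omega)
      _ = _ := mul_comm _ _
  obtain ⟨⟨S, ρ, hρ⟩, e⟩ := (hΦ.bijective_of_nat_card_le hle).2 ⟨π, hπ, hπ1⟩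
  obtain rfl : ρ = π := congrArg Subtype.val e
  exact ⟨pt S, hρ.1.2⟩

/-- A two-element fixing the block of `a` and commuting with a member of every fibre centralises `out D a`. -/
theorem centralizes_out {a g : G} (ha : a ∈ D) (h2 : ∃ j : ℕ, g ^ (2 ^ j) = 1)
    (hblock : commutingMembers D (g * a * g⁻¹) = commutingMembers D a)
    (hfix : ∀ u ∈ out D a, ∃ u' ∈ fibre D a u, Commute g u') : ∀ s ∈ out D a, Commute g s := by
  classical
  have hD := P.odd
  have hS := P.out_isSub hcon ha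
  have hgs : g ∈ outStab D a := out_stable hD ha hblock
  have hfib : ∀ s ∈ out D a, ∀ t ∈ out D a, res (out D a) s = res (out D a) t →
      res (out D a) (g * s * g⁻¹) = res (out D a) (g * t * g⁻¹) := by
    intro s hs t ht he
    have := (P.res_conj_iff hcon (g := g) ha hs ht).mpr he
    rwa [out_eq_of_twin ha ⟨hD.1.conj_mem a ha g, hblock.symm⟩] at this
  set γ := outPerm D a ⟨g, hgs⟩ with hγdef
  have hγ : ∀ s : out D a, (γ s : G) = g * s * g⁻¹ := fun s => rfl
  have hγres : ∀ s : out D a, res (out D a) (γ s : G) = res (out D a) s := by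
    intro s
    obtain ⟨u', hu', hc⟩ := hfix s s.2
    rw [hγ, hfib s s.2 u' hu'.1 hu'.2.symm, hc.eq, mul_inv_cancel_right, hu'.2]
  let c : Equiv.Perm (out D a) → Equiv.Perm (out D a) := fun π => γ * π * γ⁻¹
  have hcS : ∀ {π}, π ∈ shift D a → c π ∈ shift D a := fun hπ => P.shift_conj hcon ⟨g, hgs⟩ hfib hπ
  have hcmul : ∀ π ρ, c (π * ρ) = c π * c ρ := fun π ρ => by simp only [c]; group
  have hcfix : ∀ {π} (z : out D a), π ∈ shift D a → π z = z → c π z = z := by
    intro π z hπ hz
    have h1 : c π (γ z) = γ z := by simp [c, hz]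
    exact P.shift_fix_point hcon hrig hsz ha (hcS hπ) h1
      (P.fibre_commute hcon ha (z := z) ⟨(γ z).2, hγres z⟩ ⟨z.2, rfl⟩)
  have hmain : ∀ {π}, π ∈ shift D a → c π = π := by
    intro π hπ
    obtain ⟨o, hπo⟩ := P.shift_exists_fix hcon hrig hsz ha hπ
    obtain ⟨z', hz', hoz⟩ := P.exists_partner ha o.2
    set z : out D a := ⟨z', hz'⟩
    replace hoz : OddAdj D (o : G) (z : G) := hoz
    -- a fixed translation fixing `z`
    obtain ⟨v, hv, hvz, hv1, hcv⟩ : ∃ v ∈ shift D a, v z = z ∧ v ≠ 1 ∧ c v = v := by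
      let Q : Set (Equiv.Perm (out D a)) := {ρ | ρ ∈ shift D a ∧ ρ z = z}
      let σ : Equiv.Perm Q := Equiv.ofBijective (fun ρ => ⟨c ρ.1, hcS ρ.2.1, hcfix z ρ.2.1 ρ.2.2⟩)
        (Finite.injective_iff_bijective.mp fun ρ ρ' h => Subtype.ext
          (mul_left_cancel (mul_right_cancel (congrArg Subtype.val h))))
      obtain ⟨j, hj⟩ := h2
      have hσ : σ ^ (2 ^ j) = 1 := by
        have key : ∀ (n : ℕ) (ρ : Q), ((σ ^ n) ρ).1 = γ ^ n * ρ.1 * (γ ^ n)⁻¹ := by
          intro n
          induction n with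
          | zero => simp
          | succ n ih =>
            intro ρ
            rw [pow_succ', Equiv.Perm.mul_apply]
            show γ * ((σ ^ n) ρ).1 * γ⁻¹ = _
            rw [ih, pow_succ']; group
        have hγ1 : γ ^ (2 ^ j) = 1 := by
          rw [hγdef, ← map_pow, show (⟨g, hgs⟩ : outStab D a) ^ (2 ^ j) = 1 from Subtype.ext hj, map_one]
        exact Equiv.ext fun ρ => Subtype.ext (by rw [key, hγ1]; simp)
      haveI := Fintype.ofFinite Q
      haveI : Fact (Nat.Prime 2) := ⟨Nat.prime_two⟩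
      have hQ : 2 ∣ Fintype.card Q := by
        obtain ⟨k, hk⟩ := P.fibre_card_pow hcon ha z.2
        rw [← Nat.card_eq_fintype_card, Nat.card_coe_set_eq, (P.card_shift hcon hrig hsz ha z).2,
          ← Nat.card_coe_set_eq, hk]
        refine dvd_pow_self 2 fun hk0 => ?_
        have := P.two_le_fibre hcon hrig hsz ha z.2
        rw [← Nat.card_coe_set_eq, hk, hk0] at this
        norm_num at this
      have h1 : σ ⟨1, one_mem _, rfl⟩ = ⟨1, one_mem _, rfl⟩ := Subtype.ext (show c 1 = 1 by simp [c])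
      obtain ⟨b, hb, hb1⟩ := Equiv.Perm.exists_fixed_point_of_prime' hQ hσ h1
      exact ⟨b.1, b.2.1, b.2.2, fun e => hb1 (Subtype.ext e), congrArg Subtype.val hb⟩
    obtain ⟨y, hy⟩ := P.shift_exists_fix hcon hrig hsz ha (mul_mem hv hπ)
    have hcy := hcfix y (mul_mem hv hπ) hy
    rw [hcmul, hcv] at hcy
    have hy' : (v * c π) y = (v * π) y := hcy.trans hy.symm
    rw [Equiv.Perm.mul_apply, Equiv.Perm.mul_apply] at hy'
    have hyo : OddAdj D (o : G) (y : G) := by
      refine (odd_iff hD o.2.1 y.2.1).mpr fun hc => hv1 ?_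
      have h1 := P.shift_fix_point hcon hrig hsz ha (mul_mem hv hπ) hy hc.symm
      rw [Equiv.Perm.mul_apply, hπo] at h1
      exact P.shift_eq_one hcon hrig hsz ha hv hoz h1 hvz
    exact P.shift_ext hcon hrig hsz ha (hcS hπ) hπ hyo ((hcfix o hπ hπo).trans hπo.symm) (v.injective hy')
  intro s hs
  obtain ⟨u', hu', hc⟩ := hfix s hs
  set u : out D a := ⟨u', hu'.1⟩
  obtain ⟨o', ho', huo⟩ := P.exists_partner ha hu'.1
  obtain ⟨t, ht, htu, -⟩ := P.exists_shift hcon hrig hsz ha (z := u) (o := ⟨o', ho'⟩) (z' := ⟨s, hs⟩) huo hu'.2.symm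
  have hγu : γ u = u := Subtype.ext (by rw [hγ]; show g * u' * g⁻¹ = u'; rw [hc.eq, mul_inv_cancel_right])
  have h1 : γ ⟨s, hs⟩ = ⟨s, hs⟩ := by
    rw [← htu]
    calc γ (t u) = c t (γ u) := by simp [c]
      _ = t u := by rw [hmain ht, hγu]
  exact mul_inv_eq_iff_eq_mul.mp (congrArg Subtype.val h1)

/-- The residuals are not all in the Suzuki family. -/
theorem not_suzukiResiduals : False := by
  classical
  have hD := P.odd
  obtain ⟨a, ha⟩ := P.cl.2.1
  obtain ⟨y, hy⟩ := P.out_nonempty hcon ha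
  obtain ⟨o, ho, hyo⟩ := P.exists_partner ha hy
  have haz := out_symm ha hy
  have hao := out_symm ha ho
  have hS := P.out_isSub hcon ha
  obtain ⟨m, R⟩ := hsz a ha
  haveI := R.pair.simple
  have hyI : res (out D a) y ∈ img (out D a) := ⟨y, hy, rfl⟩
  obtain ⟨K, hK⟩ := exists_sylow_mem ((R.mem _).mp hyI).2
  obtain ⟨h, hh, hh2⟩ : ∃ h ∈ (K : Subgroup (Res (out D a))), h * h ≠ 1 := by
    by_contra hno
    push Not at hno
    have h1 := R.facts.card_sq_one K
    rw [Nat.card_congr (Equiv.subtypeEquivRight fun x => ⟨fun hx => hx.1, fun hx => ⟨hx, hno x hx⟩⟩)] at h1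
    have h2 := h1.symm.trans (R.facts.card_sylow K)
    have := R.facts.q_four
    nlinarith
  obtain ⟨g₀, hg₀, hg₀', rfl⟩ := P.exists_mover_out hcon hrig hsz ha hy ho hyo h
  obtain ⟨j, l, hl, hjl⟩ := Nat.exists_eq_two_pow_mul_odd (orderOf_pos g₀).ne'
  obtain ⟨g, hgdef⟩ : ∃ g, g = g₀ ^ l := ⟨_, rfl⟩
  have hg : g ∈ Subgroup.closure (sameCommutingClass D y ∪ {o}) := hgdef ▸ pow_mem hg₀ l
  have hg' : g ∈ Subgroup.closure (out D a) := hgdef ▸ pow_mem hg₀' l
  have hg2 : g ^ (2 ^ j) = 1 := by rw [hgdef, ← pow_mul, mul_comm, ← hjl, pow_orderOf_eq_one]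
  have hgK : res (out D a) g ∈ (K : Subgroup (Res (out D a))) := by rw [hgdef, res_pow hg₀']; exact pow_mem hh l
  have hgy : Commute (res (out D a) g) (res (out D a) y) := (R.facts.central hK ((R.mem _).mp hyI).2 hgK).symm
  -- `g` fixes `y`
  obtain ⟨o₁, ho₁, hao₁⟩ := P.exists_partner hy.1 haz
  obtain ⟨w, hw, hwe, hwo⟩ := hrig.lift y o a haz hao hyo o₁ ho₁
  have hwa : OddAdj D w a :=
    P.fibre_odd hcon hy.1 ho₁ haz (odd_symm hao₁) (v := w) (w := a) ⟨hw, hwe⟩ ⟨haz, rfl⟩
  have hwg : Commute w g := (commute_of_mem_closure hD (by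
    rintro x (hx | rfl)
    · exact (commute_twin hD hx.2 hw.1 hw.2.1).symm
    · exact hwo.symm) hg).symm
  have hgout : g ∈ outStab D a := P.closure_le_outStab hcon ha hg'
  have he : res (out D a) (g * y * g⁻¹) = res (out D a) y := by
    rw [res_conj hg' (Subgroup.subset_closure hy), hgy.eq, mul_inv_cancel_right]
  have hrt : RTw D a y (g * y * g⁻¹) :=
    (P.res_twins_iff hcon ha hy (hgout.1 y hy)).mp (by rw [he]; exact self_mem_twins hyI)
  have htw := P.twin_of_rtw hcon ha hy (hgout.1 y hy) hrt hw.2.1 ((hwg.mul_right hw.2.1).mul_right hwg.inv_right) hwa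
  have hgy' : Commute g y :=
    mul_inv_eq_iff_eq_mul.mp (hrig.inj y hy.1 a haz _ htw y (self_mem_twins hy.1) he)
  have hgout_y : ∀ s ∈ out D y, Commute g s :=
    P.centralizes_out hcon hrig hsz hy.1 ⟨j, hg2⟩ (by rw [hgy'.eq, mul_inv_cancel_right]) fun u hu => by
      obtain ⟨u', hu', he', hu'o⟩ := hrig.lift y o a haz hao hyo u hu
      exact ⟨u', ⟨hu', he'⟩, commute_of_mem_closure hD (by
        rintro x (hx | rfl)
        · exact (commute_twin hD hx.2 hu'.1 hu'.2.1).symm
        · exact hu'o.symm) hg⟩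
  have hfy : ∀ {v}, v ∈ fibre D a y → v = y ∨ v ∈ out D y := fun {v} hv => by
    by_cases e : commutingMembers D y = commutingMembers D v
    · exact Or.inl (hrig.inj y hy.1 a haz v ⟨hv.1.1, e⟩ y (self_mem_twins hy.1) hv.2)
    · exact Or.inr ⟨hv.1.1, P.fibre_commute hcon ha hv ⟨hy, rfl⟩, e⟩
  have hgv : ∀ v ∈ fibre D a y, Commute g v := fun v hv => by
    rcases hfy hv with rfl | h
    · exact hgy'
    · exact hgout_y v h
  -- the square of `g` in the residual is a member of the block of `y`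
  have hsq : res (out D a) g * res (out D a) g = res (out D a) g₀ * res (out D a) g₀ := by
    obtain ⟨i, rfl⟩ := hl
    rw [hgdef, res_pow hg₀', ← pow_two, ← pow_mul, mul_comm, pow_mul, pow_two, pow_succ, pow_mul,
      show (res (out D a) g₀ * res (out D a) g₀) ^ 2 = 1 by rw [pow_two]; exact R.facts.sq_sq hh, one_pow, one_mul]
  have hgg : res (out D a) g * res (out D a) g ∈ sameCommutingClass (img (out D a)) (res (out D a) y) := by
    rw [R.twins_eq_point hyI hK]
    refine ⟨(R.mem _).mpr ⟨?_, R.facts.sq_sq hgK⟩, mul_mem hgK hgK⟩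
    rw [hsq]; exact hh2
  obtain ⟨y', hy', hy'e⟩ := hrig.full y hy.1 a haz hgg
  have hy'o := P.twin_mem_out hy.1 haz hy'
  have hy'g : y' ∈ outStab D a := P.closure_le_outStab hcon ha (Subgroup.subset_closure hy'o)
  obtain ⟨k, hkdef⟩ : ∃ k, k = g * g * y' := ⟨_, rfl⟩
  have hk : k ∈ Subgroup.closure (out D a) :=
    hkdef ▸ mul_mem (mul_mem hg' hg') (Subgroup.subset_closure hy'o)
  have hk1 : res (out D a) k = 1 := by
    rw [hkdef, res_mul (mul_mem hg' hg') (Subgroup.subset_closure hy'o), res_mul hg' hg', ← hy'e, res_sq hD hS hy'o]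
  have hkv : ∀ v ∈ fibre D a y, Commute k v := fun v hv => by
    have h1 : Commute y' v := by
      rcases hfy hv with rfl | h
      · exact commute_of_twin hD hy'.1 hy'.2
      · exact (commute_twin hD hy'.2 h.1 h.2.1).symm
    exact hkdef ▸ ((hgv v hv).mul_left (hgv v hv)).mul_left h1
  have hrespres : ∀ {x}, x ∈ Subgroup.closure (out D a) → ∀ s ∈ out D a, ∀ t ∈ out D a,
      res (out D a) s = res (out D a) t → res (out D a) (x * s * x⁻¹) = res (out D a) (x * t * x⁻¹) :=
    fun hx s hs t ht e => by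
      rw [res_conj hx (Subgroup.subset_closure hs), res_conj hx (Subgroup.subset_closure ht), e]
  set Y : out D a := ⟨y, hy⟩
  set O : out D a := ⟨o, ho⟩
  have hYO : OddAdj D (Y : G) (O : G) := hyo
  let kk : outStab D a := ⟨k, P.closure_le_outStab hcon ha hk⟩
  let gg : outStab D a := ⟨g, hgout⟩
  let yy : outStab D a := ⟨y', hy'g⟩
  -- commuting with the part at `y`
  have hpart : ∀ (x : outStab D a), (∀ v ∈ fibre D a y, Commute (x : G) v) → ∀ {t}, t ∈ shift D a → t Y = Y →
      outPerm D a x * t * (outPerm D a x)⁻¹ = t := by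
    intro x hx t ht htY
    obtain ⟨y'', he'', hA⟩ := P.shift_fix_gen hcon hrig hsz ha ht hYO htY
    have hxA : Acts (outPerm D a x) (x : G) := fun s => rfl
    refine ((hxA.mul hA).mul hxA.inv).unique ?_
    rwa [show (x : G) * (y * y'') * (x : G)⁻¹ = y * y'' by
      rw [((hx y ⟨hy, rfl⟩).mul_right (hx y'' ⟨y''.2, he''⟩)).eq, mul_inv_cancel_right]]
  have hfixY : ∀ (x : outStab D a), (∀ v ∈ fibre D a y, Commute (x : G) v) → ∀ v : out D a,
      (v : G) ∈ fibre D a y → outPerm D a x v = v ∧ (outPerm D a x)⁻¹ v = v := by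
    intro x hx v hv
    have h1 : outPerm D a x v = v := Subtype.ext (by rw [outPerm_apply, (hx v hv).eq, mul_inv_cancel_right])
    exact ⟨h1, by conv_lhs => rw [← h1]
                  exact Equiv.symm_apply_apply _ _⟩
  have hKc : ∀ {π}, π ∈ shift D a → outPerm D a kk * π * (outPerm D a kk)⁻¹ = π := by
    intro π hπ
    obtain ⟨s, hs, hsY, hsO, -⟩ := P.exists_shift hcon hrig hsz ha (z := Y) (o := O) (z' := π Y) hYO
      (P.shift_res hcon ha hπ Y)
    have ht : s⁻¹ * π ∈ shift D a := mul_mem (inv_mem hs) hπ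
    have htY : (s⁻¹ * π) Y = Y := by
      rw [Equiv.Perm.mul_apply, ← hsY, Equiv.Perm.coe_inv, Equiv.symm_apply_apply]
    have h1 := hpart kk hkv ht htY
    have hs' := P.shift_conj hcon kk (hrespres hk) hs
    have h2 : outPerm D a kk * s * (outPerm D a kk)⁻¹ = s := by
      refine P.shift_ext hcon hrig hsz ha hs' hs hYO ?_ ?_
      · simp only [Equiv.Perm.mul_apply, (hfixY kk hkv Y ⟨hy, rfl⟩).2]
        exact (hfixY kk hkv _ ⟨(s Y).2, P.shift_res hcon ha hs Y⟩).1
      · have h3 : res (out D a) (outPerm D a kk O : G) = res (out D a) o := by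
          rw [outPerm_apply]
          show res (out D a) (k * o * k⁻¹) = res (out D a) o
          rw [res_conj hk (Subgroup.subset_closure ho), hk1, one_mul, inv_one, mul_one]
        rw [P.shift_fix_point hcon hrig hsz ha hs' (z := outPerm D a kk O) (u := O) (by simp [hsO])
          (P.fibre_commute hcon ha (z := o) ⟨(outPerm D a kk O).2, h3⟩ ⟨ho, rfl⟩), hsO]
    calc outPerm D a kk * π * (outPerm D a kk)⁻¹ =
          (outPerm D a kk * s * (outPerm D a kk)⁻¹) * (outPerm D a kk * (s⁻¹ * π) * (outPerm D a kk)⁻¹) := by group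
      _ = π := by rw [h1, h2]; group
  have hGc : ∀ {π}, π ∈ shift D a → outPerm D a (gg * gg) * π * (outPerm D a (gg * gg))⁻¹ = π := by
    intro π hπ
    have hc' := P.shift_conj hcon gg (hrespres hg') hπ
    set π' := outPerm D a gg * π * (outPerm D a gg)⁻¹ with hπ'
    have ht : π⁻¹ * π' ∈ shift D a := mul_mem (inv_mem hπ) hc'
    have htY : (π⁻¹ * π') Y = Y := by
      rw [Equiv.Perm.mul_apply, hπ', Equiv.Perm.mul_apply, Equiv.Perm.mul_apply, (hfixY gg hgv Y ⟨hy, rfl⟩).2,
        (hfixY gg hgv _ ⟨(π Y).2, P.shift_res hcon ha hπ Y⟩).1, Equiv.Perm.coe_inv, Equiv.symm_apply_apply]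
    have h1 := hpart gg hgv ht htY
    have hsq := P.shift_sq hcon hrig hsz ha ht
    calc outPerm D a (gg * gg) * π * (outPerm D a (gg * gg))⁻¹ = outPerm D a gg * π' * (outPerm D a gg)⁻¹ := by
          rw [hπ', map_mul]; group
      _ = π' * (π⁻¹ * π') := by
          conv_lhs => rw [show π' = π * (π⁻¹ * π') by group]
          rw [show outPerm D a gg * (π * (π⁻¹ * π')) * (outPerm D a gg)⁻¹ =
            π' * (outPerm D a gg * (π⁻¹ * π') * (outPerm D a gg)⁻¹) by rw [hπ']; group, h1]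
      _ = π * ((π⁻¹ * π') * (π⁻¹ * π')) := by group
      _ = π := by rw [hsq, mul_one]
  have hkk : kk = gg * gg * yy := Subtype.ext hkdef
  have hYc : ∀ {π}, π ∈ shift D a → outPerm D a yy * π = π * outPerm D a yy := by
    intro π hπ
    have h1 := hKc hπ
    rw [hkk, map_mul] at h1
    have h2 : outPerm D a (gg * gg) * (outPerm D a yy * π * (outPerm D a yy)⁻¹) * (outPerm D a (gg * gg))⁻¹ =
        outPerm D a (gg * gg) * π * (outPerm D a (gg * gg))⁻¹ := by
      rw [hGc hπ]
      conv_rhs => rw [← h1]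
      group
    exact mul_inv_eq_iff_eq_mul.mp (mul_left_cancel (mul_right_cancel h2))
  obtain ⟨v, ⟨hv, hvO⟩, hv1⟩ : ∃ v ∈ {π : Equiv.Perm (out D a) | π ∈ shift D a ∧ π O = O}, v ≠ 1 :=
    Set.exists_ne_of_one_lt_ncard (by
      rw [(P.card_shift hcon hrig hsz ha O).2]; exact P.two_le_fibre hcon hrig hsz ha ho) 1
  have hvO' : v (outPerm D a yy O) = outPerm D a yy O := by
    have := Equiv.ext_iff.mp (hYc hv) O
    rw [Equiv.Perm.mul_apply, Equiv.Perm.mul_apply, hvO] at this
    exact this.symm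
  refine hv1 (P.shift_eq_one hcon hrig hsz ha hv (z := O) (o := outPerm D a yy O)
    ((odd_iff hD ho.1 (outPerm D a yy O).2.1).mpr fun hc => ?_) hvO hvO')
  have hyo' : OddAdj D y' o := odd_twin hD hyo hy'
  have hc' : Commute (o : G) (y' * o * y'⁻¹) := hc
  rw [inv_eq hD.1 hy'.1] at hc'
  have h4 : (y' * o) ^ 4 = 1 := by
    calc (y' * o) ^ 4 = ((y' * o * y') * o) ^ 2 := by simp only [pow_succ, pow_zero, one_mul]; group
      _ = 1 := by
        rw [hc'.symm.mul_pow, pow_two, pow_two, mul_self hD.1 ho.1, mul_one]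
        calc y' * o * y' * (y' * o * y') = y' * o * (y' * y') * o * y' := by group
          _ = y' * (o * o) * y' := by rw [mul_self hD.1 hy'.1, mul_one]; group
          _ = 1 := by rw [mul_self hD.1 ho.1, mul_one, mul_self hD.1 hy'.1]
  have h5 : y' * o = 1 := orderOf_eq_one_iff.mp
    (((Nat.coprime_two_right.mpr hyo'.2.2.2).pow_right 2).eq_one_of_dvd
      ((orderOf_dvd_of_pow_eq_one h4).trans (by norm_num)))
  exact hyo'.2.2.1 (by rw [mul_eq_one_iff_eq_inv.mp h5, inv_eq hD.1 ho.1])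

end IsClassPair

end CfsgLib.OddTrans
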