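import Cfsg.Agent.Lib.OddTrans.Fam

/-!
Triangles in the rank one pairings: outside the Suzuki family a block contains, for every opposite `w`, a member
whose product with `w` has order three; in the Suzuki family a block and an opposite generate.
-/

set_option autoImplicit false
set_option linter.unusedSectionVars false
set_option linter.style.haveILetI false

namespace CfsgLib.OddTrans

open Cfsg MulAction CfsgLib.RankOnePoint
open CfsgLib.RootInv (mul_self inv_eq ne_one odd_symm)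
open scoped Pointwise

universe u

variable {X : Type u} [Group X] [Finite X] {D : Set X}

/-- Every block has, for each opposite of it, a member with product of order three. -/
def HasTriangle (D : Set X) : Prop := ∀ a w, OddAdj D a w → ∃ b ∈ sameCommutingClass D a, orderOf (b * w) = 3

variable {m p e : ℕ} (R : IsRankOnePairing X D m p e)
include R

theorem IsRankOnePairing.points_ne {a w : X} (haw : OddAdj D a w) {A W : Sylow 2 X} (hA : a ∈ (A : Subgroup X))
    (hW : w ∈ (W : Subgroup X)) : W ≠ A := fun e =>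
  not_commute_of_odd R.pair.odd haw ((R.commute_iff haw.1 haw.2.1 hA).mpr (e ▸ hW))

/-- The element of the point of `a` moving the point of `w` to that of `a` moved by `w`. -/
theorem IsRankOnePairing.exists_mover {a w : X} (haw : OddAdj D a w) {A W : Sylow 2 X} (hA : a ∈ (A : Subgroup X))
    (hW : w ∈ (W : Subgroup X)) :
    w • A ≠ A ∧ ∃ r ∈ (A : Subgroup X), r • W = w • A ∧
      (r * r = 1 → r ∈ sameCommutingClass D a ∧ orderOf (r * w) = 3) := by
  haveI := R.pair.simple
  have hne := R.points_ne haw hA hW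
  have hw2 := ((R.mem w).mp haw.2.1).2
  have hwi : w⁻¹ = w := inv_eq_of_mul_eq_one_right hw2
  have h1 : w • A ≠ A := fun e =>
    hne (R.facts.eq_of_mem ((R.mem w).mp haw.2.1).1 hW (R.mem_of_fix hw2 e))
  have h2 : w • A ≠ W := fun e => hne (by
    have := congrArg (fun S => w • S) e
    simp only [← mul_smul, hw2, one_smul] at this
    rw [smul_eq_self hW] at this
    exact this.symm)
  obtain ⟨r, hr, hrW⟩ := R.facts.move hne h1
  refine ⟨h1, r, hr, hrW, fun hr2 => ?_⟩
  have hr1 : r ≠ 1 := fun e => h2 (by rw [← hrW, e, one_smul])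
  have hrD : r ∈ D := (R.mem r).mpr ⟨hr1, hr2⟩
  have hri : r⁻¹ = r := inv_eq_of_mul_eq_one_right hr2
  have hrt : r ∈ sameCommutingClass D a := by
    rw [R.twins_eq_point haw.1 hA]
    exact ⟨hrD, hr⟩
  refine ⟨hrt, ?_⟩
  have m1 : w * r * w ∈ ((w • A : Sylow 2 X) : Subgroup X) := by
    simpa [hwi] using conj_mem_point (g := w) hr
  have m2 : r * w * r ∈ ((w • A : Sylow 2 X) : Subgroup X) := by
    have := conj_mem_point (g := r) hW
    rwa [hri, hrW] at this
  have hwA : w • (w • A) = A := by rw [← mul_smul, hw2, one_smul]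
  have e1 : (w * r * w) • W = A := by rw [mul_smul, mul_smul, smul_eq_self hW, hrW, hwA]
  have e2 : (r * w * r) • W = A := by rw [mul_smul, mul_smul, hrW, hwA, smul_eq_self hr]
  have hkey := R.facts.move_inj h2.symm m1 m2 (e1.trans e2.symm)
  have h3 : (r * w) ^ 3 = 1 := by
    calc (r * w) ^ 3 = (r * w * r) * (w * r * w) := by simp only [pow_succ, pow_zero, one_mul]; group
      _ = (w * r * w) * (w * r * w) := by rw [← hkey]
      _ = w * r * (w * w) * r * w := by group
      _ = 1 := by rw [hw2, mul_one, mul_assoc w r r, hr2, mul_one, hw2]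
  haveI : Fact (Nat.Prime 3) := ⟨Nat.prime_three⟩
  refine orderOf_eq_prime h3 fun e => hne (R.facts.eq_of_mem ((R.mem w).mp haw.2.1).1 hW ?_)
  rwa [mul_eq_one_iff_eq_inv.mp e, hwi] at hr

omit R in
theorem card_pow_eq_one_le_cyclic {H : Subgroup X} {d : X} (hd : d ∈ H) (hH : H = Subgroup.zpowers d) {k : ℕ}
    (hk : 0 < k) : ({x | x ∈ H ∧ x ^ k = 1} : Set X).ncard ≤ k := by
  classical
  haveI : IsCyclic H := isCyclic_iff_exists_zpowers_eq_top.mpr ⟨⟨d, hd⟩, by
    rw [eq_top_iff]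
    rintro ⟨x, hx⟩ -
    obtain ⟨i, hi⟩ := Subgroup.mem_zpowers_iff.mp (hH ▸ hx)
    exact ⟨i, Subtype.ext hi⟩⟩
  haveI := Fintype.ofFinite H
  refine le_trans ?_ (IsCyclic.card_pow_eq_one_le (α := H) hk)
  rw [← Set.ncard_coe_finset, ← Set.ncard_image_of_injective _ Subtype.val_injective]
  refine Set.ncard_le_ncard ?_ (Set.toFinite _)
  rintro x ⟨hx, hxe⟩
  exact ⟨⟨x, hx⟩, by simp [Subtype.ext_iff, hxe], rfl⟩

/-- The torus elements centralising a member of a point are those of exponent `e`. -/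
theorem IsRankOnePairing.cent_iff {A W : Sylow 2 X} (hne : W ≠ A) {a : X} (ha : a ∈ D) (haA : a ∈ (A : Subgroup X))
    {d : X} (hd : d ∈ torus A W) : Commute d a ↔ d ^ e = 1 := by
  haveI := R.pair.simple
  have hcard := R.facts.card_cent hne haA ((R.mem a).mp ha).1 ((R.mem a).mp ha).2
  let L : Subgroup X := torus A W ⊓ Subgroup.centralizer {a}
  have hL : Nat.card L = e := by
    rw [← hcard]
    exact Nat.card_congr (Equiv.subtypeEquivRight fun x => by
      rw [Subgroup.mem_inf, Subgroup.mem_centralizer_singleton_iff])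
  obtain ⟨c, hc, hT⟩ := R.torus_gen hne
  have hLK : (L : Set X) ⊆ {x | x ∈ torus A W ∧ x ^ e = 1} := fun x hx => ⟨hx.1, by
    have := pow_card_eq_one' (G := L) (x := ⟨x, hx⟩)
    rw [hL] at this
    exact congrArg Subtype.val this⟩
  have heq : (L : Set X) = {x | x ∈ torus A W ∧ x ^ e = 1} := Set.eq_of_subset_of_ncard_le hLK
    ((card_pow_eq_one_le_cyclic hc hT R.facts.e_pos).trans
      ((Nat.card_coe_set_eq (L : Set X)).symm.trans hL).ge) (Set.toFinite _)
  refine ⟨fun h => ?_, fun h => ?_⟩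
  · exact (hLK (show d ∈ (L : Set X) from ⟨hd, Subgroup.mem_centralizer_singleton_iff.mpr h.eq⟩)).2
  · have : d ∈ (L : Set X) := heq ▸ ⟨hd, h⟩
    exact Subgroup.mem_centralizer_singleton_iff.mp this.2

/-- A torus element fixing an element of the point modulo the elements of square one forces square one. -/
theorem IsRankOnePairing.sq_of_fpf {A W : Sylow 2 X} (hne : W ≠ A) {d : X} (hd : d ∈ torus A W) (hd1 : d ≠ 1)
    {r : X} (hr : r ∈ (A : Subgroup X)) (h : d * r * d⁻¹ * r⁻¹ * (d * r * d⁻¹ * r⁻¹) = 1) : r * r = 1 := by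
  haveI := R.pair.simple
  let K : Subgroup X :=
    { carrier := {x | x ∈ (A : Subgroup X) ∧ x * x = 1}
      one_mem' := ⟨one_mem _, one_mul 1⟩
      mul_mem' := fun {x y} hx hy => ⟨mul_mem hx.1 hy.1, by
        rw [show x * y * (x * y) = x * (y * x) * y by group, ← R.facts.central hx.1 hx.2 hy.1,
          show x * (x * y) * y = (x * x) * (y * y) by group, hx.2, hy.2, one_mul]⟩
      inv_mem' := fun {x} hx => ⟨inv_mem hx.1, by rw [← mul_inv_rev, hx.2, inv_one]⟩ }
  have hK : ∀ w ∈ K, d * w * d⁻¹ ∈ K := fun w hw => ⟨conj_mem_of_fix (mem_torus.mp hd).1 hw.1, by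
    rw [show d * w * d⁻¹ * (d * w * d⁻¹) = d * (w * w) * d⁻¹ by group, hw.2, mul_one, mul_inv_cancel]⟩
  exact (R.facts.fpf hne hd hd1 (K := K) (fun z hz hz2 => ⟨hz, hz2⟩) (fun x hx => hx.1) hK hr
    ⟨mul_mem (conj_mem_of_fix (mem_torus.mp hd).1 hr) (inv_mem hr), h⟩).2

/-- Outside the Suzuki family every block has triangles. -/
theorem IsRankOnePairing.hasTriangle (hp : p ≠ (2 ^ m) ^ 2) : HasTriangle D := by
  intro a w haw
  haveI := R.pair.simple
  obtain ⟨A, hA⟩ := exists_sylow_mem ((R.mem a).mp haw.1).2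
  obtain ⟨W, hW⟩ := exists_sylow_mem ((R.mem w).mp haw.2.1).2
  have hne := R.points_ne haw hA hW
  obtain ⟨-, r, hr, hrW, htri⟩ := R.exists_mover haw hA hW
  suffices hr2 : r * r = 1 from ⟨r, htri hr2⟩
  have h4 := R.facts.q_four
  rcases R.facts.kind with ⟨hpq, -⟩ | ⟨hpq, -⟩ | ⟨-, he⟩
  · have hall : {x | x ∈ (A : Subgroup X) ∧ x * x = 1} = ((A : Subgroup X) : Set X) := by
      refine Set.eq_of_subset_of_ncard_le (fun x hx => hx.1) ?_ (Set.toFinite _)
      have h1 := R.facts.card_sylow A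
      have h2 := R.facts.card_sq_one A
      rw [show Nat.card (A : Subgroup X) = ((A : Subgroup X) : Set X).ncard from Nat.card_coe_set_eq _] at h1
      rw [show Nat.card {x : X // x ∈ (A : Subgroup X) ∧ x * x = 1} =
        ({x | x ∈ (A : Subgroup X) ∧ x * x = 1} : Set X).ncard from Nat.card_coe_set_eq _] at h2
      rw [h1, h2, hpq]
    have : r ∈ {x | x ∈ (A : Subgroup X) ∧ x * x = 1} := by rw [hall]; exact hr
    exact this.2
  · exact absurd hpq hp
  · have he2 : 2 ≤ e := by omega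
    obtain ⟨c, hc, hT⟩ := R.torus_gen hne
    have hoc : orderOf c = (2 ^ m - 1) * e := by
      rw [← Nat.card_zpowers, ← hT, R.facts.card_torus hne]
    set d := c ^ (2 ^ m - 1) with hd
    have hq : 0 < 2 ^ m - 1 := by omega
    have hdo : orderOf d = e := by
      rw [hd, orderOf_pow_of_dvd hq.ne' (hoc ▸ dvd_mul_right _ _), hoc, Nat.mul_div_cancel_left _ hq]
    have hdT : d ∈ torus A W := pow_mem hc _
    have hd1 : d ≠ 1 := fun e1 => by rw [e1, orderOf_one] at hdo; omega
    have hde : d ^ e = 1 := by rw [← hdo, pow_orderOf_eq_one]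
    have hdw : Commute d w := by
      refine (R.cent_iff hne.symm haw.2.1 hW ?_).mpr hde
      exact mem_torus.mpr ⟨(mem_torus.mp hdT).2, (mem_torus.mp hdT).1⟩
    have hdL : d • (w • A) = w • A := by rw [← mul_smul, hdw.eq, mul_smul, (mem_torus.mp hdT).1]
    have hdr : d * r * d⁻¹ = r := by
      refine R.facts.move_inj hne (conj_mem_of_fix (mem_torus.mp hdT).1 hr) hr ?_
      rw [mul_smul, mul_smul, inv_smul_eq_iff.mpr (mem_torus.mp hdT).2.symm, hrW, hdL]
    exact R.sq_of_fpf hne hdT hd1 hr (by rw [hdr, mul_inv_cancel, one_mul])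

/-- In the Suzuki family the order is prime to three. -/
theorem IsRankOnePairing.three_not_dvd (hp : p = (2 ^ m) ^ 2) : ¬ 3 ∣ Nat.card X := by
  haveI := R.pair.simple
  haveI : Fact (Nat.Prime 2) := ⟨Nat.prime_two⟩
  have h4 := R.facts.q_four
  obtain ⟨hm, he⟩ : Odd m ∧ e = 1 := by
    rcases R.facts.kind with ⟨hk, -⟩ | ⟨-, h1, h2⟩ | ⟨hk, -⟩
    · exfalso; nlinarith
    · exact ⟨h1, h2⟩
    · exfalso
      have : (2 ^ m) ^ 2 < (2 ^ m) ^ 3 := Nat.pow_lt_pow_right (by omega) (by norm_num)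
      omega
  obtain ⟨S⟩ : Nonempty (Sylow 2 X) := inferInstance
  have hX : Nat.card X = p * ((2 ^ m - 1) * 1) * (p + 1) := by
    rw [← Subgroup.card_mul_index (stabilizer X S), R.facts.card_stab, index_stabilizer_of_transitive,
      R.facts.card_points, he]
  have hq3 : 2 ^ m % 3 = 2 := by
    obtain ⟨k, rfl⟩ := hm
    rw [pow_succ, pow_mul, Nat.mul_mod, Nat.pow_mod]
    norm_num
  have hp3 : p % 3 = 1 := by rw [hp, Nat.pow_mod, hq3]
  rw [hX, Nat.dvd_iff_mod_eq_zero, mul_one, Nat.mul_mod, Nat.mul_mod p, hp3, Nat.add_mod, hp3,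
    show (2 ^ m - 1) % 3 = 1 by omega]
  norm_num

/-- In the Suzuki family a block and an opposite generate. -/
theorem IsRankOnePairing.twins_generate (hp : p = (2 ^ m) ^ 2) {a w : X} (haw : OddAdj D a w) :
    Subgroup.closure (sameCommutingClass D a ∪ {w}) = ⊤ := by
  classical
  haveI := R.pair.simple
  have hD := R.pair.odd
  have h4 := R.facts.q_four
  have he : e = 1 := by
    rcases R.facts.kind with ⟨-, h⟩ | ⟨-, -, h⟩ | ⟨hk, -⟩
    · exact h
    · exact h
    · have : (2 ^ m) ^ 2 < (2 ^ m) ^ 3 := Nat.pow_lt_pow_right (by omega) (by norm_num)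
      omega
  obtain ⟨A, hA⟩ := exists_sylow_mem ((R.mem a).mp haw.1).2
  obtain ⟨W, hW⟩ := exists_sylow_mem ((R.mem w).mp haw.2.1).2
  have hne := R.points_ne haw hA hW
  obtain ⟨hLA, r, hr, hrW, htri⟩ := R.exists_mover haw hA hW
  have hr2 : r * r ≠ 1 := fun h2 => R.three_not_dvd hp ((htri h2).2 ▸ orderOf_dvd_natCard _)
  set Y := Subgroup.closure (sameCommutingClass D a ∪ {w}) with hY
  have hwY : w ∈ Y := Subgroup.subset_closure (Or.inr rfl)
  let Z : Set X := {z | z ∈ (A : Subgroup X) ∧ z * z = 1}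
  have hZY : ∀ z ∈ Z, z ∈ Y := by
    rintro z ⟨hz, hz2⟩
    rcases eq_or_ne z 1 with rfl | hz1
    · exact one_mem _
    · refine Subgroup.subset_closure (Or.inl ?_)
      rw [R.twins_eq_point haw.1 hA]
      exact ⟨(R.mem z).mpr ⟨hz1, hz2⟩, hz⟩
  have hb' : ∀ b ∈ sameCommutingClass D a, OddAdj D b w ∧ b ∈ (A : Subgroup X) ∧ swap b w ∈ Y := fun b hb =>
    ⟨odd_twin hD haw hb, by rw [R.twins_eq_point haw.1 hA] at hb; exact hb.2,
      (Subgroup.closure_le _).mpr (by
        rintro x (rfl | rfl)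
        · exact Subgroup.subset_closure (Or.inl hb)
        · exact hwY) (swap_mem_closure hD b w)⟩
  have haa := self_mem_twins (D := D) haw.1
  obtain ⟨s1, s2⟩ := R.swap_smul (hb' a haa).1 hA hW
  have hTY : ∀ t ∈ torus A W, t ∈ Y := by
    have hsub : (fun b => swap a w * swap b w) '' sameCommutingClass D a ⊆ (torus A W : Set X) := by
      rintro _ ⟨b, hb, rfl⟩
      obtain ⟨h1, h2⟩ := R.swap_smul (hb' b hb).1 (hb' b hb).2.1 hW
      exact mem_torus.mpr ⟨by rw [mul_smul, h1, s2], by rw [mul_smul, h2, s1]⟩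
    have heq := Set.eq_of_subset_of_ncard_le hsub (by
      rw [Set.InjOn.ncard_image fun b hb b' hb'' e => ?_, R.ncard_twins haw.1,
        show (torus A W : Set X).ncard = Nat.card (torus A W) from (Nat.card_coe_set_eq _).symm,
        R.facts.card_torus hne, he, mul_one]
      have e' : swap b w = swap b' w := mul_left_cancel e
      rw [← swap_back hD (hb' b hb).1, e', swap_back hD (hb' b' hb'').1]) (Set.toFinite _)
    intro t ht
    obtain ⟨b, hb, rfl⟩ := heq.symm.subset ht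
    exact mul_mem (hb' a haa).2.2 (hb' b hb).2.2
  -- the two families of points
  have hfree : ∀ z ∈ Z, ∀ t ∈ torus A W, (z * t) • (w • A) = w • A → z = 1 ∧ t = 1 := by
    intro z hz t ht e1
    have h1 : z * (t * r * t⁻¹) = r := by
      refine R.facts.move_inj hne (mul_mem hz.1 (conj_mem_of_fix (mem_torus.mp ht).1 hr)) hr ?_
      rw [mul_smul, mul_smul, mul_smul, inv_smul_eq_iff.mpr (mem_torus.mp ht).2.symm, hrW, ← mul_smul z t]
      exact e1
    by_cases ht1 : t = 1
    · refine ⟨?_, ht1⟩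
      rwa [ht1, one_mul, inv_one, mul_one, mul_eq_right] at h1
    · exfalso
      refine hr2 (R.sq_of_fpf hne ht ht1 hr ?_)
      have h2 : t * r * t⁻¹ * r⁻¹ = z⁻¹ := by
        conv_lhs => arg 2; rw [← h1]
        group
      rw [h2, ← mul_inv_rev, hz.2, inv_one]
  have hZmul : ∀ {z z'}, z ∈ Z → z' ∈ Z → z * z' ∈ Z := fun {z z'} hz hz' => ⟨mul_mem hz.1 hz'.1, by
    rw [show z * z' * (z * z') = z * (z' * z) * z' by group, ← R.facts.central hz.1 hz.2 hz'.1,
      show z * (z * z') * z' = (z * z) * (z' * z') by group, hz.2, hz'.2, one_mul]⟩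
  have hZconj : ∀ {z t}, z ∈ Z → t ∈ torus A W → t⁻¹ * z * t ∈ Z := fun {z t} hz ht => ⟨by
    simpa using conj_mem_of_fix (mem_torus.mp (inv_mem ht)).1 hz.1, by
    rw [show t⁻¹ * z * t * (t⁻¹ * z * t) = t⁻¹ * (z * z) * t by group, hz.2, mul_one, inv_mul_cancel]⟩
  have hZinv : ∀ {z}, z ∈ Z → z⁻¹ = z := fun hz => inv_eq_of_mul_eq_one_right hz.2
  have horb : ∀ S : Sylow 2 X, ∃ y ∈ Y, y • A = S := by
    let Φ : X × X → Sylow 2 X := fun v => (v.1 * v.2) • (w • A)
    let P1 : Set (Sylow 2 X) := Φ '' (Z ×ˢ (torus A W : Set X))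
    let P2 : Set (Sylow 2 X) := (fun z => z • W) '' Z
    have hcardZ : Z.ncard = 2 ^ m := (Nat.card_coe_set_eq _).symm.trans (R.facts.card_sq_one A)
    have hP1 : P1.ncard = 2 ^ m * (2 ^ m - 1) := by
      rw [Set.InjOn.ncard_image ?_, Set.ncard_prod, hcardZ,
        show (torus A W : Set X).ncard = Nat.card (torus A W) from (Nat.card_coe_set_eq _).symm,
        R.facts.card_torus hne, he, mul_one]
      rintro ⟨z, t⟩ ⟨hz, ht⟩ ⟨z', t'⟩ ⟨hz', ht'⟩ e1
      have e1 : (z * t) • (w • A) = (z' * t') • (w • A) := e1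
      have h1 := hfree (t⁻¹ * (z * z') * t) (hZconj (hZmul hz hz') ht) (t⁻¹ * t') (mul_mem (inv_mem ht) ht') (by
        rw [show t⁻¹ * (z * z') * t * (t⁻¹ * t') = (z * t)⁻¹ * (z' * t') by
          rw [mul_inv_rev, hZinv hz]; group, mul_smul, ← e1, inv_smul_smul])
      have hzz : z * z' = 1 := by
        calc z * z' = t * (t⁻¹ * (z * z') * t) * t⁻¹ := by group
          _ = 1 := by rw [h1.1]; group
      exact Prod.ext (by rw [mul_eq_one_iff_eq_inv.mp hzz, hZinv hz']) (inv_mul_eq_one.mp h1.2)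
    have hP2 : P2.ncard = 2 ^ m := by
      rw [Set.InjOn.ncard_image fun z hz z' hz' e1 => R.facts.move_inj hne hz.1 hz'.1 e1, hcardZ]
    have hP12 : Disjoint P1 P2 := by
      refine Set.disjoint_left.mpr ?_
      rintro _ ⟨⟨z, t⟩, ⟨hz, ht⟩, rfl⟩ ⟨z', hz', e1⟩
      have e1 : z' • W = (z * t) • (w • A) := e1
      refine hr2 ?_
      have h1 : r = t⁻¹ * (z * z') * t := by
        refine R.facts.move_inj hne hr (hZconj (hZmul hz hz') ht).1 ?_
        rw [hrW, show t⁻¹ * (z * z') * t = (z * t)⁻¹ * (z' * t) by rw [mul_inv_rev, hZinv hz]; group, mul_smul,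
          mul_smul z', (mem_torus.mp ht).2, e1, inv_smul_smul]
      exact h1 ▸ (hZconj (hZmul hz hz') ht).2
    have hA12 : A ∉ P1 ∪ P2 := by
      rintro (⟨⟨z, t⟩, ⟨hz, ht⟩, e1⟩ | ⟨z, hz, e1⟩)
      · refine hLA ?_
        have e1 : (z * t) • (w • A) = A := e1
        rw [← eq_inv_smul_iff] at e1
        rw [e1, inv_smul_eq_iff, mul_smul, (mem_torus.mp ht).1, smul_eq_self hz.1]
      · refine hne ?_
        have e1 : z • W = A := e1
        rw [← eq_inv_smul_iff] at e1
        rw [e1, inv_smul_eq_iff, smul_eq_self hz.1]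
    have hall : insert A (P1 ∪ P2) = Set.univ := by
      refine Set.eq_of_subset_of_ncard_le (Set.subset_univ _) ?_ (Set.toFinite _)
      rw [Set.ncard_insert_of_notMem hA12, Set.ncard_union_eq hP12, hP1, hP2, Set.ncard_univ, R.facts.card_points,
        hp, Nat.mul_sub_one, Nat.sub_add_cancel (Nat.le_mul_self _), sq]
    intro S
    rcases (hall.symm.subset (Set.mem_univ S)) with rfl | ⟨⟨z, t⟩, ⟨hz, ht⟩, rfl⟩ | ⟨z, hz, rfl⟩
    · exact ⟨1, one_mem _, one_smul _ _⟩
    · exact ⟨z * t * w, mul_mem (mul_mem (hZY z hz) (hTY t ht)) hwY, mul_smul _ _ _⟩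
    · exact ⟨z * swap a w, mul_mem (hZY z hz) (hb' a haa).2.2, by rw [mul_smul, s1]⟩
  rw [eq_top_iff, ← hD.1.generates, Subgroup.closure_le]
  intro x hx
  obtain ⟨S, hS⟩ := exists_sylow_mem ((R.mem x).mp hx).2
  obtain ⟨y, hy, rfl⟩ := horb S
  have h1 : y⁻¹ * x * y ∈ sameCommutingClass D a := by
    rw [R.twins_eq_point haw.1 hA]
    refine ⟨by simpa using hD.1.conj_mem x hx y⁻¹, ?_⟩
    simpa using conj_mem_point (g := y⁻¹) hS
  have := mul_mem (mul_mem hy (Subgroup.subset_closure (Or.inl h1) : y⁻¹ * x * y ∈ Y)) (inv_mem hy)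
  rwa [show y * (y⁻¹ * x * y) * y⁻¹ = x by group] at this

end CfsgLib.OddTrans
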