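import Cfsg.Agent.Lib.OddTrans.Main
import Cfsg.Agent.Lib.OddTrans.Tri

/-!
Residuals in the Suzuki family: the group of translations of the fibres at a point.

The products of two members of one fibre act on `out D a` as an abelian group of exponent two, sharply transitive on
the pairs of fibres of two opposite members; it has order `f²`, and its subgroups fixing the fibres of one point
meet pairwise trivially.
-/

set_option autoImplicit false
set_option linter.unusedSectionVars false
set_option linter.style.haveILetI false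

namespace CfsgLib.OddTrans

open Cfsg MulAction CfsgLib.RankOnePoint
open CfsgLib.RootInv (mul_self inv_eq ne_one odd_symm odd_conj)

universe u

variable {G : Type u} [Group G] {D : Set G}

/-- Every residual is in the Suzuki family. -/
def SuzukiResiduals [Finite G] (D : Set G) : Prop :=
  ∀ a ∈ D, ∃ m, IsRankOnePairing (Res (out D a)) (img (out D a)) m ((2 ^ m) ^ 2) 1

/-- The elements permuting `out D a`. -/
def outStab (D : Set G) (a : G) : Subgroup G where
  carrier := {g | (∀ s ∈ out D a, g * s * g⁻¹ ∈ out D a) ∧ ∀ s ∈ out D a, g⁻¹ * s * g ∈ out D a}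
  one_mem' := ⟨fun s hs => by simpa using hs, fun s hs => by simpa using hs⟩
  mul_mem' := fun {x y} hx hy => ⟨fun s hs => by
      rw [show x * y * s * (x * y)⁻¹ = x * (y * s * y⁻¹) * x⁻¹ by group]; exact hx.1 _ (hy.1 s hs),
    fun s hs => by
      rw [show (x * y)⁻¹ * s * (x * y) = y⁻¹ * (x⁻¹ * s * x) * y by group]; exact hy.2 _ (hx.2 s hs)⟩
  inv_mem' := fun {x} hx => ⟨fun s hs => by simpa using hx.2 s hs, fun s hs => by simpa using hx.1 s hs⟩

/-- Conjugation on `out D a`. -/
def outPerm (D : Set G) (a : G) : outStab D a →* Equiv.Perm (out D a) where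
  toFun g :=
    { toFun := fun s => ⟨g * s * (g : G)⁻¹, g.2.1 s s.2⟩
      invFun := fun s => ⟨(g : G)⁻¹ * s * g, g.2.2 s s.2⟩
      left_inv := fun s => Subtype.ext (show (g : G)⁻¹ * (g * s * (g : G)⁻¹) * g = s by group)
      right_inv := fun s => Subtype.ext (show (g : G) * ((g : G)⁻¹ * s * g) * (g : G)⁻¹ = s by group) }
  map_one' := Equiv.ext fun s => Subtype.ext (by simp)
  map_mul' g h := Equiv.ext fun s => Subtype.ext (by
    show (g : G) * h * s * ((g : G) * h)⁻¹ = g * (h * s * (h : G)⁻¹) * (g : G)⁻¹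
    group)

theorem outPerm_apply {a : G} (g : outStab D a) (s : out D a) :
    ((outPerm D a g s : out D a) : G) = g * s * (g : G)⁻¹ := rfl

/-- The permutation is conjugation by the element. -/
def Acts {a : G} (π : Equiv.Perm (out D a)) (k : G) : Prop := ∀ s : out D a, (π s : G) = k * s * k⁻¹

theorem Acts.unique {a : G} {π ρ : Equiv.Perm (out D a)} {k : G} (h : Acts π k) (h' : Acts ρ k) : π = ρ :=
  Equiv.ext fun s => Subtype.ext ((h s).trans (h' s).symm)

theorem Acts.mul {a : G} {π ρ : Equiv.Perm (out D a)} {k l : G} (h : Acts π k) (h' : Acts ρ l) :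
    Acts (π * ρ) (k * l) := fun s => by
  rw [Equiv.Perm.mul_apply, h, h']; group

theorem Acts.inv {a : G} {π : Equiv.Perm (out D a)} {k : G} (h : Acts π k) : Acts π⁻¹ k⁻¹ := fun s => by
  have := h (π⁻¹ s)
  rw [Equiv.Perm.coe_inv, Equiv.apply_symm_apply] at this
  rw [Equiv.Perm.coe_inv, this]
  group

theorem acts_one (a : G) : Acts (1 : Equiv.Perm (out D a)) 1 := fun s => by simp

/-- The group of the products of two members of one fibre, acting on `out D a`. -/
def shift (D : Set G) (a : G) : Subgroup (Equiv.Perm (out D a)) :=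
  Subgroup.closure {π | ∃ z z' : out D a, res (out D a) (z' : G) = res (out D a) z ∧ Acts π ((z : G) * z')}

namespace IsClassPair

variable [Finite G] (P : IsClassPair G D) (hcon : IsConnectedSet (CommAdj D) D)
include P hcon

theorem closure_le_outStab {a : G} (ha : a ∈ D) : Subgroup.closure (out D a) ≤ outStab D a := fun _ hg =>
  ⟨conj_closure P.odd (P.out_isSub hcon ha) hg, conj_closure' P.odd (P.out_isSub hcon ha) hg⟩

/-- Every translation is conjugation by a kernel element. -/
theorem shift_lift {a : G} (ha : a ∈ D) {π : Equiv.Perm (out D a)} (hπ : π ∈ shift D a) :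
    ∃ k ∈ Subgroup.closure (out D a), res (out D a) k = 1 ∧ Acts π k := by
  induction hπ using Subgroup.closure_induction with
  | mem π h =>
    obtain ⟨z, z', he, hA⟩ := h
    exact ⟨_, mul_mem (Subgroup.subset_closure z.2) (Subgroup.subset_closure z'.2),
      P.res_prod_fibre hcon ha (z := z) ⟨z.2, rfl⟩ ⟨z'.2, he⟩, hA⟩
  | one => exact ⟨1, one_mem _, res_one, acts_one a⟩
  | mul x y _ _ hx hy =>
    obtain ⟨k, hk, hk1, hA⟩ := hx
    obtain ⟨l, hl, hl1, hB⟩ := hy
    exact ⟨k * l, mul_mem hk hl, by rw [res_mul hk hl, hk1, hl1, one_mul], hA.mul hB⟩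
  | inv x _ hx =>
    obtain ⟨k, hk, hk1, hA⟩ := hx
    exact ⟨k⁻¹, inv_mem hk, by rw [res_inv hk, hk1, inv_one], hA.inv⟩

theorem shift_res {a : G} (ha : a ∈ D) {π : Equiv.Perm (out D a)} (hπ : π ∈ shift D a) (s : out D a) :
    res (out D a) (π s : G) = res (out D a) s := by
  obtain ⟨k, hk, hk1, hA⟩ := P.shift_lift hcon ha hπ
  rw [hA, res_conj hk (Subgroup.subset_closure s.2), hk1, one_mul, inv_one, mul_one]

/-- Conjugation by an element respecting the fibres normalises the translations. -/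
theorem shift_conj {a : G} (g : outStab D a)
    (hg : ∀ s ∈ out D a, ∀ t ∈ out D a, res (out D a) s = res (out D a) t →
      res (out D a) ((g : G) * s * (g : G)⁻¹) = res (out D a) ((g : G) * t * (g : G)⁻¹))
    {π : Equiv.Perm (out D a)} (hπ : π ∈ shift D a) : outPerm D a g * π * (outPerm D a g)⁻¹ ∈ shift D a := by
  induction hπ using Subgroup.closure_induction with
  | mem π h =>
    obtain ⟨z, z', he, hA⟩ := h
    have hgA : Acts (outPerm D a g) g := fun s => rfl
    refine Subgroup.subset_closure ⟨⟨_, g.2.1 z z.2⟩, ⟨_, g.2.1 z' z'.2⟩, hg _ z'.2 _ z.2 he, ?_⟩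
    have := (hgA.mul hA).mul hgA.inv
    rwa [show (g : G) * (z * z') * (g : G)⁻¹ = g * z * (g : G)⁻¹ * (g * z' * (g : G)⁻¹) by group] at this
  | one => simp
  | mul x y _ _ hx hy =>
    have := mul_mem hx hy
    rwa [show outPerm D a g * x * (outPerm D a g)⁻¹ * (outPerm D a g * y * (outPerm D a g)⁻¹) =
      outPerm D a g * (x * y) * (outPerm D a g)⁻¹ by group] at this
  | inv x _ hx =>
    have := inv_mem hx
    rwa [show (outPerm D a g * x * (outPerm D a g)⁻¹)⁻¹ = outPerm D a g * x⁻¹ * (outPerm D a g)⁻¹ by group] at this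

theorem fibre_comm_cl {a : G} (ha : a ∈ D) (z : out D a) {t : G}
    (ht : t ∈ Subgroup.closure ((fun z' => (z : G) * z') '' fibre D a z)) :
    ∀ v ∈ fibre D a z, Commute t v := fun v hv =>
  commute_of_mem_closure P.odd (by
    rintro _ ⟨z', hz', rfl⟩
    exact (P.fibre_commute hcon ha (⟨z.2, rfl⟩ : (z : G) ∈ fibre D a z) hv).mul_left
      (P.fibre_commute hcon ha hz' hv)) ht

variable (hrig : IsRigid D)
include hrig

/-- A kernel element commuting with a member centralises its block. -/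
theorem fix_twins {a z b k : G} (ha : a ∈ D) (hz : z ∈ out D a) (hk : k ∈ Subgroup.closure (out D a))
    (hk1 : res (out D a) k = 1) (hc : Commute k z) (hb : b ∈ sameCommutingClass D z) : Commute k b := by
  have haz := out_symm ha hz
  have hbo := P.twin_mem_out hz.1 haz hb
  have h1 : k * b * k⁻¹ ∈ sameCommutingClass D z := by
    refine ⟨P.odd.1.conj_mem b hb.1 k, ?_⟩
    rw [commutingMembers_conj P.odd, ← hb.2, ← commutingMembers_conj P.odd, hc.eq, mul_inv_cancel_right]
  have h2 : res (out D a) (k * b * k⁻¹) = res (out D a) b := by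
    rw [res_conj hk (Subgroup.subset_closure hbo), hk1, one_mul, inv_one, mul_one]
  exact mul_inv_eq_iff_eq_mul.mp (hrig.inj z hz.1 a haz _ h1 b hb h2)

variable (hsz : SuzukiResiduals D)
include hsz

/-- A member of the residual is conjugate to that of `z` by the group of the block of `z` and an opposite. -/
theorem exists_mover_out {a z o : G} (ha : a ∈ D) (hz : z ∈ out D a) (ho : o ∈ out D a) (hzo : OddAdj D z o)
    (r : Res (out D a)) : ∃ g ∈ Subgroup.closure (sameCommutingClass D z ∪ {o}),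
      g ∈ Subgroup.closure (out D a) ∧ res (out D a) g = r := by
  obtain ⟨m, R⟩ := hsz a ha
  have hS := P.out_isSub hcon ha
  have hle : Subgroup.closure (sameCommutingClass D z ∪ {o}) ≤ Subgroup.closure (out D a) :=
    (Subgroup.closure_le _).mpr (by
      rintro x (hx | rfl)
      · exact Subgroup.subset_closure (P.twin_mem_out hz.1 (out_symm ha hz) hx)
      · exact Subgroup.subset_closure ho)
  have hr : r ∈ Subgroup.closure (sameCommutingClass (img (out D a)) (res (out D a) z) ∪ {res (out D a) o}) := by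
    rw [R.twins_generate rfl (odd_res P.odd hS hz ho hzo)]
    exact Subgroup.mem_top r
  suffices h : ∃ g ∈ Subgroup.closure (sameCommutingClass D z ∪ {o}), res (out D a) g = r by
    obtain ⟨g, hg, e⟩ := h
    exact ⟨g, hg, hle hg, e⟩
  induction hr using Subgroup.closure_induction with
  | mem x hx =>
    rcases hx with hx | rfl
    · obtain ⟨b, hb, rfl⟩ := hrig.full z hz.1 a (out_symm ha hz) hx
      exact ⟨b, Subgroup.subset_closure (Or.inl hb), rfl⟩
    · exact ⟨o, Subgroup.subset_closure (Or.inr rfl), rfl⟩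
  | one => exact ⟨1, one_mem _, res_one⟩
  | mul x y _ _ hx hy =>
    obtain ⟨g, hg, rfl⟩ := hx
    obtain ⟨l, hl, rfl⟩ := hy
    exact ⟨g * l, mul_mem hg hl, res_mul (hle hg) (hle hl)⟩
  | inv x _ hx =>
    obtain ⟨g, hg, rfl⟩ := hx
    exact ⟨g⁻¹, inv_mem hg, res_inv (hle hg)⟩

/-- A kernel element centralising a fibre and an opposite centralises `out D a`. -/
theorem centralizes_of_fibre {a z o k : G} (ha : a ∈ D) (hz : z ∈ out D a) (ho : o ∈ out D a) (hzo : OddAdj D z o)
    (hk : k ∈ Subgroup.closure (out D a)) (hk1 : res (out D a) k = 1) (hkz : ∀ v ∈ fibre D a z, Commute k v)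
    (hko : Commute k o) : ∀ s ∈ out D a, Commute k s := by
  intro s hs
  have hR := P.residual hcon ha
  obtain ⟨r, hr⟩ := hR.cl.2.2 (res (out D a) z) ⟨z, hz, rfl⟩ (res (out D a) s) ⟨s, hs, rfl⟩
  obtain ⟨g, hg, hg', rfl⟩ := P.exists_mover_out hcon hrig hsz ha hz ho hzo r
  have hkg : Commute k g := (commute_of_mem_closure P.odd (by
    rintro x (hx | rfl)
    · exact (P.fix_twins hcon hrig ha hz hk hk1 (hkz z ⟨hz, rfl⟩) hx).symm
    · exact hko.symm) hg).symm
  have hv : g⁻¹ * s * g ∈ fibre D a z := by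
    refine ⟨conj_closure' P.odd (P.out_isSub hcon ha) hg' s hs, ?_⟩
    rw [res_mul (mul_mem (inv_mem hg') (Subgroup.subset_closure hs)) hg',
      res_mul (inv_mem hg') (Subgroup.subset_closure hs), res_inv hg', hr]
    group
  have h1 := (hkg.mul_right (hkz _ hv)).mul_right hkg.inv_right
  rwa [show g * (g⁻¹ * s * g) * g⁻¹ = s by group] at h1

theorem shift_gen_comm {a : G} (ha : a ∈ D) {z z' u u' : out D a} (he : res (out D a) (z' : G) = res (out D a) z)
    (he' : res (out D a) (u' : G) = res (out D a) u) {π ρ : Equiv.Perm (out D a)} (hπ : Acts π ((z : G) * z'))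
    (hρ : Acts ρ ((u : G) * u')) : π * ρ = ρ * π := by
  have hS := P.out_isSub hcon ha
  have hz' : (z' : G) ∈ fibre D a z := ⟨z'.2, he⟩
  have hu' : (u' : G) ∈ fibre D a u := ⟨u'.2, he'⟩
  by_cases hc : Commute (z : G) u
  · have key : ∀ {v w : G}, v ∈ fibre D a z → w ∈ fibre D a u → Commute v w := fun hv hw =>
      (res_commute_iff P.odd hS hv.1 hw.1).mp (by
        rw [hv.2, hw.2]; exact (res_commute_iff P.odd hS z.2 u.2).mpr hc)
    have : Commute ((z : G) * z') ((u : G) * u') :=
      ((key ⟨z.2, rfl⟩ ⟨u.2, rfl⟩).mul_right (key ⟨z.2, rfl⟩ hu')).mul_left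
        ((key hz' ⟨u.2, rfl⟩).mul_right (key hz' hu'))
    exact (hπ.mul hρ).unique (this.eq ▸ hρ.mul hπ)
  · have hzu : OddAdj D (z : G) u := (odd_iff P.odd z.2.1 u.2.1).mpr hc
    have h1 : (z : G) * z' ∈ Subgroup.closure ((fun w => (z : G) * w) '' fibre D a z) :=
      Subgroup.subset_closure ⟨_, hz', rfl⟩
    have h2 : (u : G) * u' ∈ Subgroup.closure ((fun w => (u : G) * w) '' fibre D a u) :=
      Subgroup.subset_closure ⟨_, hu', rfl⟩
    obtain ⟨d, hd⟩ : ∃ d : G, d = (z : G) * z' := ⟨_, rfl⟩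
    obtain ⟨s, hs⟩ : ∃ s : G, s = (u : G) * u' := ⟨_, rfl⟩
    rw [← hd] at h1 hπ
    rw [← hs] at h2 hρ
    obtain ⟨r1, -⟩ := P.pairGroup_res hcon ha z.2 h1
    obtain ⟨r2, -⟩ := P.pairGroup_res hcon ha u.2 h2
    have c1 := P.pairGroup_le z.2 h1
    have c2 := P.pairGroup_le u.2 h2
    have k1 : d * s * d⁻¹ * s⁻¹ ∈ Subgroup.closure ((fun w => (z : G) * w) '' fibre D a z) := by
      have := mul_mem h1 (P.pairGroup_normal hcon ha z.2 c2 r2 (inv_mem h1))
      rwa [← mul_assoc, ← mul_assoc] at this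
    have k2 : d * s * d⁻¹ * s⁻¹ ∈ Subgroup.closure ((fun w => (u : G) * w) '' fibre D a u) :=
      mul_mem (P.pairGroup_normal hcon ha u.2 c1 r1 h2) (inv_mem h2)
    have hcen := P.centralizes_of_fibre hcon hrig hsz ha z.2 u.2 hzu (P.pairGroup_le z.2 k1)
      (P.pairGroup_res hcon ha z.2 k1).1 (P.fibre_comm_cl hcon ha z k1) (P.fibre_comm_cl hcon ha u k2 u ⟨u.2, rfl⟩)
    refine Equiv.ext fun x => Subtype.ext ?_
    rw [(hπ.mul hρ) x, (hρ.mul hπ) x]
    have h3 := hcen _ (conj_closure P.odd hS (mul_mem c2 c1) x x.2)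
    calc d * s * x * (d * s)⁻¹ = (d * s * d⁻¹ * s⁻¹) * (s * d * x * (s * d)⁻¹) * (d * s * d⁻¹ * s⁻¹)⁻¹ := by group
      _ = s * d * x * (s * d)⁻¹ := by rw [h3.eq, mul_inv_cancel_right]

theorem shift_comm {a : G} (ha : a ∈ D) {π ρ : Equiv.Perm (out D a)} (hπ : π ∈ shift D a) (hρ : ρ ∈ shift D a) :
    π * ρ = ρ * π := by
  set S := {π : Equiv.Perm (out D a) | ∃ z z' : out D a,
    res (out D a) (z' : G) = res (out D a) z ∧ Acts π ((z : G) * z')} with hSdef
  have h1 : shift D a ≤ Subgroup.centralizer S := (Subgroup.closure_le _).mpr (by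
    rintro x ⟨z, z', he, hx⟩
    refine Subgroup.mem_centralizer_iff.mpr ?_
    rintro y ⟨u, u', he', hy⟩
    exact P.shift_gen_comm hcon hrig hsz ha he' he hy hx)
  have h2 : ρ ∈ Subgroup.centralizer ((shift D a : Subgroup (Equiv.Perm (out D a))) : Set _) := by
    rw [shift, Subgroup.centralizer_closure]; exact h1 hρ
  exact Subgroup.mem_centralizer_iff.mp h2 π hπ

theorem shift_apply_comm {a : G} (ha : a ∈ D) {π ρ : Equiv.Perm (out D a)} (hπ : π ∈ shift D a)
    (hρ : ρ ∈ shift D a) (s : out D a) : π (ρ s) = ρ (π s) :=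
  Equiv.ext_iff.mp (P.shift_comm hcon hrig hsz ha hπ hρ) s

theorem shift_sq {a : G} (ha : a ∈ D) {π : Equiv.Perm (out D a)} (hπ : π ∈ shift D a) : π * π = 1 := by
  induction hπ using Subgroup.closure_induction with
  | mem π h =>
    obtain ⟨z, z', he, hA⟩ := h
    refine (hA.mul hA).unique ?_
    rw [show (z : G) * z' * ((z : G) * z') = 1 by
      rw [← pow_two, (P.fibre_commute hcon ha (⟨z.2, rfl⟩ : (z : G) ∈ fibre D a z) ⟨z'.2, he⟩).mul_pow, pow_two,
        pow_two, mul_self P.odd.1 z.2.1, mul_self P.odd.1 z'.2.1, one_mul]]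
    exact acts_one a
  | one => simp
  | mul x y hx hy h1 h2 =>
    rw [show x * y * (x * y) = x * (y * x) * y by group, ← P.shift_comm hcon hrig hsz ha hx hy,
      show x * (x * y) * y = x * x * (y * y) by group, h1, h2, one_mul]
  | inv x _ h => rw [← mul_inv_rev, h, inv_one]

/-- The translation moving `z` to a given member of its fibre and fixing an opposite. -/
theorem exists_shift {a : G} (ha : a ∈ D) {z o z' : out D a} (hzo : OddAdj D (z : G) o)
    (he : res (out D a) (z' : G) = res (out D a) z) :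
    ∃ π ∈ shift D a, π z = z' ∧ π o = o ∧
      ∃ o' : out D a, res (out D a) (o' : G) = res (out D a) o ∧ Acts π ((o : G) * o') := by
  obtain ⟨o', h', e⟩ := P.pair_map_surj hcon ha z.2 o.2 hzo (show (z' : G) ∈ fibre D a z from ⟨z'.2, he⟩)
  have hst : (o : G) * o' ∈ outStab D a :=
    P.closure_le_outStab hcon ha (mul_mem (Subgroup.subset_closure o.2) (Subgroup.subset_closure h'.1))
  refine ⟨outPerm D a ⟨_, hst⟩, Subgroup.subset_closure ⟨o, ⟨o', h'.1⟩, h'.2, fun _ => rfl⟩, Subtype.ext e,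
    Subtype.ext ?_, ⟨o', h'.1⟩, h'.2, fun _ => rfl⟩
  show (o : G) * o' * o * ((o : G) * o')⁻¹ = o
  rw [((Commute.refl (o : G)).mul_left (P.fibre_commute hcon ha h' ⟨o.2, rfl⟩)).eq, mul_inv_cancel_right]

/-- A translation fixing a member fixes every member commuting with it. -/
theorem shift_fix_point {a : G} (ha : a ∈ D) {π : Equiv.Perm (out D a)} (hπ : π ∈ shift D a) {z u : out D a}
    (hz : π z = z) (hc : Commute (z : G) u) : π u = u := by
  have hfib : ∀ {z z' : out D a}, π z = z → res (out D a) (z' : G) = res (out D a) z → π z' = z' := by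
    intro z z' hz he
    obtain ⟨o, ho, hzo⟩ := P.exists_partner ha z.2
    obtain ⟨t, ht, htz, -⟩ := P.exists_shift hcon hrig hsz ha (z := z) (o := ⟨o, ho⟩) hzo he
    rw [← htz, P.shift_apply_comm hcon hrig hsz ha hπ ht, hz]
  obtain ⟨m, R⟩ := hsz a ha
  have hS := P.out_isSub hcon ha
  obtain ⟨b, hb, hbu⟩ := hrig.full z z.2.1 a (out_symm ha z.2)
    (show res (out D a) (u : G) ∈ sameCommutingClass (img (out D a)) (res (out D a) z) from
      ⟨⟨_, u.2, rfl⟩, R.cm_eq_of_commute ⟨_, z.2, rfl⟩ ⟨_, u.2, rfl⟩ ((res_commute_iff P.odd hS z.2 u.2).mpr hc)⟩)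
  have hbo := P.twin_mem_out z.2.1 (out_symm ha z.2) hb
  obtain ⟨k, hk, hk1, hA⟩ := P.shift_lift hcon ha hπ
  have hkz : Commute k (z : G) := by
    have h := hA z
    rw [hz] at h
    exact mul_inv_eq_iff_eq_mul.mp h.symm
  have hkb := P.fix_twins hcon hrig ha z.2 hk hk1 hkz hb
  exact hfib (z := ⟨b, hbo⟩) (Subtype.ext (by rw [hA, hkb.eq, mul_inv_cancel_right])) hbu.symm

/-- A translation fixing two opposites is trivial. -/
theorem shift_eq_one {a : G} (ha : a ∈ D) {π : Equiv.Perm (out D a)} (hπ : π ∈ shift D a) {z o : out D a}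
    (hzo : OddAdj D (z : G) o) (hz : π z = z) (ho : π o = o) : π = 1 := by
  obtain ⟨k, hk, hk1, hA⟩ := P.shift_lift hcon ha hπ
  have key : ∀ {x : out D a}, π x = x → Commute k (x : G) := fun {x} hx => by
    have h := hA x
    rw [hx] at h
    exact mul_inv_eq_iff_eq_mul.mp h.symm
  have hcen := P.centralizes_of_fibre hcon hrig hsz ha z.2 o.2 hzo hk hk1
    (fun v hv => key (x := ⟨v, hv.1⟩) (P.shift_fix_point hcon hrig hsz ha hπ hz
      (P.fibre_commute hcon ha (⟨z.2, rfl⟩ : (z : G) ∈ fibre D a z) hv))) (key ho)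
  exact Equiv.ext fun s => Subtype.ext (by rw [hA, (hcen s s.2).eq, mul_inv_cancel_right]; rfl)

theorem shift_ext {a : G} (ha : a ∈ D) {π ρ : Equiv.Perm (out D a)} (hπ : π ∈ shift D a) (hρ : ρ ∈ shift D a)
    {z o : out D a} (hzo : OddAdj D (z : G) o) (hz : π z = ρ z) (ho : π o = ρ o) : π = ρ := by
  have := P.shift_eq_one hcon hrig hsz ha (mul_mem (inv_mem hρ) hπ) hzo
    (by rw [Equiv.Perm.mul_apply, hz, Equiv.Perm.coe_inv, Equiv.symm_apply_apply])
    (by rw [Equiv.Perm.mul_apply, ho, Equiv.Perm.coe_inv, Equiv.symm_apply_apply])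
  exact (inv_mul_eq_one.mp this).symm

/-- A translation fixing `z` is a product of two members of its fibre. -/
theorem shift_fix_gen {a : G} (ha : a ∈ D) {π : Equiv.Perm (out D a)} (hπ : π ∈ shift D a) {z o : out D a}
    (hzo : OddAdj D (z : G) o) (hz : π z = z) :
    ∃ z' : out D a, res (out D a) (z' : G) = res (out D a) z ∧ Acts π ((z : G) * z') := by
  obtain ⟨ρ, hρ, hρo, hρz, z', he, hA⟩ := P.exists_shift hcon hrig hsz ha (z := o) (o := z) (z' := π o)
    (odd_symm hzo) (P.shift_res hcon ha hπ o)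
  exact ⟨z', he, P.shift_ext hcon hrig hsz ha hπ hρ hzo (hz.trans hρz.symm) hρo.symm ▸ hA⟩

theorem card_fibre_eq {a z : G} (ha : a ∈ D) (hz : z ∈ out D a) {o : G} (ho : o ∈ out D a) :
    (fibre D a z).ncard = (fibre D a o).ncard := by
  have hr := (P.out_isSub hcon ha).conn z hz o ho
  clear ho
  induction hr with
  | refl => rfl
  | tail _ h ih =>
    have h' : OddAdj D _ _ := odd_mono P.odd (P.out_isSub hcon ha) h
    exact ih.trans (le_antisymm (P.fibre_card_le hcon ha h.2.1 h.1 (odd_symm h'))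
      (P.fibre_card_le hcon ha h.1 h.2.1 h'))

/-- The orders of the group of translations and of the part fixing a member. -/
theorem card_shift {a : G} (ha : a ∈ D) (z : out D a) :
    Nat.card (shift D a) = (fibre D a z).ncard ^ 2 ∧
      {π : Equiv.Perm (out D a) | π ∈ shift D a ∧ π z = z}.ncard = (fibre D a z).ncard := by
  obtain ⟨o', ho', hzo⟩ := P.exists_partner ha z.2
  set o : out D a := ⟨o', ho'⟩
  replace hzo : OddAdj D (z : G) (o : G) := hzo
  let Fz : Set (out D a) := {v | res (out D a) (v : G) = res (out D a) z}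
  let Fo : Set (out D a) := {v | res (out D a) (v : G) = res (out D a) o}
  have hF : ∀ x : out D a, {v : out D a | res (out D a) (v : G) = res (out D a) x}.ncard = (fibre D a x).ncard := by
    intro x
    rw [← Set.ncard_image_of_injective _ Subtype.val_injective]
    congr 1
    ext v
    exact ⟨by rintro ⟨w, hw, rfl⟩; exact ⟨w.2, hw⟩, fun hv => ⟨⟨v, hv.1⟩, hv.2, rfl⟩⟩
  have hfo : (fibre D a o).ncard = (fibre D a z).ncard := P.card_fibre_eq hcon hrig hsz ha o.2 z.2
  have himg : (fun π : Equiv.Perm (out D a) => (π z, π o)) '' (shift D a : Set (Equiv.Perm (out D a))) =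
      Fz ×ˢ Fo := by
    ext ⟨v, w⟩
    constructor
    · rintro ⟨π, hπ, e⟩
      obtain ⟨rfl, rfl⟩ := Prod.ext_iff.mp e
      exact ⟨P.shift_res hcon ha hπ z, P.shift_res hcon ha hπ o⟩
    · rintro ⟨hv, hw⟩
      obtain ⟨t, ht, htz, hto, -⟩ := P.exists_shift hcon hrig hsz ha hzo (show res (out D a) (v : G) = _ from hv)
      obtain ⟨s, hs, hso, hsz', -⟩ := P.exists_shift hcon hrig hsz ha (z := o) (o := z) (odd_symm hzo)
        (show res (out D a) (w : G) = _ from hw)
      refine ⟨t * s, mul_mem ht hs, Prod.ext ?_ ?_⟩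
      · show t (s z) = v
        rw [hsz', htz]
      · show t (s o) = w
        rw [P.shift_apply_comm hcon hrig hsz ha ht hs, hto, hso]
  constructor
  · rw [show Nat.card (shift D a) = (shift D a : Set (Equiv.Perm (out D a))).ncard from Nat.card_coe_set_eq _,
      ← Set.InjOn.ncard_image (f := fun π : Equiv.Perm (out D a) => (π z, π o)) (fun π hπ ρ hρ e => ?_), himg,
      Set.ncard_prod, hF, hF, hfo, sq]
    exact P.shift_ext hcon hrig hsz ha hπ hρ hzo (Prod.ext_iff.mp e).1 (Prod.ext_iff.mp e).2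
  · rw [← hfo, ← hF o, ← Set.InjOn.ncard_image (f := fun π : Equiv.Perm (out D a) => π o)
      (s := {π : Equiv.Perm (out D a) | π ∈ shift D a ∧ π z = z})
      (fun π hπ ρ hρ e => P.shift_ext hcon hrig hsz ha hπ.1 hρ.1 hzo (hπ.2.trans hρ.2.symm) e)]
    congr 1
    ext w
    constructor
    · rintro ⟨π, ⟨hπ, -⟩, rfl⟩
      exact P.shift_res hcon ha hπ o
    · intro hw
      obtain ⟨s, hs, hso, hsz', -⟩ := P.exists_shift hcon hrig hsz ha (z := o) (o := z) (odd_symm hzo) hw
      exact ⟨s, ⟨hs, hsz'⟩, hso⟩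

end IsClassPair

end CfsgLib.OddTrans
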