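import Cfsg.Agent.Lib.OddTrans.SzExcl

/-!
A simple pair with a connected commuting graph has triangles.
-/

set_option autoImplicit false
set_option linter.unusedSectionVars false
set_option linter.style.haveILetI false

namespace CfsgLib.OddTrans

open Cfsg MulAction CfsgLib.RankOnePoint
open CfsgLib.RootInv (mul_self inv_eq ne_one odd_symm odd_conj)

universe u

variable {G : Type u} [Group G] [Finite G] {D : Set G}

namespace IsClassPair

variable (P : IsClassPair G D) (hcon : IsConnectedSet (CommAdj D) D)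
include P hcon

/-- Triangles in one residual give triangles. -/
theorem triangle_of_residual (hrig : IsRigid D) {y₀ : G} (hy₀ : y₀ ∈ D) (h : HasTriangle (img (out D y₀))) :
    HasTriangle D := by
  intro a w haw
  have hD := P.odd
  obtain ⟨y, hya, hyw⟩ := hrig.good a w haw
  obtain ⟨g, rfl⟩ := P.cl.2.2 y₀ hy₀ y hya.1
  have ha0 : g⁻¹ * a * g ∈ out D y₀ := by
    have := out_conj hD _ g⁻¹ (out_symm haw.1 hya)
    rwa [show g⁻¹ * (g * y₀ * g⁻¹) * g⁻¹⁻¹ = y₀ by group, inv_inv] at this
  have hw0 : g⁻¹ * w * g ∈ out D y₀ := by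
    have := out_conj hD _ g⁻¹ (out_symm haw.2.1 hyw)
    rwa [show g⁻¹ * (g * y₀ * g⁻¹) * g⁻¹⁻¹ = y₀ by group, inv_inv] at this
  have hodd : OddAdj D (g⁻¹ * a * g) (g⁻¹ * w * g) := by
    have := odd_conj hD.1 g⁻¹ haw
    rwa [inv_inv] at this
  have hS := P.out_isSub hcon hy₀
  have hy0a : y₀ ∈ out D (g⁻¹ * a * g) := out_symm hy₀ ha0
  obtain ⟨B, hB, h3⟩ := h _ _ (odd_res hD hS ha0 hw0 hodd)
  obtain ⟨b, hb, rfl⟩ := hrig.full _ ha0.1 y₀ hy0a hB
  have hbo := P.twin_mem_out ha0.1 hy0a hb
  have hbw := odd_twin hD hodd hb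
  set w₀ := g⁻¹ * w * g
  have hmem : b * w₀ ∈ Subgroup.closure (out D y₀) :=
    mul_mem (Subgroup.subset_closure hbo) (Subgroup.subset_closure hw0)
  have hb3 : (b * w₀) ^ 3 = 1 := by
    refine eq_one_of_inverted hD hS (pow_mem hmem 3) (Subgroup.subset_closure hbo)
      (hbw.2.2.2.of_dvd_nat (orderOf_pow_dvd 3)) ?_ ?_
    · rw [← conj_pow, inv_eq hD.1 hbo.1, ← mul_assoc b b, mul_self hD.1 hbo.1, one_mul, ← inv_pow, mul_inv_rev,
        inv_eq hD.1 hbo.1, inv_eq hD.1 hw0.1]
    · rw [res_pow hmem, res_mul (Subgroup.subset_closure hbo) (Subgroup.subset_closure hw0), ← h3,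
        pow_orderOf_eq_one]
  have hord : orderOf (b * w₀) = 3 := by
    haveI : Fact (Nat.Prime 3) := ⟨Nat.prime_three⟩
    exact orderOf_eq_prime hb3 fun e => hbw.2.2.1 (by rw [mul_eq_one_iff_eq_inv.mp e, inv_eq hD.1 hw0.1])
  refine ⟨g * b * g⁻¹, ⟨hD.1.conj_mem b hb.1 g, ?_⟩, ?_⟩
  · rw [show a = g * (g⁻¹ * a * g) * g⁻¹ by group, commutingMembers_conj hD, commutingMembers_conj hD, hb.2]
  · rw [← hord, show g * b * g⁻¹ * w = MulAut.conj g (b * w₀) by simp only [MulAut.conj_apply, w₀]; group]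
    exact MulEquiv.orderOf_eq _ _

end IsClassPair

/-- The inductive statement. -/
theorem triangle_of_card : ∀ n : ℕ, ∀ {G : Type u} [Group G] [Finite G] {D : Set G}, IsClassPair G D →
    IsConnectedSet (CommAdj D) D → Nat.card G ≤ n → HasTriangle D := by
  intro n
  induction n with
  | zero =>
    intro G _ _ D _ _ h
    exact absurd h (by have := Nat.card_pos (α := G); omega)
  | succ n ih =>
    intro G _ _ D P hcon h
    have hrig := P.rigid hcon
    by_contra hno
    have hnone : ∀ a ∈ D, ¬ HasTriangle (img (out D a)) := fun a ha ht =>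
      hno (P.triangle_of_residual hcon hrig ha ht)
    refine P.not_suzukiResiduals hcon hrig fun a ha => ?_
    have hnc : ¬ IsConnectedSet (CommAdj (img (out D a))) (img (out D a)) := fun hc => by
      refine hnone a ha (ih (P.residual hcon ha) hc ?_)
      have h1 := P.closure_lt ha (S := out D a) fun s hs => hs.2.1
      have h2 : Nat.card (Res (out D a)) ≤ Nat.card (Subgroup.closure (out D a)) :=
        Nat.card_le_card_of_surjective _ (QuotientGroup.mk'_surjective _)
      omega
    obtain ⟨m, p, e, R⟩ := exists_rankOne (P.residual hcon ha) hnc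
    haveI := R.pair.simple
    obtain rfl : p = (2 ^ m) ^ 2 := by_contra fun hp => hnone a ha (R.hasTriangle hp)
    obtain rfl : e = 1 := by
      have h4 := R.facts.q_four
      rcases R.facts.kind with ⟨-, he⟩ | ⟨-, -, he⟩ | ⟨hk, -⟩
      · exact he
      · exact he
      · have : (2 ^ m) ^ 2 < (2 ^ m) ^ 3 := Nat.pow_lt_pow_right (by omega) (by norm_num)
        omega
    exact ⟨m, R⟩

theorem IsClassPair.hasTriangle (P : IsClassPair G D) (hcon : IsConnectedSet (CommAdj D) D) : HasTriangle D :=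
  triangle_of_card (Nat.card G) P hcon le_rfl

end CfsgLib.OddTrans
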